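import Mathlib.LinearAlgebra.FiniteDimensional.Lemmas
import Mathlib.FieldTheory.IsAlgClosed.Basic
import Mathlib.LinearAlgebra.Dimension.Constructions
import Mathlib.Tactic.LinearCombination
import Mathlib.Tactic.Module

/-!
Endomorphisms squaring to a scalar quadratic form with non-degenerate polar form force the
dimension of a spin module.
-/

set_option autoImplicit false

namespace Cfsg.Agent.AltSection

open Module

variable {k : Type*} [Field k] [IsAlgClosed k]

theorem exists_isotropic {E : Type*} [AddCommGroup E] [Module k E] (Q : E → k)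
    (B : E →ₗ[k] E →ₗ[k] k) (hQs : ∀ (a : k) x, Q (a • x) = a * a * Q x)
    (hQa : ∀ x y, Q (x + y) = Q x + Q y + B x y) {u v : E} (huv : LinearIndependent k ![u, v]) :
    ∃ x : E, x ≠ 0 ∧ Q x = 0 := by
  by_cases hu : Q u = 0
  · exact ⟨u, huv.ne_zero 0, hu⟩
  obtain ⟨a, ha⟩ := IsAlgClosed.exists_root
    (Polynomial.C (Q u) * Polynomial.X ^ 2 + Polynomial.C (B u v) * Polynomial.X
      + Polynomial.C (Q v)) (by rw [Polynomial.degree_quadratic hu]; decide)
  refine ⟨a • u + v, fun h => ?_, ?_⟩
  · have := LinearIndependent.pair_iff.1 huv a 1 (by rw [one_smul]; exact h)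
    exact one_ne_zero this.2
  · rw [hQa, hQs, map_smul, LinearMap.smul_apply, smul_eq_mul]
    simp only [Polynomial.IsRoot, Polynomial.eval_add, Polynomial.eval_mul, Polynomial.eval_C,
      Polynomial.eval_pow, Polynomial.eval_X] at ha
    linear_combination ha

/-- The Clifford bound. -/
theorem pow_le_finrank (j : ℕ) : ∀ {E : Type*} [AddCommGroup E] [Module k E] [FiniteDimensional k E]
    {U : Type*} [AddCommGroup U] [Module k U] [FiniteDimensional k U] [Nontrivial U]
    (Λ : E →ₗ[k] Module.End k U) (Q : E → k) (B : E →ₗ[k] E →ₗ[k] k),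
    (∀ (a : k) x, Q (a • x) = a * a * Q x) → (∀ x y, Q (x + y) = Q x + Q y + B x y) →
    (∀ x, Λ x * Λ x = Q x • 1) → (∀ x, (∀ y, B x y = 0) → x = 0) →
    finrank k E = 2 * j → 2 ^ j ≤ finrank k U := by
  induction j with
  | zero =>
    intro E _ _ _ U _ _ _ _ Λ Q B _ _ _ _ _
    rw [pow_zero]
    exact Module.finrank_pos
  | succ j ih =>
    intro E _ _ _ U _ _ _ _ Λ Q B hQs hQa hΛ hnd hE
    obtain ⟨f, hf⟩ : ∃ f : Fin (2 * (j + 1)) → E, LinearIndependent k f :=
      ⟨_, (Module.finBasisOfFinrankEq k E hE).linearIndependent⟩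
    have huv : LinearIndependent k ![f ⟨0, by omega⟩, f ⟨1, by omega⟩] := by
      have := hf.comp ![(⟨0, by omega⟩ : Fin (2 * (j + 1))), ⟨1, by omega⟩] (by
        intro a b; fin_cases a <;> fin_cases b <;> simp)
      convert this using 1
      ext i; fin_cases i <;> simp
    obtain ⟨v, hv0, hQv⟩ := exists_isotropic Q B hQs hQa huv
    obtain ⟨w₀, hw₀⟩ : ∃ w, B v w ≠ 0 := by
      by_contra! h
      exact hv0 (hnd v h)
    have hQ0 : Q 0 = 0 := by simpa using hQs 0 0
    have hQ2 : ∀ x, B x x = 2 * Q x := fun x => by
      have h1 := hQa x x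
      rw [← two_smul k x, hQs] at h1
      linear_combination -h1
    have hsymm : ∀ x y, B x y = B y x := fun x y => by
      have h1 := hQa x y; have h2 := hQa y x; rw [add_comm y x] at h2
      linear_combination h2 - h1
    set w₁ := (B v w₀)⁻¹ • w₀ with hw₁d
    have hB1 : B v w₁ = 1 := by rw [hw₁d, map_smul, smul_eq_mul, inv_mul_cancel₀ hw₀]
    clear_value w₁
    set w := (-Q w₁) • v + w₁ with hwd
    have hBvw : B v w = 1 := by
      rw [hwd, map_add, map_smul, smul_eq_mul, hQ2, hQv, hB1]; ring
    have hQw : Q w = 0 := by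
      rw [hwd, hQa, hQs, map_smul, LinearMap.smul_apply, hB1, hQv, smul_eq_mul]; ring
    have anti : ∀ x y, Λ x * Λ y + Λ y * Λ x = B x y • 1 := fun x y => by
      have h1 := hΛ (x + y)
      rw [hQa, map_add, add_mul, mul_add, mul_add, hΛ x, hΛ y] at h1
      linear_combination (norm := module) h1
    set a := Λ v with had
    set b := Λ w with hbd
    have ha : a * a = 0 := by rw [had, hΛ, hQv, zero_smul]
    have hab : a * b + b * a = 1 := by rw [had, hbd, anti, hBvw, one_smul]
    set K := LinearMap.ker a with hK
    have hK2 : finrank k U = 2 * finrank k K := by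
      have hr : LinearMap.range a = K := by
        apply le_antisymm
        · rintro _ ⟨x, rfl⟩
          exact LinearMap.congr_fun ha x
        · intro x hx
          refine ⟨b x, ?_⟩
          have := LinearMap.congr_fun hab x
          simpa [LinearMap.mem_ker.1 hx] using this
      have := LinearMap.finrank_range_add_finrank_ker a
      rw [hr] at this
      exact this.symm.trans (two_mul _).symm
    have hKn : Nontrivial K := Module.nontrivial_of_finrank_pos (R := k) (by
      have : 0 < finrank k U := Module.finrank_pos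
      omega)
    let φ : E →ₗ[k] k × k := (B v).prod (B w)
    let E' := LinearMap.ker φ
    have hE'rank : finrank k E' = 2 * j := by
      have hs : Function.Surjective φ := by
        intro z
        refine ⟨z.2 • v + z.1 • w, ?_⟩
        have hvv : B v v = 0 := by rw [hQ2, hQv, mul_zero]
        have hww : B w w = 0 := by rw [hQ2, hQw, mul_zero]
        simp [φ, hvv, hww, hBvw, hsymm w v]
      have := LinearMap.finrank_range_add_finrank_ker φ
      rw [LinearMap.range_eq_top.2 hs, finrank_top, finrank_prod, finrank_self, hE] at this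
      show finrank k (LinearMap.ker φ) = _
      omega
    have hmemE : ∀ x : E', B v x = 0 ∧ B w x = 0 := fun x => by
      have h0 : φ (x : E) = 0 := x.2
      exact ⟨congr_arg Prod.fst h0, congr_arg Prod.snd h0⟩
    have hinv : ∀ x : E', ∀ u ∈ K, Λ x u ∈ K := by
      intro x u hu
      have := LinearMap.congr_fun (anti v x) u
      rw [(hmemE x).1, zero_smul] at this
      rw [hK, LinearMap.mem_ker] at hu ⊢
      simpa [← had, hu] using this
    let Λ' : E' →ₗ[k] Module.End k K :=
      { toFun := fun x => (Λ x).restrict (hinv x)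
        map_add' := fun x y => by ext u; simp
        map_smul' := fun c x => by ext u; simp }
    have hnd' : ∀ x : E', (∀ y : E', B.compl₁₂ E'.subtype E'.subtype x y = 0) → x = 0 := by
      intro x hx
      apply Subtype.ext
      refine hnd _ fun y => ?_
      have hy : y - B w y • v - B v y • w ∈ E' := by
        show φ _ = 0
        have hvv : B v v = 0 := by rw [hQ2, hQv, mul_zero]
        have hww : B w w = 0 := by rw [hQ2, hQw, mul_zero]
        simp [φ, hvv, hww, hBvw, hsymm w v]
      have := hx ⟨_, hy⟩
      simp only [LinearMap.compl₁₂_apply, Submodule.subtype_apply, map_sub, map_smul,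
        hsymm (x : E) v, hsymm (x : E) w, (hmemE x).1, (hmemE x).2, smul_zero, sub_zero] at this
      exact this
    have := ih Λ' (fun x => Q x) (B.compl₁₂ E'.subtype E'.subtype) (fun c x => hQs c x)
      (fun x y => hQa x y) (fun x => by
        ext u
        simpa [Λ'] using LinearMap.congr_fun (hΛ x) (u : U)) hnd' hE'rank
    rw [pow_succ]
    omega

end Cfsg.Agent.AltSection
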