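import Cfsg.Agent.Lib.AltSection.TriSys
import Cfsg.Agent.Lib.AltSection.Clifford
import Mathlib.Algebra.BigOperators.Fin
import Mathlib.Tactic.Module
import Mathlib.Tactic.LinearCombination

/-!
Systems in which every three-cycle is fixed-point-free satisfy Clifford relations.
-/

set_option autoImplicit false
set_option linter.unusedSimpArgs false
set_option linter.unusedSectionVars false

namespace Cfsg.Agent.AltSection

open Module

/-- The form `Σ_{i ≤ j} aᵢ aⱼ`. -/
def qf {k : Type*} [Field k] : ∀ {m : ℕ}, (Fin m → k) → k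
  | 0, _ => 0
  | _ + 1, a => a 0 * a 0 + a 0 * (∑ i, Fin.tail a i) + qf (Fin.tail a)

theorem qf_smul {k : Type*} [Field k] {m : ℕ} (c : k) (a : Fin m → k) :
    qf (c • a) = c * c * qf a := by
  induction m with
  | zero => simp [qf]
  | succ m ih =>
    have e : Fin.tail (c • a) = c • Fin.tail a := rfl
    simp only [qf, e, ih, Pi.smul_apply, smul_eq_mul, ← Finset.mul_sum]
    ring

theorem qf_add {k : Type*} [Field k] {m : ℕ} (a b : Fin m → k) :
    qf (a + b) = qf a + qf b + (∑ i, a i * b i) + (∑ i, a i) * ∑ i, b i := by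
  induction m with
  | zero => simp [qf]
  | succ m ih =>
    have e : Fin.tail (a + b) = Fin.tail a + Fin.tail b := rfl
    simp only [qf, e, ih, Pi.add_apply, Finset.sum_add_distrib, Fin.sum_univ_succ, Fin.tail]
    ring

variable {k : Type*} [Field k] {V : Type*} [AddCommGroup V] [Module k V]

theorem sq_sum {m : ℕ} (x : Fin m → Module.End k V) (hx : ∀ i, x i * x i = -(1 + x i))
    (hxy : ∀ i j, i ≠ j → x i * x j + x j * x i = -(1 + x i + x j)) (a : Fin m → k) :
    (∑ i, a i • x i) * (∑ i, a i • x i) = -((∑ i, a i) • ∑ i, a i • x i) - qf a • 1 := by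
  induction m with
  | zero => simp [qf]
  | succ m ih =>
    have h := ih (fun i => x i.succ) (fun i => hx _)
      (fun i j hij => hxy _ _ (Fin.succ_injective _ |>.ne hij)) (Fin.tail a)
    simp only [Fin.tail] at h
    simp only [Fin.sum_univ_succ, qf, Fin.tail]
    set X := ∑ i : Fin m, a i.succ • x i.succ with hX
    set s := ∑ i : Fin m, a i.succ with hs
    have hc : x 0 * X + X * x 0 = -(s • 1 + s • x 0 + X) := by
      rw [hX, hs, Finset.mul_sum, Finset.sum_mul, ← Finset.sum_add_distrib, Finset.sum_smul,
        Finset.sum_smul, ← Finset.sum_add_distrib, ← Finset.sum_add_distrib,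
        ← Finset.sum_neg_distrib]
      refine Finset.sum_congr rfl fun i _ => ?_
      rw [mul_smul_comm, smul_mul_assoc, ← smul_add, hxy 0 i.succ (Fin.succ_ne_zero i).symm]
      module
    rw [add_mul, mul_add, mul_add, smul_mul_smul_comm, hx, smul_mul_assoc, mul_smul_comm, h]
    have hc' : a 0 • (x 0 * X) + a 0 • (X * x 0) = a 0 • -(s • (1 : Module.End k V) + s • x 0 + X) := by
      rw [← smul_add, hc]
    linear_combination (norm := module) hc'

namespace TriSys

variable {r : ℕ} (S : TriSys k V r)

theorem anticomm (hr : 8 ≤ r) [Nontrivial V] (h3 : (3 : k) ≠ 0)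
    (hf : ∀ a b c, D3 a b c → 1 + S.L a b c + S.L a b c * S.L a b c = 0)
    {a b c d : Fin r} (h : [a, b, c, d].Nodup) :
    S.L a b c * S.L b c d + S.L b c d * S.L a b c = -(1 + S.L a b c + S.L b c d) := by
  obtain ⟨κ, hκ1, hκ⟩ := S.exists_kappa (by omega)
  have sq : ∀ a b c, D3 a b c → S.L a c b = -(1 + S.L a b c) := fun a b c h => by
    rw [S.swap_eq_sq h]; linear_combination (norm := module) hf a b c h
  have key : ∀ a b c d, [a, b, c, d].Nodup →
      S.L a b c * S.L b c d = κ • ((1 + S.L b c d) * (1 + S.L a b c)) := by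
    intro a b c d h
    have h' := h
    simp only [List.nodup_cons, List.mem_cons, List.not_mem_nil, or_false, not_or] at h'
    obtain ⟨⟨hab, hac, had⟩, ⟨hbc, hbd⟩, hcd, -⟩ := h'
    have hx : D3 a b c := ⟨hab, hbc, Ne.symm hac⟩
    have hy : D3 b c d := ⟨hbc, hcd, Ne.symm hbd⟩
    have e := congr((S.L b d c * S.L a c b) * $(hκ a b c d h))
    rw [Tq, mul_smul_comm, mul_one] at e
    have l : S.L b d c * S.L a c b * (S.L a b c * S.L b c d * (S.L a b c * S.L b c d))
        = S.L a b c * S.L b c d := by
      simp only [mul_assoc]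
      rw [← mul_assoc (S.L a c b) (S.L a b c), S.inv_mul hx, one_mul,
        ← mul_assoc (S.L b d c) (S.L b c d), S.inv_mul hy, one_mul]
    rw [l, sq b c d hy, sq a b c hx, neg_mul_neg] at e
    exact e
  have h' := h
  simp only [List.nodup_cons, List.mem_cons, List.not_mem_nil, or_false, not_or] at h'
  obtain ⟨⟨hab, hac, had⟩, ⟨hbc, hbd⟩, hcd, -⟩ := h'
  have e1 := key a b c d h
  have hκcases : κ = 1 ∨ κ = -1 := by
    have : (κ - 1) * (κ + 1) = 0 := by linear_combination hκ1
    rcases mul_eq_zero.1 this with h | h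
    · exact Or.inl (sub_eq_zero.1 h)
    · exact Or.inr (eq_neg_of_add_eq_zero_left h)
  rcases hκcases with rfl | rfl
  · by_cases h2 : (2 : k) = 0
    · have h11 : (1 : k) = -1 := by linear_combination h2
      rw [h11] at e1
      rw [e1, add_mul, mul_add, mul_add]
      simp only [one_mul, mul_one, neg_smul, one_smul]
      abel
    exfalso
    have all : ∀ a b c d, [a, b, c, d].Nodup → S.L b c d = S.L a c b := by
      intro a b c d h
      have e1 := key a b c d h
      simp only [List.nodup_cons, List.mem_cons, List.not_mem_nil, or_false, not_or] at h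
      obtain ⟨⟨hab, hac, had⟩, ⟨hbc, hbd⟩, hcd, -⟩ := h
      have hx : D3 a b c := ⟨hab, hbc, Ne.symm hac⟩
      have hy : D3 b c d := ⟨hbc, hcd, Ne.symm hbd⟩
      have e2 := key d b c a (by
        simp [hbc, Ne.symm hbd, Ne.symm hcd, Ne.symm had, Ne.symm hab, Ne.symm hac])
      rw [← S.rot' hy, ← S.rot a b c hx] at e2
      rw [one_smul, add_mul, mul_add, mul_add] at e1 e2
      simp only [one_mul, mul_one] at e1 e2
      have h0 : (2 : k) • (1 + S.L a b c + S.L b c d) = 0 := by
        linear_combination (norm := module) (-1 : k) • e1 + (-1 : k) • e2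
      rw [sq a b c hx]
      linear_combination (norm := module) (smul_eq_zero.1 h0).resolve_left h2
    have ht : S.Triv := S.triv_of_eq (by omega) fun b c d e h => by
      obtain ⟨g, hg, hg'⟩ := exists_fresh (r := r) (m := 1) [b, c, d, e] (by simp; omega)
      have h0 := hg' 0
      simp only [List.mem_cons, List.not_mem_nil, or_false, not_or] at h0
      simp only [List.nodup_cons, List.mem_cons, List.not_mem_nil, or_false, not_or] at h
      obtain ⟨⟨hbc, hbd, hbe⟩, ⟨hcd, hce⟩, hde, -⟩ := h
      rw [all (g 0) b c d (by simp [h0, hbc, hbd, hcd]), all (g 0) b c e (by simp [h0, hbc, hbe, hce])]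
    have hx : D3 a b c := ⟨hab, hbc, Ne.symm hac⟩
    have := hf a b c hx
    rw [ht a b c hx, mul_one, show (1 : Module.End k V) + 1 + 1 = (3 : k) • 1 by module] at this
    exact one_ne_zero (α := Module.End k V) ((smul_eq_zero.1 this).resolve_left h3)
  · rw [e1, add_mul, mul_add, mul_add]
    simp only [one_mul, mul_one, neg_smul, one_smul]
    abel

theorem fpf_bound [IsAlgClosed k] [FiniteDimensional k V] [Nontrivial V] (h3 : (3 : k) ≠ 0)
    (hr : (r = 10 ∧ (r : k) ≠ 0) ∨ 11 ≤ r)
    (hf : ∀ a b c, D3 a b c → 1 + S.L a b c + S.L a b c * S.L a b c = 0) :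
    16 ≤ finrank k V := by
  classical
  obtain ⟨p, hp, -⟩ := exists_fresh (r := r) (m := r) [] (by simp)
  have hne : ∀ {i j : Fin r}, i ≠ j → p i ≠ p j := fun h => hp.ne h
  let o : Fin r := p ⟨0, by omega⟩
  let q : Fin r := p ⟨1, by omega⟩
  let g : Fin (r - 2) → Fin r := fun i => p ⟨i.1 + 2, by omega⟩
  have hog : ∀ i, o ≠ g i := fun i => hne (by simp [Fin.ext_iff])
  have hqg : ∀ i, q ≠ g i := fun i => hne (by simp [Fin.ext_iff])
  have hoq : o ≠ q := hne (by simp [Fin.ext_iff])
  let x : Fin (r - 2) → Module.End k V := fun i => S.L o q (g i)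
  have hx : ∀ i, x i * x i = -(1 + x i) := fun i => by
    linear_combination (norm := module) hf _ _ _ (⟨hoq, hqg i, (hog i).symm⟩ : D3 o q (g i))
  have hxy : ∀ i j, i ≠ j → x i * x j + x j * x i = -(1 + x i + x j) := by
    intro i j hij
    have hgg : g i ≠ g j := hne (by simp [Fin.ext_iff]; omega)
    have e := S.anticomm (by omega) h3 hf (a := g i) (b := o) (c := q) (d := g j)
      (by simp [hgg, Ne.symm (hog i), Ne.symm (hqg i), hoq, hog j, hqg j])
    rw [← S.rot' (a := o) (b := q) (c := g i) ⟨hoq, hqg i, (hog i).symm⟩] at e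
    exact e
  let Bq : (Fin (r - 2) → k) →ₗ[k] (Fin (r - 2) → k) →ₗ[k] k :=
    LinearMap.mk₂ k (fun a b => (∑ i, a i * b i) + (∑ i, a i) * ∑ i, b i)
      (fun a a' b => by simp only [Pi.add_apply, add_mul, Finset.sum_add_distrib]; ring)
      (fun c a b => by simp only [Pi.smul_apply, smul_eq_mul, mul_assoc, ← Finset.mul_sum]; ring)
      (fun a b b' => by simp only [Pi.add_apply, mul_add, Finset.sum_add_distrib]; ring)
      (fun c a b => by
        simp only [Pi.smul_apply, smul_eq_mul, mul_left_comm _ c, ← Finset.mul_sum]; ring)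
  let sm : (Fin (r - 2) → k) →ₗ[k] k := ∑ i, LinearMap.proj i
  have hsm : ∀ a, sm a = ∑ i, a i := fun a => by simp [sm]
  let X : (Fin (r - 2) → k) →ₗ[k] Module.End k V :=
    ∑ i, (LinearMap.proj i).smulRight (x i)
  have hX : ∀ a, X a = ∑ i, a i • x i := fun a => by simp [X]
  rcases hr with ⟨h10, hp10⟩ | h11
  · subst h10
    have h2 : (2 : k) ≠ 0 := fun h => hp10 (by push_cast; linear_combination 5 * h)
    have h5 : (5 : k) ≠ 0 := fun h => hp10 (by push_cast; linear_combination 2 * h)
    refine pow_le_finrank (k := k) 4 (E := Fin 8 → k) (U := V)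
      ((2 : k) • X + sm.smulRight (1 : Module.End k V))
      (fun a => (∑ i, a i) * (∑ i, a i) - 4 * qf a)
      (LinearMap.mk₂ k (fun a b => 2 * ((∑ i, a i) * ∑ i, b i) - 4 * Bq a b)
        (fun a a' b => by simp only [map_add, LinearMap.add_apply, Pi.add_apply, Finset.sum_add_distrib]; ring)
        (fun c a b => by simp only [map_smul, LinearMap.smul_apply, Pi.smul_apply, smul_eq_mul, ← Finset.mul_sum]; ring)
        (fun a b b' => by simp only [map_add, Pi.add_apply, Finset.sum_add_distrib]; ring)
        (fun c a b => by simp only [map_smul, Pi.smul_apply, smul_eq_mul, ← Finset.mul_sum]; ring))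
      (fun c a => by simp only [qf_smul, Pi.smul_apply, smul_eq_mul, ← Finset.mul_sum]; ring)
      (fun a b => by
        simp only [LinearMap.mk₂_apply, qf_add, Bq, Pi.add_apply, Finset.sum_add_distrib]; ring)
      (fun a => ?_) (fun a ha => ?_) (by simp)
    · simp only [LinearMap.add_apply, LinearMap.smul_apply, LinearMap.smulRight_apply, hsm, hX,
        add_mul, mul_add, smul_mul_assoc, mul_smul_comm, one_mul, mul_one, sq_sum x hx hxy]
      module
    · have h : ∀ j, -4 * a j - 2 * (∑ i, a i) = 0 := by
        intro j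
        have := ha (Pi.single j 1)
        simp [Bq, Pi.single_apply, Finset.sum_ite_eq'] at this
        linear_combination this
      have hs : (∑ i, a i) = 0 := by
        have e := Finset.sum_congr (rfl : (Finset.univ : Finset (Fin 8)) = _) (fun j _ => h j)
        simp only [Finset.sum_sub_distrib, ← Finset.mul_sum, Finset.sum_const, Finset.card_univ,
          Fintype.card_fin, nsmul_eq_mul, Finset.sum_const_zero] at e
        have : (2 : k) * (2 * (5 * ∑ i, a i)) = 0 := by push_cast at e; linear_combination -e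
        simpa [h2, h5] using this
      ext j
      have := h j
      rw [hs] at this
      have : (2 : k) * (2 * a j) = 0 := by linear_combination -this
      simpa [h2] using this
  · let ι : Fin 9 → Fin (r - 2) := fun i => ⟨i.1, by omega⟩
    have hι : Function.Injective ι := fun i j h => by simpa [ι, Fin.ext_iff] using h
    let s9 : (Fin 9 → k) →ₗ[k] k := ∑ i, LinearMap.proj i
    have hs9 : ∀ a, s9 a = ∑ i, a i := fun a => by simp [s9]
    let X9 : (Fin 9 → k) →ₗ[k] Module.End k V := ∑ i, (LinearMap.proj i).smulRight (x (ι i))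
    have hX9 : ∀ a, X9 a = ∑ i, a i • x (ι i) := fun a => by simp [X9]
    let B9 : LinearMap.ker s9 →ₗ[k] LinearMap.ker s9 →ₗ[k] k :=
      LinearMap.mk₂ k (fun a b => -∑ i, (a : Fin 9 → k) i * (b : Fin 9 → k) i)
        (fun a a' b => by simp only [Submodule.coe_add, Pi.add_apply, add_mul, Finset.sum_add_distrib]; ring)
        (fun c a b => by simp only [Submodule.coe_smul, Pi.smul_apply, smul_eq_mul, mul_assoc, ← Finset.mul_sum]; ring)
        (fun a b b' => by simp only [Submodule.coe_add, Pi.add_apply, mul_add, Finset.sum_add_distrib]; ring)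
        (fun c a b => by simp only [Submodule.coe_smul, Pi.smul_apply, smul_eq_mul, mul_left_comm _ c, ← Finset.mul_sum]; ring)
    refine pow_le_finrank (k := k) 4 (E := LinearMap.ker s9) (U := V)
      (X9 ∘ₗ (LinearMap.ker s9).subtype) (fun a => -qf (a : Fin 9 → k)) B9
      (fun c a => by simp only [Submodule.coe_smul, qf_smul]; ring)
      (fun a b => by
        have h0 : ∑ i, (a : Fin 9 → k) i = 0 := (hs9 _).symm.trans a.2
        simp only [Submodule.coe_add, qf_add, h0, B9, LinearMap.mk₂_apply]; ring)
      (fun a => ?_) (fun a ha => ?_) ?_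
    · have h0 : ∑ i, (a : Fin 9 → k) i = 0 := (hs9 _).symm.trans a.2
      simp only [LinearMap.comp_apply, Submodule.subtype_apply, hX9,
        sq_sum (fun i => x (ι i)) (fun i => hx _) (fun i j h => hxy _ _ (hι.ne h)), h0]
      module
    · have hc : ∀ i j, (a : Fin 9 → k) i = (a : Fin 9 → k) j := by
        intro i j
        have hb : Pi.single i 1 - Pi.single j 1 ∈ LinearMap.ker s9 := by
          show s9 _ = 0
          simp [hs9, Finset.sum_sub_distrib]
        have := ha ⟨_, hb⟩
        simp [B9, Pi.single_apply, mul_sub, Finset.sum_sub_distrib] at this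
        linear_combination -this
      have h0 : ∑ i, (a : Fin 9 → k) i = 0 := (hs9 _).symm.trans a.2
      rw [Finset.sum_congr rfl (fun i _ => hc i 0)] at h0
      simp at h0
      have h9 : (9 : k) ≠ 0 := by
        intro h
        exact h3 ((mul_self_eq_zero).1 (by linear_combination h))
      ext i
      rw [hc i 0]
      simpa [h9] using h0
    · have hs : Function.Surjective s9 := fun c => ⟨Pi.single 0 c, by simp [hs9]⟩
      have := LinearMap.finrank_range_add_finrank_ker s9
      rw [LinearMap.range_eq_top.2 hs, finrank_top, finrank_self, finrank_pi, Fintype.card_fin] at this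
      omega

end TriSys

end Cfsg.Agent.AltSection
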