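import Cfsg.Agent.Lib.AltSection.TriSys
import Mathlib.Algebra.BigOperators.Group.Finset.Basic
import Mathlib.LinearAlgebra.Dimension.Constructions
import Mathlib.Tactic.Module
import Mathlib.Tactic.LinearCombination

/-!
An equivariant family of planes indexed by triples of points forces the deleted permutation module.
-/

set_option autoImplicit false
set_option linter.unusedSimpArgs false
set_option linter.unusedSectionVars false

namespace Cfsg.Agent.AltSection

open Module Equiv

namespace TriSys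

variable {k : Type*} [Field k] {V : Type*} [AddCommGroup V] [Module k V] {r : ℕ}
  (S : TriSys k V r)

/-- A family of planes behaving like those of the deleted permutation module. -/
structure Planes where
  P : Fin r → Fin r → Fin r → Submodule k V
  rank : ∀ a b c, D3 a b c → finrank k (P a b c) = 2
  move : ∀ σ T, S.Moves σ T → ∀ a b c, D3 a b c → ∀ v ∈ P a b c,
    (T : Module.End k V) v ∈ P (σ a) (σ b) (σ c)
  rot : ∀ a b c, D3 a b c → P a b c = P b c a
  swap : ∀ a b c, D3 a b c → P a b c = P a c b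
  ann : ∀ a b c, D3 a b c → ∀ v ∈ P a b c, v + S.L a b c v + S.L a b c (S.L a b c v) = 0
  fix : ∀ a b c d e f, [a, b, c, d, e, f].Nodup → ∀ v ∈ P a b c, S.L d e f v = v
  nofix : ∀ a b c, D3 a b c → ∀ v ∈ P a b c, (∀ d e f, D3 d e f → S.L d e f v = v) → v = 0
  small : ∀ a b c d, [a, b, c, d].Nodup → finrank k ↥(P a b c ⊔ P a b d) ≤ 3

namespace Planes

variable {S} [FiniteDimensional k V] (Q : S.Planes)

/-- The common line of the planes through two points. -/
def Line (a b : Fin r) (v : V) : Prop := ∀ e, D3 a b e → v ∈ Q.P a b e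

theorem fix_all (hr : 9 ≤ r) {v : V} (hv : ∀ a b c, D3 a b c → v ∈ Q.P a b c) (d e f : Fin r)
    (h : D3 d e f) : S.L d e f v = v := by
  obtain ⟨g, hg, hg'⟩ := exists_fresh (r := r) (m := 3) [d, e, f] (by simp; omega)
  refine Q.fix (g 0) (g 1) (g 2) d e f ?_ v
    (hv _ _ _ ⟨hg.ne (by decide), hg.ne (by decide), hg.ne (by decide)⟩)
  have h0 := hg' 0; have h1 := hg' 1; have h2 := hg' 2
  simp only [List.mem_cons, List.not_mem_nil, or_false, not_or] at h0 h1 h2
  simp [hg.eq_iff, h0, h1, h2, h.1, h.2.1, h.2.2.symm]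

theorem eq_of_eq (hr : 9 ≤ r) {a b c d : Fin r} (h : [a, b, c, d].Nodup)
    (he : Q.P a b c = Q.P a b d) : False := by
  simp only [List.nodup_cons, List.mem_cons, List.not_mem_nil, or_false, not_or] at h
  obtain ⟨⟨hab, hac, had⟩, ⟨hbc, hbd⟩, hcd, -⟩ := h
  have step : ∀ p q s t : Fin r, [p, q, s, t].Nodup → Q.P p q s = Q.P p q t := by
    intro p q s t hn
    obtain ⟨σ, T, hσ, hT⟩ := S.exists_move [a, b, c, d] [p, q, s, t]
      (by simp [*]) hn rfl (by simp; omega)
    simp only [List.map_cons, List.map_nil, List.cons.injEq, and_true] at hσ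
    simp only [List.nodup_cons, List.mem_cons, List.not_mem_nil, or_false, not_or] at hn
    obtain ⟨⟨hpq, hps, hpt⟩, ⟨hqs, hqt⟩, hst, -⟩ := hn
    have d1 : D3 a b c := ⟨hab, hbc, Ne.symm hac⟩
    have d2 : D3 a b d := ⟨hab, hbd, Ne.symm had⟩
    have key : ∀ x y z, D3 x y z →
        (Q.P x y z).map ((T : Module.End k V) : V →ₗ[k] V) = Q.P (σ x) (σ y) (σ z) := by
      intro x y z hx
      apply Submodule.eq_of_le_of_finrank_le
      · rintro _ ⟨w, hw, rfl⟩; exact Q.move σ T hT x y z hx w hw
      · rw [Q.rank _ _ _ (hx.map σ.injective),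
          LinearEquiv.finrank_eq (Submodule.equivMapOfInjective _
            (((Module.End.isUnit_iff _).1 T.isUnit).injective) _).symm, Q.rank _ _ _ hx]
    have k1 := key a b c d1
    have k2 := key a b d d2
    rw [he, k2, hσ.1, hσ.2.1, hσ.2.2.1, hσ.2.2.2] at k1
    exact k1.symm
  have d1 : D3 a b c := ⟨hab, hbc, Ne.symm hac⟩
  have all : ∀ v ∈ Q.P a b c, ∀ d e f, D3 d e f → S.L d e f v = v := by
    intro v hv p q s hpqs
    obtain ⟨g, hg, hg'⟩ := exists_fresh (r := r) (m := 3) [a, b, c, p, q, s] (by simp; omega)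
    have h0 := hg' 0; have h1 := hg' 1; have h2 := hg' 2
    simp only [List.mem_cons, List.not_mem_nil, or_false, not_or] at h0 h1 h2
    have g01 : g 0 ≠ g 1 := hg.ne (by decide)
    have g02 : g 0 ≠ g 2 := hg.ne (by decide)
    have g12 : g 1 ≠ g 2 := hg.ne (by decide)
    rw [step a b c (g 0) (by simp [hab, hac, hbc, Ne.symm h0.1, Ne.symm h0.2.1, Ne.symm h0.2.2.1]),
      ← Q.rot (g 0) a b ⟨h0.1, hab, Ne.symm h0.2.1⟩,
      step (g 0) a b (g 1) (by simp [hab, h0.1, h0.2.1, g01, Ne.symm h1.1, Ne.symm h1.2.1]),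
      ← Q.rot (g 1) (g 0) a ⟨g01.symm, h0.1, Ne.symm h1.1⟩,
      step (g 1) (g 0) a (g 2) (by simp [h0.1, h1.1, g01.symm, g02, g12, Ne.symm h2.1])] at hv
    refine Q.fix _ _ _ p q s ?_ v hv
    simp [g01.symm, g12, g02, h0, h1, h2, hpqs.1, hpqs.2.1, hpqs.2.2.symm]
  have h0 : Q.P a b c = ⊥ :=
    (Submodule.eq_bot_iff _).2 fun v hv => Q.nofix a b c d1 v hv (all v hv)
  have := Q.rank a b c d1
  rw [h0, finrank_bot] at this
  omega

theorem inf_rank (hr : 9 ≤ r) {a b c d : Fin r} (h : [a, b, c, d].Nodup) :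
    finrank k ↥(Q.P a b c ⊓ Q.P a b d) = 1 := by
  have h' := h
  simp only [List.nodup_cons, List.mem_cons, List.not_mem_nil, or_false, not_or] at h'
  obtain ⟨⟨hab, hac, had⟩, ⟨hbc, hbd⟩, hcd, -⟩ := h'
  have d1 : D3 a b c := ⟨hab, hbc, Ne.symm hac⟩
  have d2 : D3 a b d := ⟨hab, hbd, Ne.symm had⟩
  have e := Submodule.finrank_sup_add_finrank_inf_eq (Q.P a b c) (Q.P a b d)
  have hs := Q.small a b c d h
  rw [Q.rank _ _ _ d1, Q.rank _ _ _ d2] at e
  have hlt : Q.P a b c ⊓ Q.P a b d < Q.P a b c := by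
    refine lt_of_le_of_ne inf_le_left fun he => eq_of_eq Q hr h ?_
    exact Submodule.eq_of_le_of_finrank_le (inf_eq_left.1 he)
      (by rw [Q.rank _ _ _ d1, Q.rank _ _ _ d2])
  have := Submodule.finrank_lt_finrank_of_lt hlt
  rw [Q.rank _ _ _ d1] at this
  omega

theorem line_of_mem (hr : 9 ≤ r) {a b c d : Fin r} (h : [a, b, c, d].Nodup) {v : V}
    (hc : v ∈ Q.P a b c) (hd : v ∈ Q.P a b d) : Q.Line a b v := by
  intro e he
  by_cases hec : e = c
  · exact hec ▸ hc
  by_cases hed : e = d
  · exact hed ▸ hd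
  simp only [List.nodup_cons, List.mem_cons, List.not_mem_nil, or_false, not_or] at h
  obtain ⟨⟨hab, hac, had⟩, ⟨hbc, hbd⟩, hcd, -⟩ := h
  obtain ⟨f, hf, hf'⟩ := exists_fresh (r := r) (m := 1) [a, b, c, d, e] (by simp; omega)
  have h0 := hf' 0
  simp only [List.mem_cons, List.not_mem_nil, or_false, not_or] at h0
  obtain ⟨hfa, hfb, hfc, hfd, hfe⟩ := h0
  have he1 : e ≠ a := he.2.2
  have he2 : e ≠ b := he.2.1.symm
  have A : S.L d e (f 0) v = v := Q.fix a b c _ _ _
    (by simp [hab, hac, hbc, had, hbd, hcd, he1.symm, he2.symm, Ne.symm hec, (Ne.symm hfa), (Ne.symm hfb),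
      (Ne.symm hfc), (Ne.symm hfd), (Ne.symm hfe), Ne.symm hed]) v hc
  have B : S.L c e (f 0) v = v := Q.fix a b d _ _ _
    (by simp [hab, hac, hbc, had, hbd, Ne.symm hcd, he1.symm, he2.symm, Ne.symm hec, (Ne.symm hfa),
      (Ne.symm hfb), (Ne.symm hfc), (Ne.symm hfd), (Ne.symm hfe), Ne.symm hed]) v hd
  have x1 : D3 d e (f 0) := ⟨Ne.symm hed, (Ne.symm hfe), hfd⟩
  have x2 : D3 c e (f 0) := ⟨Ne.symm hec, (Ne.symm hfe), hfc⟩
  have C : S.L c (f 0) d v = v := by
    have := LinearMap.congr_fun (S.conj d e (f 0) c e (f 0) x1 x2) v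
    rw [cyc_apply_of_ne hcd (Ne.symm hec) (Ne.symm hfc), cyc_apply_snd x1, cyc_apply_thd x1] at this
    simpa [A, B] using this.symm
  have x3 : D3 c (f 0) d := ⟨(Ne.symm hfc), hfd, Ne.symm hcd⟩
  have D : S.L c e d v = v := by
    have := LinearMap.congr_fun (S.conj c (f 0) d d e (f 0) x3 x1) v
    rw [cyc_apply_thd x3, cyc_apply_of_ne hec (Ne.symm hfe) hed, cyc_apply_snd x3] at this
    simpa [A, C] using this.symm
  have x4 : D3 c e d := ⟨Ne.symm hec, hed, Ne.symm hcd⟩
  have := Q.move _ _ (S.moves_cyc x4) a b c ⟨hab, hbc, Ne.symm hac⟩ v hc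
  rwa [cyc_apply_of_ne hac he1.symm had, cyc_apply_of_ne hbc he2.symm hbd, cyc_apply_fst x4,
    coe_unit, D] at this

theorem exists_line (hr : 9 ≤ r) {a b : Fin r} (hab : a ≠ b) : ∃ v, v ≠ 0 ∧ Q.Line a b v := by
  obtain ⟨g, hg, hg'⟩ := exists_fresh (r := r) (m := 2) [a, b] (by simp; omega)
  have h0 := hg' 0; have h1 := hg' 1
  simp only [List.mem_cons, List.not_mem_nil, or_false, not_or] at h0 h1
  have hn : [a, b, g 0, g 1].Nodup := by
    simp [hab, hg.eq_iff, h0.1, h0.2, h1.1, h1.2, Ne.symm h0.1, Ne.symm h0.2, Ne.symm h1.1, Ne.symm h1.2]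
  obtain ⟨v, hv, hv0⟩ := Submodule.exists_mem_ne_zero_of_ne_bot
    (p := Q.P a b (g 0) ⊓ Q.P a b (g 1)) (fun h => by
      have := inf_rank Q hr hn; rw [h, finrank_bot] at this; omega)
  exact ⟨v, hv0, line_of_mem Q hr hn hv.1 hv.2⟩

theorem line_unique (hr : 9 ≤ r) {a b : Fin r} (hab : a ≠ b) {v w : V} (hv : Q.Line a b v)
    (hv0 : v ≠ 0) (hw : Q.Line a b w) : ∃ c : k, c • v = w := by
  obtain ⟨g, hg, hg'⟩ := exists_fresh (r := r) (m := 2) [a, b] (by simp; omega)
  have h0 := hg' 0; have h1 := hg' 1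
  simp only [List.mem_cons, List.not_mem_nil, or_false, not_or] at h0 h1
  have hn : [a, b, g 0, g 1].Nodup := by
    simp [hab, hg.eq_iff, h0.1, h0.2, h1.1, h1.2, Ne.symm h0.1, Ne.symm h0.2, Ne.symm h1.1, Ne.symm h1.2]
  have d0 : D3 a b (g 0) := ⟨hab, Ne.symm h0.2, h0.1⟩
  have d1 : D3 a b (g 1) := ⟨hab, Ne.symm h1.2, h1.1⟩
  obtain ⟨c, hc⟩ := (finrank_eq_one_iff_of_nonzero' (⟨v, hv _ d0, hv _ d1⟩ :
    ↥(Q.P a b (g 0) ⊓ Q.P a b (g 1))) (fun h => hv0 (congr_arg Subtype.val h))).1
    (inf_rank Q hr hn) ⟨w, hw _ d0, hw _ d1⟩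
  exact ⟨c, congr_arg Subtype.val hc⟩

theorem line_symm {a b : Fin r} {v : V} (h : Q.Line a b v) : Q.Line b a v := by
  intro e he
  have h' : D3 a b e := ⟨he.1.symm, he.2.2.symm, he.2.1.symm⟩
  rw [← Q.rot e b a ⟨he.2.2, he.1, he.2.1⟩, ← Q.swap e a b ⟨he.2.1.symm, h'.1, he.2.2.symm⟩,
    Q.rot e a b ⟨he.2.1.symm, h'.1, he.2.2.symm⟩]
  exact h e h'

theorem line_map {σ : Perm (Fin r)} {T : (Module.End k V)ˣ} (hT : S.Moves σ T) {a b : Fin r}
    {v : V} (h : Q.Line a b v) : Q.Line (σ a) (σ b) ((T : Module.End k V) v) := by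
  intro e he
  have e' : D3 a b (σ.symm e) := by
    simpa using he.map σ.symm.injective
  simpa using Q.move σ T hT a b _ e' v (h _ e')

theorem adjacent (hr : 9 ≤ r) {a b c : Fin r} (h : D3 a b c) {v : V} (h1 : Q.Line a b v)
    (h2 : Q.Line b c v) : Q.Line c a v ∧ ∀ d, d ≠ b → Q.Line b d v := by
  by_cases hv : v = 0
  · subst hv; exact ⟨fun e _ => zero_mem _, fun d _ e _ => zero_mem _⟩
  refine ⟨?_, fun d hd => ?_⟩
  · have hx : Q.Line b c (S.L a b c v) := by
      simpa [cyc_apply_fst h, cyc_apply_snd h] using line_map Q (S.moves_cyc h) h1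
    obtain ⟨μ, hμ⟩ := line_unique Q hr h.2.1 h2 hv hx
    have hy : Q.Line c a (S.L a b c v) := by
      simpa [cyc_apply_snd h, cyc_apply_thd h] using line_map Q (S.moves_cyc h) h2
    intro e he
    have hm := hy e he
    rw [← hμ] at hm
    refine (Submodule.smul_mem_iff _ (fun h0 => ?_)).1 hm
    rw [h0, zero_smul] at hμ
    exact hv (((Module.End.isUnit_iff _).1 (S.unit h).isUnit).injective
      (hμ.symm.trans (map_zero _).symm))
  · by_cases hda : d = a
    · subst hda; exact line_symm Q h1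
    by_cases hdc : d = c
    · subst hdc; exact h2
    have m1 : v ∈ Q.P b d a := by
      rw [← Q.rot a b d ⟨h.1, (Ne.symm hd), hda⟩]; exact h1 d ⟨h.1, (Ne.symm hd), hda⟩
    have m2 : v ∈ Q.P b d c := by
      rw [← Q.swap b c d ⟨h.2.1, Ne.symm hdc, hd⟩]; exact h2 d ⟨h.2.1, Ne.symm hdc, hd⟩
    exact line_of_mem Q hr (by simp [(Ne.symm hd), h.1.symm, h.2.1, hda, hdc, h.2.2.symm]) m1 m2

theorem adjacent_zero (hr : 9 ≤ r) {a b c : Fin r} (h : D3 a b c) {v : V} (h1 : Q.Line a b v)
    (h2 : Q.Line b c v) : v = 0 := by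
  have hb := (adjacent Q hr h h1 h2).2
  have all : ∀ d e, d ≠ e → Q.Line d e v := by
    intro d e hde
    by_cases hd : d = b
    · subst hd; exact hb e hde.symm
    by_cases he : e = b
    · subst he; exact line_symm Q (hb d hd)
    exact line_symm Q (adjacent Q hr ⟨hd, Ne.symm he, hde.symm⟩ (line_symm Q (hb d hd)) (hb e he)).1
  refine Q.nofix a b c h v (h1 c h) (fix_all Q hr fun p q s hp => all p q hp.1 s hp)

theorem step (hr : 9 ≤ r) {a b c d : Fin r} (h : [a, b, c, d].Nodup) {v : V} (hv : Q.Line a b v) :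
    S.L b c d v = v + S.L a b c v ∧
      S.L a b c (S.L b c d (S.L a b c v)) = v + S.L a b c v + S.L b c d (S.L a b c v) := by
  by_cases hv0 : v = 0
  · subst hv0; simp
  have h' := h
  simp only [List.nodup_cons, List.mem_cons, List.not_mem_nil, or_false, not_or] at h'
  obtain ⟨⟨hab, hac, had⟩, ⟨hbc, hbd⟩, hcd, -⟩ := h'
  have hx : D3 a b c := ⟨hab, hbc, Ne.symm hac⟩
  have hy : D3 b c d := ⟨hbc, hcd, Ne.symm hbd⟩
  set w := S.L a b c v with hw
  set u := S.L b c d w with hu
  have xv : v + w + S.L a b c w = 0 := Q.ann a b c hx v (hv c hx)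
  have lw : Q.Line b c w := by
    simpa [cyc_apply_fst hx, cyc_apply_snd hx] using line_map Q (S.moves_cyc hx) hv
  have lu : Q.Line c d u := by
    simpa [cyc_apply_fst hy, cyc_apply_snd hy] using line_map Q (S.moves_cyc hy) lw
  have xw : S.L a b c w = -(v + w) := eq_neg_of_add_eq_zero_right xv
  have lz : Q.Line a c (v + w) := by
    have := line_map Q (S.moves_cyc hx) lw
    rw [cyc_apply_snd hx, cyc_apply_thd hx, coe_unit, xw] at this
    intro e he
    simpa using neg_mem (line_symm Q this e he)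
  have inj : ∀ {p q s : Fin r}, D3 p q s → Function.Injective (S.L p q s) := fun hp =>
    ((Module.End.isUnit_iff _).1 (S.unit hp).isUnit).injective
  have hw0 : w ≠ 0 := fun e => hv0 (inj hx (e.trans (map_zero _).symm))
  have hu0 : u ≠ 0 := fun e => hw0 (inj hy (e.trans (map_zero _).symm))
  have vw : ∀ x y : k, x • v + y • w = 0 → x = 0 ∧ y = 0 := by
    intro x y hxy
    have lin : Q.Line b c (x • v) := fun e he => by
      rw [eq_neg_of_add_eq_zero_left hxy]; exact neg_mem (Submodule.smul_mem _ _ (lw e he))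
    have hx0 := adjacent_zero Q hr hx (fun e he => Submodule.smul_mem _ x (hv e he)) lin
    refine ⟨(smul_eq_zero.1 hx0).resolve_right hv0, ?_⟩
    rw [hx0, zero_add] at hxy
    exact (smul_eq_zero.1 hxy).resolve_right hw0
  have hu' : u ∉ Q.P a b c := by
    intro hu'
    have m1 : u ∈ Q.P c b a := by
      rw [← Q.rot a c b ⟨hac, (Ne.symm hbc), (Ne.symm hab)⟩, ← Q.swap a b c hx]; exact hu'
    have m2 : u ∈ Q.P c b d := by
      rw [← Q.swap c d b ⟨hcd, (Ne.symm hbd), hbc⟩]; exact lu b ⟨hcd, (Ne.symm hbd), hbc⟩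
    have l2 := line_of_mem Q hr (by simp [(Ne.symm hbc), (Ne.symm hab), (Ne.symm hac), hcd, hbd, had]) m1 m2
    exact hu0 (adjacent_zero Q hr hy (line_symm Q l2) lu)
  have yw : S.L b c d u = -(w + u) := eq_neg_of_add_eq_zero_right
    (Q.ann b c d hy w (lw d hy))
  have hz0 : v + w ≠ 0 := fun e => one_ne_zero (α := k) (vw 1 1 (by simpa using e)).1
  have lyv : Q.Line a c (S.L b c d v) := by
    simpa [cyc_apply_fst hy, cyc_apply_of_ne hab hac had] using line_map Q (S.moves_cyc hy) hv
  obtain ⟨μ, hμ⟩ := line_unique Q hr hac lz hz0 lyv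
  have h3 := LinearMap.congr_fun (S.cube b c d hy) v
  simp only [Module.End.mul_apply, Module.End.one_apply] at h3
  rw [← hμ, map_smul, map_smul, map_add, ← hu, ← hμ, map_add, map_smul, yw, map_add, ← hu,
    ← hμ] at h3
  have hlin : (μ * μ * μ - 1) • v + (μ * μ * μ - μ) • w + (μ * μ - μ) • u = 0 := by
    linear_combination (norm := module) h3
  have hc0 : μ * μ - μ = 0 := by
    by_contra hne
    apply hu'
    have e1 : u = -((μ * μ - μ)⁻¹) • ((μ * μ * μ - 1) • v + (μ * μ * μ - μ) • w) := by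
      rw [eq_neg_of_add_eq_zero_left hlin, smul_neg, neg_smul, neg_neg, smul_smul,
        inv_mul_cancel₀ hne, one_smul]
    rw [e1]
    refine Submodule.smul_mem _ _ (add_mem (Submodule.smul_mem _ _ (hv c hx))
      (Submodule.smul_mem _ _ ?_))
    rw [Q.rot a b c hx]; exact lw a hx.rot
  rw [hc0, zero_smul, add_zero] at hlin
  obtain ⟨e1, e2⟩ := vw _ _ hlin
  have hμ1 : μ = 1 := by linear_combination e1 - e2
  rw [hμ1, one_smul] at hμ
  refine ⟨hμ.symm, ?_⟩
  obtain ⟨κ, hκ⟩ := S.rel a b c d h
  have tv : S.L a b c (S.L b c d v) = -v := by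
    rw [← hμ, map_add, ← hw, xw]; abel
  have hκv := LinearMap.congr_fun hκ v
  simp only [Module.End.mul_apply, LinearMap.smul_apply, Module.End.one_apply] at hκv
  rw [tv, map_neg, map_neg, tv, neg_neg] at hκv
  have hκ1 : κ = 1 := by
    refine (smul_left_injective k hv0) (hκv.symm.trans (one_smul k v).symm)
  have hκw := LinearMap.congr_fun hκ w
  simp only [Module.End.mul_apply, LinearMap.smul_apply, Module.End.one_apply] at hκw
  rw [← hu, hκ1, one_smul] at hκw
  apply inj hy
  apply inj hx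
  rw [hκw]
  simp only [map_add, yw, map_neg, tv, ← hu, xw]
  abel

include Q in
theorem cast_eq_zero (hr : 9 ≤ r) (hn : finrank k V + 2 ≤ r) : (r : k) = 0 := by
  classical
  have hr0 : 0 < r := by omega
  let pt : ℕ → Fin r := fun i => ⟨i % r, Nat.mod_lt _ hr0⟩
  have pt_ne : ∀ {i j : ℕ}, i < r → j < r → i ≠ j → pt i ≠ pt j := by
    intro i j hi hj hij e
    have := congr_arg Fin.val e
    simp only [pt, Nat.mod_eq_of_lt hi, Nat.mod_eq_of_lt hj] at this
    exact hij this
  obtain ⟨v₀, hv₀, l₀⟩ := exists_line Q hr (pt_ne (i := 0) (j := 1) (by omega) (by omega) (by omega))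
  let d : ℕ → V := fun n => Nat.rec v₀ (fun i v => S.L (pt i) (pt (i + 1)) (pt (i + 2)) v) n
  have d_succ : ∀ i, d (i + 1) = S.L (pt i) (pt (i + 1)) (pt (i + 2)) (d i) := fun i => rfl
  have hD : ∀ {i}, i + 2 < r → D3 (pt i) (pt (i + 1)) (pt (i + 2)) := fun {i} hi =>
    ⟨pt_ne (by omega) (by omega) (by omega), pt_ne (by omega) (by omega) (by omega),
      pt_ne (by omega) (by omega) (by omega)⟩
  have hline : ∀ i, i + 1 < r → Q.Line (pt i) (pt (i + 1)) (d i) := by
    intro i hi
    induction i with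
    | zero => exact l₀
    | succ i ih =>
      have := line_map Q (S.moves_cyc (hD (i := i) (by omega))) (ih (by omega))
      rwa [cyc_apply_fst (hD (by omega)), cyc_apply_snd (hD (by omega)), coe_unit, ← d_succ] at this
  have hne : ∀ i, i + 1 < r → d i ≠ 0 := by
    intro i hi
    induction i with
    | zero => exact hv₀
    | succ i ih =>
      rw [d_succ]
      intro e
      exact ih (by omega) (((Module.End.isUnit_iff _).1 (S.unit (hD (i := i) (by omega))).isUnit).injective
        (e.trans (map_zero _).symm))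
  obtain ⟨g, hg0, i₀, hi₀, hgi⟩ : ∃ g : ℕ → k, ∑ j ∈ Finset.range (r - 1), g j • d j = 0 ∧
      ∃ i₀ ∈ Finset.range (r - 1), g i₀ ≠ 0 := by
    have hli : ¬ LinearIndependent k (fun j : Fin (r - 1) => d j) := fun hli => by
      have := hli.fintype_card_le_finrank
      simp at this; omega
    obtain ⟨g, hg, i, hi⟩ := Fintype.not_linearIndependent_iff.1 hli
    refine ⟨fun j => if hj : j < r - 1 then g ⟨j, hj⟩ else 0, ?_, i, Finset.mem_range.2 i.2, ?_⟩
    · rw [Finset.sum_range]
      simpa using hg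
    · simpa using hi
  -- the coefficients, shifted, with zeros at both ends
  let T : ℕ → k := fun j => if j = 0 then 0 else if j - 1 < r - 1 then g (j - 1) else 0
  have hT : ∀ j, j < r - 1 → T (j + 1) = g j := fun j hj => by simp [T, hj]
  have key : ∀ i, i + 2 < r →
      (T i - T (i + 1) - T (i + 2) + T (i + 3)) • d i
        + (T (i + 1) - 2 * T (i + 2) + T (i + 3)) • d (i + 1) = 0 := by
    intro i hi
    have hx := hD hi
    have base : ∀ j, j + 1 < r → S.L (pt i) (pt (i + 1)) (pt (i + 2)) (d j) - d j =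
        (if j + 1 = i then d i else 0) + (if j = i then d (i + 1) - d i else 0)
        + (if j = i + 1 then -d i - (2 : k) • d (i + 1) else 0)
        + (if j = i + 2 then d i + d (i + 1) else 0) := by
      intro j hj
      rcases (show j + 1 = i ∨ j = i ∨ j = i + 1 ∨ j = i + 2 ∨ j + 1 < i ∨ i + 2 < j by omega) with
        h | h | h | h | h
      · rw [if_pos h, if_neg (by omega), if_neg (by omega), if_neg (by omega)]
        subst h
        have := (step Q hr (a := pt j) (b := pt (j + 1)) (c := pt (j + 2)) (d := pt (j + 3))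
          (by simp [pt_ne (show j < r by omega) (show j + 1 < r by omega),
            pt_ne (show j < r by omega) (show j + 2 < r by omega),
            pt_ne (show j < r by omega) (show j + 3 < r by omega),
            pt_ne (show j + 1 < r by omega) (show j + 2 < r by omega),
            pt_ne (show j + 1 < r by omega) (show j + 3 < r by omega),
            pt_ne (show j + 2 < r by omega) (show j + 3 < r by omega)]) (hline j hj)).1
        rw [← d_succ] at this
        rw [show j + 1 + 1 = j + 2 from rfl, show j + 1 + 2 = j + 3 from rfl, this]; abel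
      · subst h
        rw [if_neg (by omega), if_pos rfl, if_neg (by omega), if_neg (by omega), ← d_succ]; abel
      · subst h
        rw [if_neg (by omega), if_neg (by omega), if_pos rfl, if_neg (by omega)]
        have := Q.ann _ _ _ hx (d i) (hline i (by omega) _ hx)
        rw [← d_succ] at this
        rw [eq_neg_of_add_eq_zero_right this]; module
      · subst h
        rw [if_neg (by omega), if_neg (by omega), if_neg (by omega), if_pos rfl]
        have := (step Q hr (a := pt i) (b := pt (i + 1)) (c := pt (i + 2)) (d := pt (i + 3))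
          (by simp [pt_ne (show i < r by omega) (show i + 1 < r by omega),
            pt_ne (show i < r by omega) (show i + 2 < r by omega),
            pt_ne (show i < r by omega) (show i + 3 < r by omega),
            pt_ne (show i + 1 < r by omega) (show i + 2 < r by omega),
            pt_ne (show i + 1 < r by omega) (show i + 3 < r by omega),
            pt_ne (show i + 2 < r by omega) (show i + 3 < r by omega)]) (hline i (by omega))).2
        rw [← d_succ] at this
        rw [show i + 1 + 1 = i + 2 from rfl] at this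
        rw [this]; abel
      · rw [if_neg (by omega), if_neg (by omega), if_neg (by omega), if_neg (by omega)]
        obtain ⟨e, he, he'⟩ := exists_fresh (r := r) (m := 1)
          [pt i, pt (i + 1), pt (i + 2), pt j, pt (j + 1)] (by simp; omega)
        have h0 := he' 0
        simp only [List.mem_cons, List.not_mem_nil, or_false, not_or] at h0
        have d3 : D3 (pt j) (pt (j + 1)) (e 0) :=
          ⟨pt_ne (by omega) hj (by omega), Ne.symm h0.2.2.2.2, h0.2.2.2.1⟩
        rw [Q.fix (pt j) (pt (j + 1)) (e 0) _ _ _ ?_ _ (hline j hj _ d3)]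
        · abel
        · simp [h0, Ne.symm h0.2.2.2.1, Ne.symm h0.2.2.2.2, hx.1, hx.2.1, hx.2.2.symm,
            pt_ne (show j < r by omega) hj, pt_ne (show j < r by omega) (show i < r by omega) (by omega),
            pt_ne (show j < r by omega) (show i + 1 < r by omega) (by omega),
            pt_ne (show j < r by omega) (show i + 2 < r by omega) (by omega),
            pt_ne hj (show i < r by omega) (by omega),
            pt_ne hj (show i + 1 < r by omega) (by omega),
            pt_ne hj (show i + 2 < r by omega) (by omega)]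
    have h0 : ∑ j ∈ Finset.range (r - 1),
        g j • (S.L (pt i) (pt (i + 1)) (pt (i + 2)) (d j) - d j) = 0 := by
      have := congr(S.L (pt i) (pt (i + 1)) (pt (i + 2)) $hg0)
      rw [map_sum, map_zero] at this
      simp only [map_smul] at this
      simp only [smul_sub, Finset.sum_sub_distrib, this, hg0, sub_zero]
    rw [Finset.sum_congr rfl (fun j hj => by
      rw [base j (by simp at hj; omega), smul_add, smul_add, smul_add, ← hT j (by simp at hj; omega)])]
      at h0
    simp only [Finset.sum_add_distrib, smul_ite, smul_zero] at h0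
    have s1 : ∑ j ∈ Finset.range (r - 1), (if j + 1 = i then T (j + 1) • d i else 0) = T i • d i := by
      rcases Nat.eq_zero_or_pos i with rfl | hi0
      · simp [T]
      · rw [Finset.sum_eq_single (i - 1) (fun b _ hb => if_neg (by omega))
          (fun hb => absurd (Finset.mem_range.2 (by omega)) hb), if_pos (by omega)]
        congr 2; omega
    rw [s1, Finset.sum_ite_eq' , Finset.sum_ite_eq', Finset.sum_ite_eq',
      if_pos (Finset.mem_range.2 (by omega)), if_pos (Finset.mem_range.2 (by omega))] at h0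
    have s4 : (if i + 2 ∈ Finset.range (r - 1) then T (i + 2 + 1) • (d i + d (i + 1)) else 0)
        = T (i + 3) • (d i + d (i + 1)) := by
      split_ifs with h
      · rfl
      · have : T (i + 3) = 0 := by simp only [Finset.mem_range] at h; simp [T]; omega
        rw [this, zero_smul]
    rw [s4] at h0
    linear_combination (norm := module) h0
  have rec2 : ∀ i, i + 2 < r → T i - T (i + 1) - T (i + 2) + T (i + 3) = 0 ∧
      T (i + 1) - 2 * T (i + 2) + T (i + 3) = 0 := by
    intro i hi
    set α := T i - T (i + 1) - T (i + 2) + T (i + 3)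
    set β := T (i + 1) - 2 * T (i + 2) + T (i + 3)
    have hk := key i hi
    have l1 : Q.Line (pt (i + 1)) (pt (i + 2)) (α • d i) := fun e he => by
      rw [eq_neg_of_add_eq_zero_left hk]
      exact neg_mem (Submodule.smul_mem _ _ (hline (i + 1) (by omega) e he))
    have hz := adjacent_zero Q hr (hD hi)
      (fun e he => Submodule.smul_mem _ α (hline i (by omega) e he)) l1
    rw [hz, zero_add] at hk
    exact ⟨(smul_eq_zero.1 hz).resolve_right (hne i (by omega)),
      (smul_eq_zero.1 hk).resolve_right (hne (i + 1) (by omega))⟩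
  have lin : ∀ j, j ≤ r → T j = (j : k) * T 1 := by
    intro j
    induction j using Nat.strong_induction_on with
    | _ j ih =>
      intro hj
      match j with
      | 0 => simp [T]
      | 1 => simp
      | 2 =>
        obtain ⟨a1, a2⟩ := rec2 0 (by omega)
        have h0 : T 0 = 0 := by simp [T]
        rw [h0] at a1; push_cast; linear_combination a1 - a2
      | j + 3 =>
        have a2 := (rec2 j (by omega)).2
        rw [ih (j + 1) (by omega) (by omega), ih (j + 2) (by omega) (by omega)] at a2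
        push_cast at a2 ⊢; linear_combination a2
  have hr' : T r = 0 := by simp [T]
  rw [lin r le_rfl] at hr'
  refine (mul_eq_zero.1 hr').resolve_right fun h1 => hgi ?_
  rw [← hT i₀ (Finset.mem_range.1 hi₀), lin _ (by simp at hi₀; omega), h1, mul_zero]

end Planes

end TriSys

end Cfsg.Agent.AltSection
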