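import Cfsg.Agent.Lib.AltSection.Chain
import Cfsg.Agent.Lib.AltSection.Planes
import Cfsg.Agent.Lib.AltSection.Fpf

/-!
The dimension bound away from characteristic three.
-/

set_option autoImplicit false
set_option linter.unusedSimpArgs false
set_option linter.unusedSectionVars false

namespace Cfsg.Agent.AltSection

open Module Equiv

universe u v

/-- The bound to be proved. -/
def Bound (k : Type u) [Field k] (r n : ℕ) : Prop :=
  r ≤ n + 1 ∨ ((r : k) = 0 ∧ r ≤ n + 2)

theorem Bound.le {k : Type u} [Field k] {r n : ℕ} (h : Bound k r n) : r ≤ n + 2 := by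
  rcases h with h | ⟨-, h⟩ <;> omega

theorem Bound.mono {k : Type u} [Field k] {r n m : ℕ} (h : Bound k r n) (hm : n ≤ m) :
    Bound k r m := by
  rcases h with h | ⟨h', h⟩
  · exact Or.inl (by omega)
  · exact Or.inr ⟨h', by omega⟩

namespace TriSys

variable {k : Type u} [Field k] {V : Type v} [AddCommGroup V] [Module k V] {r : ℕ}
  (S : TriSys k V r)

/-- The image of `L - 1`. -/
def Wd (a b c : Fin r) : Submodule k V := LinearMap.range (S.L a b c - 1)

theorem L_inv_apply {a b c : Fin r} (h : D3 a b c) (v : V) : S.L a b c (S.L a c b v) = v :=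
  LinearMap.congr_fun (S.mul_inv a b c h) v

theorem mem_Wd_iff (h3 : (3 : k) ≠ 0) {a b c : Fin r} (h : D3 a b c) {v : V} :
    v ∈ S.Wd a b c ↔ v + S.L a b c v + S.L a b c (S.L a b c v) = 0 := by
  have hc := LinearMap.congr_fun (S.cube a b c h)
  simp only [Module.End.mul_apply, Module.End.one_apply] at hc
  constructor
  · rintro ⟨u, rfl⟩
    simp only [LinearMap.sub_apply, Module.End.one_apply, map_sub, hc u]
    abel
  · intro hv
    refine ⟨(3 : k)⁻¹ • (-((2 : k) • v) - S.L a b c v), ?_⟩
    have e : (S.L a b c - 1) (-((2 : k) • v) - S.L a b c v) = (3 : k) • v := by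
      simp only [LinearMap.sub_apply, Module.End.one_apply, map_sub, map_neg, map_smul]
      linear_combination (norm := module) (-1 : k) • hv
    rw [map_smul, e, smul_smul, inv_mul_cancel₀ h3, one_smul]

theorem fix_Wd_eq_zero (h3 : (3 : k) ≠ 0) {a b c : Fin r} (h : D3 a b c) {v : V}
    (hv : v ∈ S.Wd a b c) (hfix : S.L a b c v = v) : v = 0 := by
  have := (S.mem_Wd_iff h3 h).1 hv
  rw [hfix, hfix] at this
  have h' : (3 : k) • v = 0 := by linear_combination (norm := module) this
  exact (smul_eq_zero.1 h').resolve_left h3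

theorem Wd_map {σ : Perm (Fin r)} {T : (Module.End k V)ˣ} (hT : S.Moves σ T) {a b c : Fin r}
    (h : D3 a b c) {v : V} (hv : v ∈ S.Wd a b c) :
    (T : Module.End k V) v ∈ S.Wd (σ a) (σ b) (σ c) := by
  obtain ⟨u, rfl⟩ := hv
  refine ⟨(T : Module.End k V) u, ?_⟩
  simp [S.map_inv_of_moves hT h]

theorem Wd_swap {a b c : Fin r} (h : D3 a b c) : S.Wd a c b = S.Wd a b c := by
  have : ∀ {a b c : Fin r}, D3 a b c → S.Wd a b c ≤ S.Wd a c b := by
    intro a b c h
    rintro _ ⟨u, rfl⟩
    refine ⟨-(S.L a b c u), ?_⟩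
    have := LinearMap.congr_fun (S.inv_mul h) u
    simp only [Module.End.mul_apply, Module.End.one_apply] at this
    simp [this]; abel
  exact le_antisymm (this h.swap) (this h)

variable [FiniteDimensional k V]

theorem finrank_ker_add_Wd (a b c : Fin r) :
    finrank k (LinearMap.ker (S.L a b c - 1)) + finrank k (S.Wd a b c) = finrank k V := by
  rw [add_comm]; exact LinearMap.finrank_range_add_finrank_ker (S.L a b c - 1)

/-- The eigenspace. -/
def Eig (a b c : Fin r) (μ : k) : Submodule k V := LinearMap.ker (S.L a b c - μ • 1)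

theorem mem_Eig {a b c : Fin r} {μ : k} {v : V} : v ∈ S.Eig a b c μ ↔ S.L a b c v = μ • v := by
  simp [Eig, sub_eq_zero]

theorem Eig_le_Wd (h3 : (3 : k) ≠ 0) {a b c : Fin r} (h : D3 a b c) {μ : k}
    (hμ : μ * μ + μ + 1 = 0) : S.Eig a b c μ ≤ S.Wd a b c := by
  intro v hv
  rw [mem_Eig] at hv
  rw [S.mem_Wd_iff h3 h, hv, map_smul, hv, smul_smul]
  have : v + μ • v + (μ * μ) • v = (μ * μ + μ + 1) • v := by module
  rw [this, hμ, zero_smul]

theorem sub_mem_Eig {a b c : Fin r} (h : D3 a b c) (h3 : (3 : k) ≠ 0) {μ : k}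
    (hμ : μ * μ + μ + 1 = 0) {v : V} (hv : v ∈ S.Wd a b c) :
    S.L a b c v - (μ * μ) • v ∈ S.Eig a b c μ := by
  rw [mem_Eig, map_sub, map_smul]
  have e := (S.mem_Wd_iff h3 h).1 hv
  have hμ3 : μ * μ * μ = 1 := by linear_combination (μ - 1) * hμ
  have hμ' : (μ * μ + μ + 1) • S.L a b c v = 0 := by rw [hμ, zero_smul]
  have hμ'' : (μ * μ * μ - 1) • v = 0 := by rw [sub_eq_zero.2 hμ3, zero_smul]
  linear_combination (norm := module) e - hμ' + hμ''

theorem two_mul_Eig_le (h3 : (3 : k) ≠ 0) {a b c : Fin r} (h : D3 a b c) {ω : k}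
    (hω : ω * ω + ω + 1 = 0) {σ : Perm (Fin r)} {T : (Module.End k V)ˣ} (hT : S.Moves σ T)
    (ha : σ a = a) (hb : σ b = c) (hc : σ c = b) :
    2 * finrank k (S.Eig a b c ω) ≤ finrank k (S.Wd a b c) := by
  have hω2 : (ω * ω) * (ω * ω) + ω * ω + 1 = 0 := by linear_combination (ω * ω - ω + 1) * hω
  have hω3 : ω * ω * ω = 1 := by linear_combination (ω - 1) * hω
  have hmap : (S.Eig a b c ω).map ((T : Module.End k V) : V →ₗ[k] V) ≤ S.Eig a b c (ω * ω) := by
    rintro _ ⟨v, hv, rfl⟩
    have hv : S.L a b c v = ω • v := S.mem_Eig.1 hv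
    have e := S.map_inv_of_moves hT h v
    rw [hv, map_smul, ha, hb, hc] at e
    have e2 := congr(S.L a b c $e)
    rw [map_smul, S.L_inv_apply h] at e2
    rw [mem_Eig]
    have e3 := congr((ω * ω) • $e2)
    rw [smul_smul, hω3, one_smul] at e3
    exact e3
  have hdisj : S.Eig a b c ω ⊓ S.Eig a b c (ω * ω) = ⊥ := by
    refine (Submodule.eq_bot_iff _).2 fun v hv => ?_
    have h1 := S.mem_Eig.1 hv.1
    have h2 := S.mem_Eig.1 hv.2
    have h0 : (ω * ω - ω) • v = 0 := by rw [sub_smul, ← h1, ← h2, sub_self]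
    refine (smul_eq_zero.1 h0).resolve_left fun hh => h3 ?_
    have hω0 : ω ≠ 0 := fun h => by simp [h] at hω3
    have : ω = 1 := by
      have := mul_left_cancel₀ hω0 ((sub_eq_zero.1 hh).trans (mul_one ω).symm)
      exact this
    rw [this] at hω
    linear_combination hω
  have e := Submodule.finrank_sup_add_finrank_inf_eq (S.Eig a b c ω) (S.Eig a b c (ω * ω))
  rw [hdisj, finrank_bot] at e
  have hle := Submodule.finrank_mono
    (sup_le (S.Eig_le_Wd h3 h hω) (S.Eig_le_Wd h3 h hω2))
  have hm := Submodule.finrank_mono hmap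
  rw [LinearEquiv.finrank_eq (Submodule.equivMapOfInjective _
    (((Module.End.isUnit_iff _).1 T.isUnit).injective) _).symm] at hm
  omega

variable [IsAlgClosed k]

theorem exists_omega (h3 : (3 : k) ≠ 0) : ∃ ω : k, ω * ω + ω + 1 = 0 ∧ ω * ω ≠ ω := by
  obtain ⟨ω, hω⟩ := IsAlgClosed.exists_root
    (Polynomial.C (1 : k) * Polynomial.X ^ 2 + Polynomial.C 1 * Polynomial.X + Polynomial.C 1)
    (by rw [Polynomial.degree_quadratic one_ne_zero]; decide)
  simp [Polynomial.IsRoot] at hω
  refine ⟨ω, by linear_combination hω, fun h => h3 ?_⟩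
  have h0 : 2 * ω + 1 = 0 := by linear_combination hω - h
  linear_combination 4 * hω - (2 * ω + 1) * h0

/-- A non-trivial system on six points has dimension at least four. -/
theorem four_le (h3 : (3 : k) ≠ 0) (hr : 6 ≤ r) (hS : ¬ S.Triv) : 4 ≤ finrank k V := by
  obtain ⟨ω, hω, hω'⟩ := exists_omega h3
  obtain ⟨p, hp, -⟩ := exists_fresh (r := r) (m := 6) [] (by simp; omega)
  set a := p 0; set b := p 1; set c := p 2; set d := p 3; set e := p 4; set f := p 5
  have hx : D3 a b c := ⟨hp.ne (by decide), hp.ne (by decide), hp.ne (by decide)⟩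
  have hy : D3 d e f := ⟨hp.ne (by decide), hp.ne (by decide), hp.ne (by decide)⟩
  have hnd : [a, b, c, d, e, f].Nodup := by simp [a, b, c, d, e, f, hp.eq_iff]
  let σ : Perm (Fin r) := swap a d * swap b e * swap e c * swap c f
  have hσ : σ ∈ alternatingGroup (Fin r) := by
    simp [σ, Perm.mem_alternatingGroup, a, b, c, d, e, f, hp.eq_iff]
  have hn := hnd
  simp only [List.nodup_cons, List.mem_cons, List.not_mem_nil, or_false, not_or] at hn
  obtain ⟨⟨hab, hac, had, hae, haf⟩, ⟨hbc, hbd, hbe, hbf⟩, ⟨hcd, hce, hcf⟩, ⟨hde, hdf⟩, hef, -⟩ := hn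
  have sa : σ a = d := by
    simp [σ, swap_apply_def, hab, hac, had, hae, haf, hbc, hbd, hbe, hbf, hcd, hce, hcf, hde, hdf, hef, Ne.symm hab, Ne.symm hac, Ne.symm had, Ne.symm hae, Ne.symm haf, Ne.symm hbc, Ne.symm hbd, Ne.symm hbe, Ne.symm hbf, Ne.symm hcd, Ne.symm hce, Ne.symm hcf, Ne.symm hde, Ne.symm hdf, Ne.symm hef]
  have sb : σ b = e := by
    simp [σ, swap_apply_def, hab, hac, had, hae, haf, hbc, hbd, hbe, hbf, hcd, hce, hcf, hde, hdf, hef, Ne.symm hab, Ne.symm hac, Ne.symm had, Ne.symm hae, Ne.symm haf, Ne.symm hbc, Ne.symm hbd, Ne.symm hbe, Ne.symm hbf, Ne.symm hcd, Ne.symm hce, Ne.symm hcf, Ne.symm hde, Ne.symm hdf, Ne.symm hef]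
  have sc : σ c = f := by
    simp [σ, swap_apply_def, hab, hac, had, hae, haf, hbc, hbd, hbe, hbf, hcd, hce, hcf, hde, hdf, hef, Ne.symm hab, Ne.symm hac, Ne.symm had, Ne.symm hae, Ne.symm haf, Ne.symm hbc, Ne.symm hbd, Ne.symm hbe, Ne.symm hbf, Ne.symm hcd, Ne.symm hce, Ne.symm hcf, Ne.symm hde, Ne.symm hdf, Ne.symm hef]
  have sd : σ d = a := by
    simp [σ, swap_apply_def, hab, hac, had, hae, haf, hbc, hbd, hbe, hbf, hcd, hce, hcf, hde, hdf, hef, Ne.symm hab, Ne.symm hac, Ne.symm had, Ne.symm hae, Ne.symm haf, Ne.symm hbc, Ne.symm hbd, Ne.symm hbe, Ne.symm hbf, Ne.symm hcd, Ne.symm hce, Ne.symm hcf, Ne.symm hde, Ne.symm hdf, Ne.symm hef]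
  have se : σ e = c := by
    simp [σ, swap_apply_def, hab, hac, had, hae, haf, hbc, hbd, hbe, hbf, hcd, hce, hcf, hde, hdf, hef, Ne.symm hab, Ne.symm hac, Ne.symm had, Ne.symm hae, Ne.symm haf, Ne.symm hbc, Ne.symm hbd, Ne.symm hbe, Ne.symm hbf, Ne.symm hcd, Ne.symm hce, Ne.symm hcf, Ne.symm hde, Ne.symm hdf, Ne.symm hef]
  have sf : σ f = b := by
    simp [σ, swap_apply_def, hab, hac, had, hae, haf, hbc, hbd, hbe, hbf, hcd, hce, hcf, hde, hdf, hef, Ne.symm hab, Ne.symm hac, Ne.symm had, Ne.symm hae, Ne.symm haf, Ne.symm hbc, Ne.symm hbd, Ne.symm hbe, Ne.symm hbf, Ne.symm hcd, Ne.symm hce, Ne.symm hcf, Ne.symm hde, Ne.symm hdf, Ne.symm hef]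
  obtain ⟨T, hT⟩ := S.exists_moves hσ
  have hT2 := Moves.mul S hT hT
  have t2 : ((σ * σ) a = a ∧ (σ * σ) b = c ∧ (σ * σ) c = b) ∧
      ((σ * σ) d = d ∧ (σ * σ) e = f ∧ (σ * σ) f = e) := by
    simp [Perm.mul_apply, sa, sb, sc, sd, se, sf]
  have hE2 := S.two_mul_Eig_le h3 hx hω hT2 t2.1.1 t2.1.2.1 t2.1.2.2
  have hEd := S.two_mul_Eig_le h3 hy hω hT2 t2.2.1 t2.2.2.1 t2.2.2.2
  have hWn := (S.Wd a b c).finrank_le
  have hcomm := S.commute_of_disjoint hnd
  have hE0 : ∀ {a b c : Fin r}, D3 a b c → S.Wd a b c ≠ ⊥ := by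
    intro a b c h h0
    refine hS (S.eq_one_of_eq_one (by omega) h ?_)
    rw [Wd, LinearMap.range_eq_bot] at h0
    exact sub_eq_zero.1 h0
  have hne : ∀ {a b c : Fin r}, D3 a b c → ∀ {U : (Module.End k V)ˣ} {τ : Perm (Fin r)},
      S.Moves τ U → τ a = a → τ b = c → τ c = b → S.Eig a b c ω ≠ ⊥ := by
    intro a b c h U τ hU ha hb hc h0
    obtain ⟨v, hv, hv0⟩ := Submodule.exists_mem_ne_zero_of_ne_bot (hE0 h)
    have m := S.sub_mem_Eig h h3 hω hv
    rw [h0, Submodule.mem_bot, sub_eq_zero] at m
    have hu := S.map_inv_of_moves hU h v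
    rw [m, map_smul, ha, hb, hc] at hu
    have : (U : Module.End k V) v ∈ S.Eig a b c ω := by
      rw [mem_Eig]
      have e1 := congr(S.L a b c $hu)
      rw [map_smul, S.L_inv_apply h] at e1
      have e2 := congr(ω • $e1)
      rw [smul_smul, show ω * (ω * ω) = 1 by linear_combination (ω - 1) * hω, one_smul] at e2
      exact e2
    rw [h0, Submodule.mem_bot] at this
    exact hv0 (((Module.End.isUnit_iff _).1 U.isUnit).injective (this.trans (map_zero _).symm))
  have pos : ∀ {U : Submodule k V}, U ≠ ⊥ → 1 ≤ finrank k U := fun h =>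
    Nat.one_le_iff_ne_zero.2 fun h0 => h (Submodule.finrank_eq_zero.1 h0)
  by_cases htriv : ∀ v ∈ S.Wd a b c, S.L d e f v = v
  · have hi : S.Wd a b c ⊓ S.Wd d e f = ⊥ := (Submodule.eq_bot_iff _).2 fun v hv =>
      S.fix_Wd_eq_zero h3 hy hv.2 (htriv v hv.1)
    have e1 := Submodule.finrank_sup_add_finrank_inf_eq (S.Wd a b c) (S.Wd d e f)
    rw [hi, finrank_bot] at e1
    have := (S.Wd a b c ⊔ S.Wd d e f).finrank_le
    have := pos (hne hx hT2 t2.1.1 t2.1.2.1 t2.1.2.2)
    have := pos (hne hy hT2 t2.2.1 t2.2.2.1 t2.2.2.2)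
    omega
  · -- a joint eigenvector moved around
    have comm' : ∀ w, S.L a b c (S.L d e f w) = S.L d e f (S.L a b c w) := fun w =>
      LinearMap.congr_fun hcomm w
    obtain ⟨w, hw, hw'⟩ : ∃ w ∈ S.Wd a b c ⊓ S.Wd d e f, w ≠ 0 := by
      push Not at htriv
      obtain ⟨v, hv, hv'⟩ := htriv
      refine ⟨S.L d e f v - v, ⟨sub_mem ?_ hv, ⟨v, rfl⟩⟩, sub_ne_zero.2 hv'⟩
      rw [S.mem_Wd_iff h3 hx] at hv ⊢
      simp only [comm', ← map_add, hv, map_zero]
    have hω2 : (ω * ω) * (ω * ω) + ω * ω + 1 = 0 := by linear_combination (ω * ω - ω + 1) * hω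
    have hω3 : ω * ω * ω = 1 := by linear_combination (ω - 1) * hω
    -- split by the first
    have split : ∀ {a b c : Fin r}, D3 a b c → ∀ {w : V}, w ∈ S.Wd a b c → w ≠ 0 →
        ∃ α, (α = ω ∨ α = ω * ω) ∧ S.L a b c w - (α * α) • w ∈ S.Eig a b c α ∧
          S.L a b c w - (α * α) • w ≠ 0 := by
      intro a b c h w hw hw0
      by_contra! hcon
      have h1 := hcon ω (Or.inl rfl) (S.sub_mem_Eig h h3 hω hw)
      have h2 := hcon (ω * ω) (Or.inr rfl) (S.sub_mem_Eig h h3 hω2 hw)
      rw [show ω * ω * (ω * ω) = ω by linear_combination ω * hω3, sub_eq_zero] at h2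
      rw [h2, ← sub_smul, smul_eq_zero] at h1
      exact h1.elim (fun h' => hω' (sub_eq_zero.1 h').symm) hw0
    obtain ⟨α, hα, hm, hm0⟩ := split hx hw.1 hw'
    set z := S.L a b c w - (α * α) • w
    have hzW : z ∈ S.Wd d e f := by
      refine sub_mem ?_ (Submodule.smul_mem _ _ hw.2)
      rw [S.mem_Wd_iff h3 hy]
      have := (S.mem_Wd_iff h3 hy).1 hw.2
      simp only [← comm', ← map_add, this, map_zero]
    obtain ⟨β, hβ, hn', hn0⟩ := split hy hzW hm0
    set v := S.L d e f z - (β * β) • z
    have vx : S.L a b c v = α • v := by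
      have hz := S.mem_Eig.1 hm
      simp only [v, map_sub, map_smul, comm', hz, smul_sub, smul_smul, mul_comm α]
    have vy : S.L d e f v = β • v := S.mem_Eig.1 hn'
    have step : ∀ {v : V} {α β : k}, S.L a b c v = α • v → S.L d e f v = β • v → β * β * β = 1 →
        S.L a b c ((T : Module.End k V) v) = (β * β) • (T : Module.End k V) v ∧
          S.L d e f ((T : Module.End k V) v) = α • (T : Module.End k V) v := by
      intro v α β h1 h2 hb3
      have u1 := S.map_inv_of_moves hT hx v
      rw [h1, map_smul, sa, sb, sc] at u1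
      have u2 := S.map_inv_of_moves hT hy v
      rw [h2, map_smul, sd, se, sf] at u2
      have u3 := congr(S.L a b c $u2)
      rw [map_smul, S.L_inv_apply hx] at u3
      have u4 := congr((β * β) • $u3)
      rw [smul_smul, hb3, one_smul] at u4
      exact ⟨u4, u1.symm⟩
    have hcube : ∀ {α : k}, α = ω ∨ α = ω * ω → α * α * α = 1 := by
      rintro α (rfl | rfl)
      · exact hω3
      · linear_combination (ω * ω * ω + 1) * hω3
    obtain ⟨p1, q1⟩ := step vx vy (hcube hβ)
    obtain ⟨p2, q2⟩ := step p1 q1 (hcube hα)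
    have b2 : β * β * (β * β) * (β * β) = 1 := by linear_combination (β * β * β + 1) * hcube hβ
    obtain ⟨p3, q3⟩ := step p2 q2 b2
    rw [show β * β * (β * β) = β by linear_combination β * hcube hβ] at p3
    have inj := ((Module.End.isUnit_iff _).1 T.isUnit).injective
    have hT0 : ∀ {v : V}, v ≠ 0 → (T : Module.End k V) v ≠ 0 := fun h h' =>
      h (inj (h'.trans (map_zero _).symm))
    -- two independent vectors in the first eigenspace
    have key : ∀ {u u' : V} {γ γ' : k}, u ∈ S.Eig a b c ω → u' ∈ S.Eig a b c ω →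
        S.L d e f u = γ • u → S.L d e f u' = γ' • u' → γ ≠ γ' → u ≠ 0 → u' ≠ 0 →
        2 ≤ finrank k (S.Eig a b c ω) := by
      intro u u' γ γ' hu hu' hg hg' hgg hu0 hu0'
      have li : LinearIndependent k ![(⟨u, hu⟩ : S.Eig a b c ω), ⟨u', hu'⟩] := by
        rw [LinearIndependent.pair_iff]
        intro s t hst
        have h1 : s • u + t • u' = 0 := congr_arg Subtype.val hst
        have h2 := congr(S.L d e f $h1)
        rw [map_add, map_smul, map_smul, hg, hg', map_zero] at h2
        have h4 : ((γ - γ') * s) • u = 0 := by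
          linear_combination (norm := module) h2 - γ' • h1
        have hs : s = 0 := ((mul_eq_zero.1 ((smul_eq_zero.1 h4).resolve_right hu0)).resolve_left
          (sub_ne_zero.2 hgg))
        rw [hs, zero_smul, zero_add] at h1
        exact ⟨hs, (smul_eq_zero.1 h1).resolve_right hu0'⟩
      simpa using li.fintype_card_le_finrank
    have v1 := hT0 hn0
    have v2 := hT0 v1
    have v3 := hT0 v2
    have two : 2 ≤ finrank k (S.Eig a b c ω) := by
      have ww : ω * ω * (ω * ω) = ω := by linear_combination ω * hω3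
      rcases hα with rfl | rfl <;> rcases hβ with rfl | rfl
      · exact key (S.mem_Eig.2 vx) (S.mem_Eig.2 p3) vy q3 (fun h => hω' h.symm) hn0 v3
      · exact key (S.mem_Eig.2 vx) (S.mem_Eig.2 (by rw [p1, ww])) vy q1 hω' hn0 v1
      · exact key (S.mem_Eig.2 p3) (S.mem_Eig.2 (by rw [p2, ww])) q3 q2
          (by rw [ww]; exact fun h => hω' h.symm) v3 v2
      · exact key (S.mem_Eig.2 (by rw [p2, ww])) (S.mem_Eig.2 (by rw [p1, ww])) q2 q1
          (by rw [ww]; exact fun h => hω' h.symm) v2 v1
    omega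

theorem permutation_type (h3 : (3 : k) ≠ 0) (hr : 9 ≤ r) (hS : ¬ S.Triv)
    (hperm : ∀ a b c d e f, [a, b, c, d, e, f].Nodup → ∀ v ∈ S.Wd a b c, S.L d e f v = v) :
    Bound k r (finrank k V) := by
  obtain ⟨ω, hω, hω'⟩ := exists_omega h3
  let Wl : List (Fin r) → Submodule k V := fun l =>
    match l with
    | [a, b, c] => S.Wd a b c
    | _ => ⊥
  have three : ∀ {l : List (Fin r)}, l.Nodup → l.length = 3 → ∃ a b c, l = [a, b, c] ∧ D3 a b c := by
    intro l hl h
    match l, h with
    | [a, b, c], _ =>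
      simp only [List.nodup_cons, List.mem_cons, List.not_mem_nil, or_false, not_or] at hl
      exact ⟨a, b, c, rfl, hl.1.1, hl.2.1, Ne.symm hl.1.2⟩
  let B : S.Blocks 3 :=
    { W := Wl
      move := fun σ T hT l hl h v hv => by
        obtain ⟨a, b, c, rfl, hd⟩ := three hl h
        exact S.Wd_map hT hd hv
      rank := fun l hl h => by
        obtain ⟨a, b, c, rfl, hd⟩ := three hl h
        obtain ⟨σ, T, hσ, hT⟩ := S.exists_move [a, b, c] [a, c, b]
          hl (by simp [hd.1, hd.2.1.symm, hd.2.2.symm]) rfl (by simp; omega)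
        simp only [List.map_cons, List.map_nil, List.cons.injEq, and_true] at hσ
        show 3 - 1 ≤ finrank k (S.Wd a b c)
        have h2 := S.two_mul_Eig_le h3 hd hω hT hσ.1 hσ.2.1 hσ.2.2
        by_contra hlt
        have h0 : S.Eig a b c ω = ⊥ := Submodule.finrank_eq_zero.1 (by omega)
        have hW : S.Wd a b c ≠ ⊥ := fun h0 => hS (S.eq_one_of_eq_one (by omega) hd (by
          rw [Wd, LinearMap.range_eq_bot] at h0; exact sub_eq_zero.1 h0))
        obtain ⟨v, hv, hv0⟩ := Submodule.exists_mem_ne_zero_of_ne_bot hW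
        have m := S.sub_mem_Eig hd h3 hω hv
        rw [h0, Submodule.mem_bot, sub_eq_zero] at m
        have hu := S.map_inv_of_moves hT hd v
        rw [m, map_smul, hσ.1, hσ.2.1, hσ.2.2] at hu
        have e1 := congr(ω • S.L a b c $hu)
        rw [map_smul, S.L_inv_apply hd, smul_smul,
          show ω * (ω * ω) = 1 by linear_combination (ω - 1) * hω, one_smul] at e1
        have : (T : Module.End k V) v ∈ S.Eig a b c ω := S.mem_Eig.2 e1
        rw [h0, Submodule.mem_bot] at this
        exact hv0 (((Module.End.isUnit_iff _).1 T.isUnit).injective (this.trans (map_zero _).symm))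
      fix := fun l hl h x y z hd' hx hy hz v hv => by
        obtain ⟨a, b, c, rfl, hd⟩ := three hl h
        simp only [List.mem_cons, List.not_mem_nil, or_false, not_or] at hx hy hz
        refine hperm a b c x y z ?_ v hv
        simp [hd.1, hd.2.1, hd.2.2.symm, Ne.symm hx.1, Ne.symm hx.2.1, Ne.symm hx.2.2,
          Ne.symm hy.1, Ne.symm hy.2.1, Ne.symm hy.2.2, Ne.symm hz.1, Ne.symm hz.2.1,
          Ne.symm hz.2.2, hd'.1, hd'.2.1, hd'.2.2.symm]
      nofix := fun l hl h v hv hfix => by
        obtain ⟨a, b, c, rfl, hd⟩ := three hl h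
        exact S.fix_Wd_eq_zero h3 hd hv (hfix a b c hd (by simp) (by simp) (by simp)) }
  by_cases hn : finrank k V + 2 ≤ r
  · refine Or.inr ⟨?_, B.finrank_ge (by omega) (by omega)⟩
    let Q : S.Planes :=
      { P := S.Wd
        rank := fun a b c h => by
          have hl : [a, b, c].Nodup := by simp [h.1, h.2.1, h.2.2.symm]
          have e := B.W_eq_M (by omega) (by omega) hn hl rfl
          show finrank k (B.W [a, b, c]) = 2
          rw [e, B.finrank_M_exact (by omega) hn (by rw [List.toFinset_card_of_nodup hl]; rfl)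
            (by rw [List.toFinset_card_of_nodup hl]; simp; omega), List.toFinset_card_of_nodup hl]
          rfl
        move := fun σ T hT a b c h v hv => S.Wd_map hT h hv
        rot := fun a b c h => by simp only [Wd, S.rot a b c h]
        swap := fun a b c h => (S.Wd_swap h).symm
        ann := fun a b c h v hv => (S.mem_Wd_iff h3 h).1 hv
        fix := hperm
        nofix := fun a b c h v hv hfix => S.fix_Wd_eq_zero h3 h hv (hfix a b c h)
        small := fun a b c d h => by
          have h' := h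
          simp only [List.nodup_cons, List.mem_cons, List.not_mem_nil, or_false, not_or] at h'
          obtain ⟨⟨hab, hac, had⟩, ⟨hbc, hbd⟩, hcd, -⟩ := h'
          have hc : ([a, b, c, d].toFinset).card = 4 := by rw [List.toFinset_card_of_nodup h]; rfl
          refine le_trans (Submodule.finrank_mono (sup_le
            (B.W_le_M (l := [a, b, c]) (s := [a, b, c, d].toFinset) (by simp [hab, hac, hbc]) rfl
              (by intro x hx; simp at hx ⊢; tauto))
            (B.W_le_M (l := [a, b, d]) (s := [a, b, c, d].toFinset) (by simp [hab, had, hbd]) rfl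
              (by intro x hx; simp at hx ⊢; tauto)))) ?_
          rw [B.finrank_M_exact (by omega) hn (by omega) (by omega), hc] }
    exact Q.cast_eq_zero hr hn
  · exact Or.inl (by omega)

end TriSys

/-- The bound away from characteristic three. -/
theorem bound_not_three {k : Type u} [Field k] [IsAlgClosed k] (h3 : (3 : k) ≠ 0) :
    ∀ (r : ℕ) {V : Type v} [AddCommGroup V] [Module k V] [FiniteDimensional k V]
      (S : TriSys k V r), 9 ≤ r → ¬ S.Triv → Bound k r (finrank k V) := by
  intro r
  induction r using Nat.strong_induction_on with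
  | _ r ih =>
    intro V _ _ _ S hr hS
    by_cases hperm : ∀ a b c d e f, [a, b, c, d, e, f].Nodup → ∀ v ∈ S.Wd a b c, S.L d e f v = v
    · exact S.permutation_type h3 hr hS hperm
    push Not at hperm
    obtain ⟨a, b, c, d, e, f, hnd, v, hv, hv'⟩ := hperm
    obtain ⟨ω, hω, hω'⟩ := TriSys.exists_omega h3
    have hn := hnd
    simp only [List.nodup_cons, List.mem_cons, List.not_mem_nil, or_false, not_or] at hn
    obtain ⟨⟨hab, hac, had, hae, haf⟩, ⟨hbc, hbd, hbe, hbf⟩, ⟨hcd, hce, hcf⟩, ⟨hde, hdf⟩, hef, -⟩ := hn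
    have hx : D3 a b c := ⟨hab, hbc, Ne.symm hac⟩
    obtain ⟨σ, T, hσ, hT⟩ := S.exists_move [a, b, c, d, e, f] [a, c, b, d, e, f] hnd
      (by simp [hab, hac, had, hae, haf, hbd, hbe, hbf, hcd, hce, hcf, hde, hdf, hef, Ne.symm hbc])
      rfl (by simp; omega)
    simp only [List.map_cons, List.map_nil, List.cons.injEq, and_true] at hσ
    obtain ⟨s1, s2, s3, s4, s5, s6⟩ := hσ
    have hdy : D3 d e f := ⟨hde, hef, Ne.symm hdf⟩
    have comm' : ∀ w, S.L a b c (S.L d e f w) = S.L d e f (S.L a b c w) := fun w =>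
      LinearMap.congr_fun (S.commute_of_disjoint hnd) w
    -- the second cycle moves some vector of the eigenspace
    have hE : ∃ u ∈ S.Eig a b c ω, S.L d e f u ≠ u := by
      by_contra! hall
      apply hv'
      have h1 := hall _ (S.sub_mem_Eig hx h3 hω hv)
      have hTu : ∀ u ∈ S.Eig a b c (ω * ω), S.L d e f u = u := by
        intro u hu
        have hu : S.L a b c u = (ω * ω) • u := S.mem_Eig.1 hu
        have m : (T : Module.End k V) u ∈ S.Eig a b c ω := by
          have e1 := S.map_inv_of_moves hT hx u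
          rw [hu, map_smul, s1, s2, s3] at e1
          have e2 := congr(ω • S.L a b c $e1)
          rw [map_smul, S.L_inv_apply hx, smul_smul,
            show ω * (ω * ω) = 1 by linear_combination (ω - 1) * hω, one_smul] at e2
          exact S.mem_Eig.2 e2
        have e3 := hall _ m
        have e4 := S.map_inv_of_moves hT hdy u
        rw [s4, s5, s6, e3] at e4
        exact ((Module.End.isUnit_iff _).1 T.isUnit).injective e4
      have h2 := hTu _ (S.sub_mem_Eig hx h3
        (μ := ω * ω) (by linear_combination (ω * ω - ω + 1) * hω) hv)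
      rw [map_sub, map_smul] at h1 h2
      have hω3 : ω * ω * ω = 1 := by linear_combination (ω - 1) * hω
      rw [show ω * ω * (ω * ω) = ω by linear_combination ω * hω3] at h2
      have h5 : (ω - ω * ω) • (S.L d e f v - v) = 0 := by
        linear_combination (norm := module) h1 - h2
      exact sub_eq_zero.1 ((smul_eq_zero.1 h5).resolve_left (fun h => hω' (sub_eq_zero.1 h).symm))
    obtain ⟨g, hg, hg'⟩ := exists_fresh (r := r) (m := r - 3) [a, b, c] (by simp; omega)
    have hrange : ∀ x, x ≠ a → x ≠ b → x ≠ c → ∃ i, g i = x := by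
      intro x h1 h2 h4
      by_contra! hcon
      have hc : (Finset.univ.image g ∪ {a, b, c, x}).card ≤ r := by
        simpa using Finset.card_le_univ (Finset.univ.image g ∪ {a, b, c, x})
      rw [Finset.card_union_of_disjoint] at hc
      · rw [Finset.card_image_of_injective _ hg, Finset.card_univ, Fintype.card_fin] at hc
        have h4' : ({a, b, c, x} : Finset (Fin r)).card = 4 := by
          simp [hab, hac, hbc, Ne.symm h1, Ne.symm h2, Ne.symm h4]
        omega
      · simp only [Finset.disjoint_left, Finset.mem_image, Finset.mem_univ, true_and,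
          Finset.mem_insert, Finset.mem_singleton]
        rintro _ ⟨i, rfl⟩ (h | h | h | h)
        · exact (hg' i) (by simp [h])
        · exact (hg' i) (by simp [h])
        · exact (hg' i) (by simp [h])
        · exact hcon i h
    have hgabc : ∀ i, g i ≠ a ∧ g i ≠ b ∧ g i ≠ c := fun i => by simpa using hg' i
    have hcommg : ∀ p q s, D3 p q s → ∀ u, S.L a b c (S.L (g p) (g q) (g s) u) =
        S.L (g p) (g q) (g s) (S.L a b c u) := fun p q s h u =>
      LinearMap.congr_fun (S.commute_of_disjoint (by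
        simp [hab, hac, hbc, hg.eq_iff, h.1, h.2.1, h.2.2.symm, Ne.symm (hgabc p).1,
          Ne.symm (hgabc p).2.1, Ne.symm (hgabc p).2.2, Ne.symm (hgabc q).1,
          Ne.symm (hgabc q).2.1, Ne.symm (hgabc q).2.2, Ne.symm (hgabc s).1,
          Ne.symm (hgabc s).2.1, Ne.symm (hgabc s).2.2])) u
    have invE : ∀ μ : k, (S.comap g hg).Inv (S.Eig a b c μ) := by
      intro μ p q s h u hu
      rw [TriSys.mem_Eig] at hu ⊢
      rw [TriSys.comap_L, hcommg p q s h, hu, map_smul]
    let S' := (S.comap g hg).sub _ (invE ω)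
    have hS' : ¬ S'.Triv := by
      intro ht
      obtain ⟨u, hu, hu'⟩ := hE
      obtain ⟨p, rfl⟩ := hrange d (Ne.symm had) (Ne.symm hbd) (Ne.symm hcd)
      obtain ⟨q, rfl⟩ := hrange e (Ne.symm hae) (Ne.symm hbe) (Ne.symm hce)
      obtain ⟨s, rfl⟩ := hrange f (Ne.symm haf) (Ne.symm hbf) (Ne.symm hcf)
      have h : D3 p q s := ⟨fun h => hde (congr_arg g h), fun h => hef (congr_arg g h),
        fun h => hdf (congr_arg g h).symm⟩
      have := congr_arg Subtype.val (LinearMap.congr_fun (ht p q s h) ⟨u, hu⟩)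
      rw [TriSys.sub_apply _ _ _ h] at this
      exact hu' this
    have hnum := S.finrank_ker_add_Wd a b c
    have htwo := S.two_mul_Eig_le h3 hx hω hT s1 s2 s3
    by_cases hbig : 12 ≤ r
    · have := (ih (r - 3) (by omega) S' (by omega) hS').le
      exact Or.inl (by omega)
    have h4 := S'.four_le h3 (by omega) hS'
    -- nine, ten or eleven points
    by_cases hsmall : r = 9 ∨ (r = 10 ∧ (r : k) = 0) ∨ 10 ≤ finrank k V ∨
        (r = 10 ∧ 9 ≤ finrank k V)
    · rcases hsmall with h | ⟨h, h'⟩ | h | h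
      · exact Or.inl (by omega)
      · exact Or.inr ⟨h', by omega⟩
      · exact Or.inl (by omega)
      · exact Or.inl (by omega)
    push Not at hsmall
    obtain ⟨hr9, hr10, hn10, hn9⟩ := hsmall
    by_cases hC : finrank k (LinearMap.ker (S.L a b c - 1)) = 0
    · have hf : ∀ p q s, D3 p q s → 1 + S.L p q s + S.L p q s * S.L p q s = 0 := by
        intro p q s h
        obtain ⟨τ, U, hτ, hU⟩ := S.exists_move [a, b, c] [p, q, s] (by simp [hab, hac, hbc])
          (by simp [h.1, h.2.1, h.2.2.symm]) rfl (by simp; omega)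
        simp only [List.map_cons, List.map_nil, List.cons.injEq, and_true] at hτ
        have htop : S.Wd a b c = ⊤ := Submodule.eq_top_of_finrank_eq (by omega)
        ext w
        obtain ⟨u, rfl⟩ := ((Module.End.isUnit_iff _).1 U.isUnit).surjective w
        have e1 := congr((U : Module.End k V) $((S.mem_Wd_iff h3 hx).1 (htop ▸ Submodule.mem_top (x := u))))
        rw [map_add, map_add, S.map_inv_of_moves hU hx, S.map_inv_of_moves hU hx, hτ.1, hτ.2.1,
          hτ.2.2, map_zero] at e1
        rw [S.map_inv_of_moves hU hx, hτ.1, hτ.2.1, hτ.2.2] at e1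
        simpa using e1
      haveI : Nontrivial V := Module.nontrivial_of_finrank_pos (R := k) (by omega)
      have hr' : (r = 10 ∧ (r : k) ≠ 0) ∨ 11 ≤ r := by
        rcases (show r = 10 ∨ r = 11 by omega) with h | h
        · exact Or.inl ⟨h, hr10 h⟩
        · exact Or.inr (by omega)
      have := S.fpf_bound h3 hr' hf
      omega
    · -- one fixed line, common to all
      have hr11 : r = 11 := by
        by_contra hne
        have h10 : r = 10 := by omega
        have := hn9 h10
        omega
      let C : Fin r → Fin r → Fin r → Submodule k V := fun p q s => LinearMap.ker (S.L p q s - 1)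
      have memC : ∀ p q s u, u ∈ C p q s ↔ S.L p q s u = u := fun p q s u => by
        simp [C, sub_eq_zero]
      have dimC : ∀ p q s, D3 p q s → finrank k (C p q s) = finrank k (C a b c) := by
        have le : ∀ p q s p' q' s', D3 p q s → D3 p' q' s' →
            finrank k (C p q s) ≤ finrank k (C p' q' s') := by
          intro p q s p' q' s' h h'
          obtain ⟨τ, U, hτ, hU⟩ := S.exists_move [p, q, s] [p', q', s']
            (by simp [h.1, h.2.1, h.2.2.symm]) (by simp [h'.1, h'.2.1, h'.2.2.symm]) rfl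
            (by simp; omega)
          simp only [List.map_cons, List.map_nil, List.cons.injEq, and_true] at hτ
          rw [LinearEquiv.finrank_eq (Submodule.equivMapOfInjective _
            (((Module.End.isUnit_iff _).1 U.isUnit).injective) (C p q s))]
          refine Submodule.finrank_mono ?_
          rintro _ ⟨u, hu, rfl⟩
          have e := S.map_inv_of_moves hU h u
          rw [(memC _ _ _ _).1 hu, hτ.1, hτ.2.1, hτ.2.2] at e
          exact (memC _ _ _ _).2 e.symm
        intro p q s h
        exact le_antisymm (le _ _ _ _ _ _ h hx) (le _ _ _ _ _ _ hx h)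
      have hCeq : ∀ p q s p' q' s', [p, q, s, p', q', s'].Nodup → C p q s = C p' q' s' := by
        intro p q s p' q' s' hn
        have hn' := hn
        simp only [List.nodup_cons, List.mem_cons, List.not_mem_nil, or_false, not_or] at hn'
        obtain ⟨⟨hpq, hps, hpp, hpq', hps'⟩, ⟨hqs, hqp, hqq, hqs'⟩, ⟨hsp, hsq, hss⟩, ⟨hpq2, hps2⟩, hqs2, -⟩ := hn'
        have hp : D3 p q s := ⟨hpq, hqs, Ne.symm hps⟩
        have hp' : D3 p' q' s' := ⟨hpq2, hqs2, Ne.symm hps2⟩
        refine Submodule.eq_of_le_of_finrank_le (fun u hu => ?_)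
          (by rw [dimC _ _ _ hp, dimC _ _ _ hp'])
        obtain ⟨f', hf, hf'⟩ := exists_fresh (r := r) (m := 5) [p, q, s, p', q', s'] (by simp; omega)
        have h8 : Function.Injective (Fin.append ![p', q', s'] f' : Fin 8 → Fin r) := by
          refine Fin.append_injective_iff.2 ⟨?_, hf, fun i j => ?_⟩
          · intro i j
            fin_cases i <;> fin_cases j <;>
              simp [hpq2, hps2, hqs2, Ne.symm hpq2, Ne.symm hps2, Ne.symm hqs2]
          · have := hf' j
            simp only [List.mem_cons, List.not_mem_nil, or_false, not_or] at this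
            fin_cases i <;> simp [Ne.symm this.2.2.2.1, Ne.symm this.2.2.2.2.1, Ne.symm this.2.2.2.2.2]
        have havoid : ∀ i, Fin.append ![p', q', s'] f' i ≠ p ∧ Fin.append ![p', q', s'] f' i ≠ q ∧
            Fin.append ![p', q', s'] f' i ≠ s := by
          intro i
          induction i using Fin.addCases with
          | left j =>
            rw [Fin.append_left]
            fin_cases j <;> simp [Ne.symm hpp, Ne.symm hqp, Ne.symm hsp, Ne.symm hpq', Ne.symm hqq,
              Ne.symm hsq, Ne.symm hps', Ne.symm hqs', Ne.symm hss]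
          | right j =>
            have := hf' j
            simp only [List.mem_cons, List.not_mem_nil, or_false, not_or] at this
            simp [this.1, this.2.1, this.2.2.1]
        set G := Fin.append ![p', q', s'] f'
        have hinv : (S.comap G h8).Inv (C p q s) := by
          intro i j l hij u hu
          rw [memC] at hu ⊢
          have hcm := LinearMap.congr_fun (S.commute_of_disjoint (a := p) (b := q) (c := s)
            (d := G i) (e := G j) (f := G l) (by
              simp [hpq, hps, hqs, h8.eq_iff, hij.1, hij.2.1, hij.2.2.symm, Ne.symm (havoid i).1,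
                Ne.symm (havoid i).2.1, Ne.symm (havoid i).2.2, Ne.symm (havoid j).1,
                Ne.symm (havoid j).2.1, Ne.symm (havoid j).2.2, Ne.symm (havoid l).1,
                Ne.symm (havoid l).2.1, Ne.symm (havoid l).2.2])) u
          simp only [Module.End.mul_apply] at hcm
          rw [TriSys.comap_L, hcm, hu]
        have ht : ((S.comap G h8).sub _ hinv).Triv := by
          by_contra hnt
          have := ((S.comap G h8).sub _ hinv).four_le h3 (by omega) hnt
          rw [dimC _ _ _ hp] at this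
          simp only [C] at this
          omega
        have h012 : D3 (Fin.castAdd 5 0 : Fin (3 + 5)) (Fin.castAdd 5 1) (Fin.castAdd 5 2) := by
          simp [D3, Fin.ext_iff]
        have := congr_arg Subtype.val (LinearMap.congr_fun (ht _ _ _ h012) ⟨u, hu⟩)
        have e0 : G (Fin.castAdd 5 0) = p' := Fin.append_left _ _ 0
        have e1 : G (Fin.castAdd 5 1) = q' := Fin.append_left _ _ 1
        have e2 : G (Fin.castAdd 5 2) = s' := Fin.append_left _ _ 2
        rw [TriSys.sub_apply _ _ _ h012, TriSys.comap_L, e0, e1, e2] at this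
        rw [memC]
        exact this
      have hall : ∀ p q s, D3 p q s → C p q s = C a b c := by
        intro p q s h
        obtain ⟨w', hw, hw'⟩ := exists_fresh (r := r) (m := 3) [a, b, c, p, q, s] (by simp; omega)
        have h0 := hw' 0; have h1 := hw' 1; have h2 := hw' 2
        simp only [List.mem_cons, List.not_mem_nil, or_false, not_or] at h0 h1 h2
        rw [hCeq a b c (w' 0) (w' 1) (w' 2) (by
            simp [hab, hac, hbc, hw.eq_iff, Ne.symm h0.1, Ne.symm h1.1, Ne.symm h2.1,
              Ne.symm h0.2.1, Ne.symm h1.2.1, Ne.symm h2.2.1, Ne.symm h0.2.2.1,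
              Ne.symm h1.2.2.1, Ne.symm h2.2.2.1]),
          hCeq p q s (w' 0) (w' 1) (w' 2) (by
            simp [h.1, h.2.1, h.2.2.symm, hw.eq_iff, Ne.symm h0.2.2.2.1, Ne.symm h1.2.2.2.1,
              Ne.symm h2.2.2.2.1, Ne.symm h0.2.2.2.2.1, Ne.symm h1.2.2.2.2.1,
              Ne.symm h2.2.2.2.2.1, Ne.symm h0.2.2.2.2.2, Ne.symm h1.2.2.2.2.2,
              Ne.symm h2.2.2.2.2.2])]
      set U := C a b c with hUdef
      have hfix : ∀ p q s, D3 p q s → ∀ u ∈ U, S.L p q s u = u := fun p q s h u hu =>
        (memC p q s u).1 (by rw [hall p q s h]; exact hu)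
      have hUinv : S.Inv U := fun p q s h u hu => by rw [hfix p q s h u hu]; exact hu
      have hf : ∀ p q s, D3 p q s → 1 + (S.quot U hUinv).L p q s
          + (S.quot U hUinv).L p q s * (S.quot U hUinv).L p q s = 0 := by
        intro p q s h
        apply LinearMap.ext
        intro z
        obtain ⟨u, rfl⟩ := U.mkQ_surjective z
        have hm : u + S.L p q s u + S.L p q s (S.L p q s u) ∈ U := by
          rw [← hall p q s h, memC, map_add, map_add]
          have := LinearMap.congr_fun (S.cube p q s h) u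
          simp only [Module.End.mul_apply, Module.End.one_apply] at this
          rw [this]; abel
        simp only [LinearMap.add_apply, Module.End.one_apply, Module.End.mul_apply,
          S.quot_apply U hUinv h, ← map_add]
        exact (Submodule.Quotient.mk_eq_zero U).2 hm
      have hq : finrank k (V ⧸ U) = finrank k V - finrank k U := by
        have := Submodule.finrank_quotient_add_finrank U
        omega
      haveI : Nontrivial (V ⧸ U) := Module.nontrivial_of_finrank_pos (R := k) (by
        have : finrank k U = finrank k (LinearMap.ker (S.L a b c - 1)) := rfl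
        omega)
      have := (S.quot U hUinv).fpf_bound h3 (Or.inr (by omega)) hf
      have : finrank k U = finrank k (LinearMap.ker (S.L a b c - 1)) := rfl
      omega

end Cfsg.Agent.AltSection
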