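import Cfsg.Agent.Lib.AltSection.Four
import Cfsg.Agent.Lib.AltSection.CharNotThree

/-!
Characteristic three, the lifts of the double transpositions being involutions.
-/

set_option autoImplicit false
set_option linter.unusedSimpArgs false
set_option linter.unusedSectionVars false

namespace Cfsg.Agent.AltSection

open Module Equiv

universe u v

theorem scalar_eq_one {k : Type*} [Field k] (h3 : (3 : k) = 0) {μ : k} (h : μ * μ * μ = 1) :
    μ = 1 := by
  have : (μ - 1) ^ 3 = 0 := by linear_combination h - (μ * μ - μ) * h3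
  exact sub_eq_zero.1 (pow_eq_zero_iff (by norm_num) |>.1 this)

namespace TriSys

variable {k : Type u} [Field k] {V : Type v} [AddCommGroup V] [Module k V] {r : ℕ}
  (S : TriSys k V r)

/-- The sum of the three double transpositions of a block. -/
def sm (a b c d : Fin r) : Module.End k V := S.Tq a b c d + S.Tq a c d b + S.Tq a d b c

/-- The moving part of the four-group. -/
def Wb (a b c d : Fin r) : Submodule k V := LinearMap.range (S.sm a b c d)

/-- The first weight space in the moving part. -/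
def Ub (a b c d : Fin r) : Submodule k V :=
  LinearMap.range (S.sm a b c d + S.Tq a b c d * S.sm a b c d)

theorem four_apply (hκ : S.Kap 1) {a b c d : Fin r} (h : [a, b, c, d].Nodup) (v : V) :
    S.Tq a b c d (S.Tq a b c d v) = v ∧ S.Tq a c d b (S.Tq a c d b v) = v ∧
      S.Tq a d b c (S.Tq a d b c v) = v ∧
      S.Tq a b c d (S.Tq a c d b v) = S.Tq a d b c v ∧
      S.Tq a c d b (S.Tq a b c d v) = S.Tq a d b c v ∧
      S.Tq a c d b (S.Tq a d b c v) = S.Tq a b c d v ∧
      S.Tq a d b c (S.Tq a c d b v) = S.Tq a b c d v ∧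
      S.Tq a d b c (S.Tq a b c d v) = S.Tq a c d b v ∧
      S.Tq a b c d (S.Tq a d b c v) = S.Tq a c d b v := by
  obtain ⟨-, -, h3, h4⟩ := D3_of_nodup h
  obtain ⟨p1, q1⟩ := S.four_group hκ (one_mul 1) h
  obtain ⟨p2, q2⟩ := S.four_group hκ (one_mul 1) h3
  obtain ⟨p3, q3⟩ := S.four_group hκ (one_mul 1) h4
  have k1 := LinearMap.congr_fun (hκ a b c d h) v
  have k2 := LinearMap.congr_fun (hκ a c d b h3) v
  have k3 := LinearMap.congr_fun (hκ a d b c h4) v
  simp only [one_smul, Module.End.mul_apply, Module.End.one_apply] at k1 k2 k3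
  simp only [one_smul] at q1 q2 q3
  exact ⟨k1, k2, k3, LinearMap.congr_fun p1 v, LinearMap.congr_fun q1 v,
    LinearMap.congr_fun p2 v, LinearMap.congr_fun q2 v, LinearMap.congr_fun p3 v,
    LinearMap.congr_fun q3 v⟩

theorem Wb_spec (h3 : (3 : k) = 0) (hκ : S.Kap 1) {a b c d : Fin r} (h : [a, b, c, d].Nodup)
    {v : V} : v ∈ S.Wb a b c d ↔ S.sm a b c d v = -v := by
  constructor
  · rintro ⟨u, rfl⟩
    obtain ⟨e1, e2, e3, e4, e5, e6, e7, e8, e9⟩ := S.four_apply hκ h u
    simp only [sm, LinearMap.add_apply, map_add, e1, e2, e3, e4, e5, e6, e7, e8, e9]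
    have : (3 : k) • (u + S.Tq a b c d u + S.Tq a c d b u + S.Tq a d b c u) = 0 := by
      rw [h3, zero_smul]
    linear_combination (norm := module) this
  · intro hv
    exact ⟨-v, by rw [map_neg, hv, neg_neg]⟩

theorem Ub_spec (h3 : (3 : k) = 0) (hκ : S.Kap 1) {a b c d : Fin r} (h : [a, b, c, d].Nodup)
    {v : V} : v ∈ S.Ub a b c d ↔
      S.Tq a b c d v = v ∧ S.Tq a c d b v = -v ∧ S.Tq a d b c v = -v := by
  constructor
  · rintro ⟨u, rfl⟩
    obtain ⟨e1, e2, e3, e4, e5, e6, e7, e8, e9⟩ := S.four_apply hκ h u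
    have h0 : ∀ w : V, (3 : k) • w = 0 := fun w => by rw [h3, zero_smul]
    refine ⟨?_, ?_, ?_⟩ <;>
      simp only [sm, LinearMap.add_apply, Module.End.mul_apply, map_add, e1, e2, e3, e4, e5, e6,
        e7, e8, e9]
    · abel
    · linear_combination (norm := module) h0 (u + S.Tq a b c d u + S.Tq a c d b u + S.Tq a d b c u)
    · linear_combination (norm := module) h0 (u + S.Tq a b c d u + S.Tq a c d b u + S.Tq a d b c u)
  · rintro ⟨h1, h2, h4⟩
    refine ⟨v, ?_⟩
    have h0 : (3 : k) • v = 0 := by rw [h3, zero_smul]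
    simp only [sm, LinearMap.add_apply, Module.End.mul_apply, h1, h2, h4, map_add, map_neg]
    linear_combination (norm := module) (-1 : k) • h0

theorem Ub_le_Wb (h3 : (3 : k) = 0) (hκ : S.Kap 1) {a b c d : Fin r} (h : [a, b, c, d].Nodup) :
    S.Ub a b c d ≤ S.Wb a b c d := by
  intro v hv
  obtain ⟨h1, h2, h4⟩ := (S.Ub_spec h3 hκ h).1 hv
  rw [S.Wb_spec h3 hκ h]
  simp only [sm, LinearMap.add_apply, h1, h2, h4]
  abel

theorem sm_rot (a b c d : Fin r) : S.sm a c d b = S.sm a b c d := by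
  simp only [sm]; abel

theorem Wb_rot (a b c d : Fin r) : S.Wb a c d b = S.Wb a b c d := by
  rw [Wb, Wb, sm_rot]

/-- A vector of the moving part is a sum of its three components. -/
theorem Wb_split (h3 : (3 : k) = 0) (hκ : S.Kap 1) {a b c d : Fin r} (h : [a, b, c, d].Nodup)
    {v : V} (hv : v ∈ S.Wb a b c d) :
    (v + S.Tq a b c d v) ∈ S.Ub a b c d ∧ (v + S.Tq a c d b v) ∈ S.Ub a c d b ∧
      (v + S.Tq a d b c v) ∈ S.Ub a d b c ∧
      v = -((v + S.Tq a b c d v) + (v + S.Tq a c d b v) + (v + S.Tq a d b c v)) := by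
  obtain ⟨-, -, h4, h5⟩ := D3_of_nodup h
  have hs := (S.Wb_spec h3 hκ h).1 hv
  have mem : ∀ {a b c d : Fin r}, S.sm a b c d v = -v →
      v + S.Tq a b c d v ∈ S.Ub a b c d := by
    intro a b c d hs
    refine ⟨-v, ?_⟩
    simp only [LinearMap.add_apply, Module.End.mul_apply, map_neg, hs, neg_neg]
    abel
  refine ⟨mem hs, mem (by rw [S.sm_rot]; exact hs), mem (by rw [S.sm_rot, S.sm_rot]; exact hs), ?_⟩
  have h0 : (3 : k) • v = 0 := by rw [h3, zero_smul]
  simp only [sm, LinearMap.add_apply] at hs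
  linear_combination (norm := module) hs + h0

theorem fixed_of_four (h3 : (3 : k) = 0) (hκ : S.Kap 1) {a b c d : Fin r} (h : [a, b, c, d].Nodup)
    {v : V} (hv : v ∈ S.Wb a b c d)
    (hfix : ∀ x y z, D3 x y z → x ∈ [a, b, c, d] → y ∈ [a, b, c, d] → z ∈ [a, b, c, d] →
      S.L x y z v = v) : v = 0 := by
  obtain ⟨-, -, h4, h5⟩ := D3_of_nodup h
  have ht : ∀ {p q s t : Fin r}, [p, q, s, t].Nodup → p ∈ [a, b, c, d] → q ∈ [a, b, c, d] →
      s ∈ [a, b, c, d] → t ∈ [a, b, c, d] → S.Tq p q s t v = v := by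
    intro p q s t hn hp hq hs ht
    obtain ⟨d1, d2, -, -⟩ := D3_of_nodup hn
    rw [Tq, Module.End.mul_apply, hfix q s t d2 hq hs ht, hfix p q s d1 hp hq hs]
  have hs := (S.Wb_spec h3 hκ h).1 hv
  simp only [sm, LinearMap.add_apply, ht h (by simp) (by simp) (by simp) (by simp),
    ht h4 (by simp) (by simp) (by simp) (by simp), ht h5 (by simp) (by simp) (by simp) (by simp)] at hs
  have h0 : (3 : k) • v = 0 := by rw [h3, zero_smul]
  linear_combination (norm := module) hs - h0

theorem Wb_map {σ : Perm (Fin r)} {T : (Module.End k V)ˣ} (hT : S.Moves σ T) {a b c d : Fin r}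
    (h : [a, b, c, d].Nodup) {v : V} (hv : v ∈ S.Wb a b c d) :
    (T : Module.End k V) v ∈ S.Wb (σ a) (σ b) (σ c) (σ d) := by
  obtain ⟨u, rfl⟩ := hv
  obtain ⟨-, -, h4, h5⟩ := D3_of_nodup h
  refine ⟨(T : Module.End k V) u, ?_⟩
  have e1 := LinearMap.congr_fun (S.Tq_map hT h) u
  have e2 := LinearMap.congr_fun (S.Tq_map hT h4) u
  have e3 := LinearMap.congr_fun (S.Tq_map hT h5) u
  simp only [Module.End.mul_apply] at e1 e2 e3
  simp only [sm, LinearMap.add_apply, map_add, e1, e2, e3]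

theorem Ub_map (h3 : (3 : k) = 0) (hκ : S.Kap 1) {a b c d : Fin r} (h : [a, b, c, d].Nodup)
    {v : V} (hv : v ∈ S.Ub a b c d) : S.L b c d v ∈ S.Ub a c d b := by
  obtain ⟨-, -, h4, h5⟩ := D3_of_nodup h
  obtain ⟨h1, h2, h6⟩ := (S.Ub_spec h3 hκ h).1 hv
  rw [S.Ub_spec h3 hκ h4]
  have e1 := LinearMap.congr_fun (S.conj_Tq h) v
  have e2 := LinearMap.congr_fun (S.conj_Tq h4) v
  have e3 := LinearMap.congr_fun (S.conj_Tq h5) v
  simp only [Module.End.mul_apply] at e1 e2 e3
  have hy := (D3_of_nodup h).2.1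
  rw [← S.rot b c d hy] at e2
  rw [← S.rot' hy] at e3
  rw [h1] at e1; rw [h2, map_neg] at e2; rw [h6, map_neg] at e3
  exact ⟨e1.symm, e2.symm, e3.symm⟩

theorem triv_of_Wb (hr : 5 ≤ r) (hκ : S.Kap 1)
    (h0 : ∀ p q s t : Fin r, [p, q, s, t].Nodup → S.Wb p q s t = ⊥) : S.Triv := by
  have all : ∀ p q s t : Fin r, [p, q, s, t].Nodup → S.L q s t = S.L p s q := by
    intro p q s t hn
    obtain ⟨d1, d2, n2, n3⟩ := D3_of_nodup hn
    have hsm : S.sm p q s t = 0 := LinearMap.range_eq_bot.1 (h0 p q s t hn)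
    have ht : S.Tq p q s t = 1 := by
      apply LinearMap.ext
      intro v
      obtain ⟨e1, e2, e3, e4, e5, e6, e7, e8, e9⟩ := S.four_apply hκ hn v
      have z1 := LinearMap.congr_fun hsm (S.Tq p q s t v)
      have z2 := LinearMap.congr_fun hsm v
      simp only [sm, LinearMap.add_apply, e1, e5, e8, LinearMap.zero_apply] at z1 z2
      rw [Module.End.one_apply]
      linear_combination (norm := module) z2 - z1
    have := congr(S.L p s q * $ht)
    rwa [Tq, ← mul_assoc, S.inv_mul d1, one_mul, mul_one] at this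
  refine S.triv_of_eq hr fun b c d e hn => ?_
  obtain ⟨g, -, hg'⟩ := exists_fresh (r := r) (m := 1) [b, c, d, e] (by simp; omega)
  have g0 := hg' 0
  simp only [List.mem_cons, List.not_mem_nil, or_false, not_or] at g0
  simp only [List.nodup_cons, List.mem_cons, List.not_mem_nil, or_false, not_or] at hn
  obtain ⟨⟨hbc, hbd, hbe⟩, ⟨hcd, hce⟩, hde, -⟩ := hn
  rw [all (g 0) b c d (by simp [g0, hbc, hbd, hcd]), all (g 0) b c e (by simp [g0, hbc, hbe, hce])]

theorem Wb_ne_bot (hr : 6 ≤ r) (hκ : S.Kap 1) (hS : ¬ S.Triv) {a b c d : Fin r}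
    (h : [a, b, c, d].Nodup) : S.Wb a b c d ≠ ⊥ := by
  intro h0
  apply hS
  refine S.triv_of_Wb (by omega) hκ fun p q s t hn => (Submodule.eq_bot_iff _).2 fun v hv => ?_
  obtain ⟨σ, T, hσ, hT⟩ := S.exists_move [p, q, s, t] [a, b, c, d] hn h rfl (by simp; omega)
  simp only [List.map_cons, List.map_nil, List.cons.injEq, and_true] at hσ
  have e := S.Wb_map hT hn hv
  rw [hσ.1, hσ.2.1, hσ.2.2.1, hσ.2.2.2, h0, Submodule.mem_bot] at e
  exact ((Module.End.isUnit_iff _).1 T.isUnit).injective (e.trans (map_zero _).symm)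

variable [FiniteDimensional k V]

theorem finrank_split (h3 : (3 : k) = 0) (hκ : S.Kap 1) {a b c d : Fin r}
    (h : [a, b, c, d].Nodup) :
    3 * finrank k (S.Ub a b c d) ≤ finrank k (S.Wb a b c d) ∧
      finrank k (S.Ub a c d b) = finrank k (S.Ub a b c d) ∧
      finrank k (S.Ub a d b c) = finrank k (S.Ub a b c d) := by
  obtain ⟨-, -, h4, h5⟩ := D3_of_nodup h
  have le : ∀ {a b c d : Fin r}, [a, b, c, d].Nodup →
      finrank k (S.Ub a b c d) ≤ finrank k (S.Ub a c d b) := by
    intro a b c d h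
    have hy := (D3_of_nodup h).2.1
    rw [LinearEquiv.finrank_eq (Submodule.equivMapOfInjective _
      (((Module.End.isUnit_iff _).1 (S.unit hy).isUnit).injective) (S.Ub a b c d))]
    refine Submodule.finrank_mono ?_
    rintro _ ⟨v, hv, rfl⟩
    exact S.Ub_map h3 hκ h hv
  have l1 := le h; have l2 := le h4; have l3 := le h5
  refine ⟨?_, by omega, by omega⟩
  have h2ne : (2 : k) ≠ 0 := fun h2 => one_ne_zero (α := k) (by linear_combination h3 - h2)
  have i1 : S.Ub a b c d ⊓ S.Ub a c d b = ⊥ := by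
    refine (Submodule.eq_bot_iff _).2 fun v hv => ?_
    have a1 := ((S.Ub_spec h3 hκ h).1 hv.1).1
    have a2 := ((S.Ub_spec h3 hκ h4).1 hv.2).2.2
    rw [a1] at a2
    have : (2 : k) • v = 0 := by linear_combination (norm := module) a2
    exact (smul_eq_zero.1 this).resolve_left h2ne
  have i2 : (S.Ub a b c d ⊔ S.Ub a c d b) ⊓ S.Ub a d b c = ⊥ := by
    refine (Submodule.eq_bot_iff _).2 fun v hv => ?_
    obtain ⟨hv1, hv2⟩ := hv
    obtain ⟨u, hu, w, hw, rfl⟩ := Submodule.mem_sup.1 hv1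
    have a1 := ((S.Ub_spec h3 hκ h).1 hu).2.2
    have a2 := ((S.Ub_spec h3 hκ h4).1 hw).2.1
    have a3 := ((S.Ub_spec h3 hκ h5).1 hv2).1
    rw [map_add, a1, a2] at a3
    have : (2 : k) • (u + w) = 0 := by linear_combination (norm := module) -a3
    exact (smul_eq_zero.1 this).resolve_left h2ne
  have e1 := Submodule.finrank_sup_add_finrank_inf_eq (S.Ub a b c d) (S.Ub a c d b)
  have e2 := Submodule.finrank_sup_add_finrank_inf_eq (S.Ub a b c d ⊔ S.Ub a c d b) (S.Ub a d b c)
  rw [i1, finrank_bot] at e1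
  rw [i2, finrank_bot] at e2
  have hw4 : S.Ub a c d b ≤ S.Wb a b c d := by
    rw [← S.Wb_rot a b c d]; exact S.Ub_le_Wb h3 hκ h4
  have hw5 : S.Ub a d b c ≤ S.Wb a b c d := by
    rw [← S.Wb_rot a b c d, ← S.Wb_rot a c d b]; exact S.Ub_le_Wb h3 hκ h5
  have := Submodule.finrank_mono (sup_le (sup_le (S.Ub_le_Wb h3 hκ h) hw4) hw5)
  omega

theorem one_le_Ub (h3 : (3 : k) = 0) (hκ : S.Kap 1) {a b c d : Fin r} (h : [a, b, c, d].Nodup)
    (hne : S.Wb a b c d ≠ ⊥) : 1 ≤ finrank k (S.Ub a b c d) := by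
  obtain ⟨-, e4, e5⟩ := S.finrank_split h3 hκ h
  obtain ⟨v, hv, hv0⟩ := Submodule.exists_mem_ne_zero_of_ne_bot hne
  by_contra hlt
  obtain ⟨m1, m2, m3, hsum⟩ := S.Wb_split h3 hκ h hv
  rw [Submodule.finrank_eq_zero.1 (show finrank k (S.Ub a b c d) = 0 by omega),
    Submodule.mem_bot] at m1
  rw [Submodule.finrank_eq_zero.1 (show finrank k (S.Ub a c d b) = 0 by omega),
    Submodule.mem_bot] at m2
  rw [Submodule.finrank_eq_zero.1 (show finrank k (S.Ub a d b c) = 0 by omega),
    Submodule.mem_bot] at m3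
  rw [m1, m2, m3] at hsum
  exact hv0 (by simpa using hsum)

theorem Ub_ne_bot (h3 : (3 : k) = 0) (hκ : S.Kap 1) (hr : 6 ≤ r) (hS : ¬ S.Triv) {a b c d : Fin r}
    (h : [a, b, c, d].Nodup) : 1 ≤ finrank k (S.Ub a b c d) :=
  S.one_le_Ub h3 hκ h (S.Wb_ne_bot hr hκ hS h)

theorem three_le (h3 : (3 : k) = 0) (hκ : S.Kap 1) (hr : 5 ≤ r) (hS : ¬ S.Triv) :
    3 ≤ finrank k V := by
  by_contra hlt
  refine hS (S.triv_of_Wb hr hκ fun p q s t hn => by_contra fun hne => ?_)
  have := (S.finrank_split h3 hκ hn).1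
  have := S.one_le_Ub h3 hκ hn hne
  have := (S.Wb p q s t).finrank_le
  omega

theorem four_le_three (h3 : (3 : k) = 0) (hκ : S.Kap 1) (hr : 7 ≤ r) (hS : ¬ S.Triv) :
    4 ≤ finrank k V := by
  by_contra hlt
  obtain ⟨f, hf, -⟩ := exists_fresh (r := r) (m := 7) [] (by simp; omega)
  have h : [f 0, f 1, f 2, f 3].Nodup := by simp [hf.eq_iff]
  obtain ⟨-, -, h4, h5⟩ := D3_of_nodup h
  obtain ⟨e1, e4, e5⟩ := S.finrank_split h3 hκ h
  have h1 := S.Ub_ne_bot h3 hκ (by omega) hS h
  have hle := (S.Wb (f 0) (f 1) (f 2) (f 3)).finrank_le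
  have hz : D3 (f 4) (f 5) (f 6) := ⟨hf.ne (by decide), hf.ne (by decide), hf.ne (by decide)⟩
  have fixU : ∀ {a b c d : Fin r}, [a, b, c, d].Nodup → finrank k (S.Ub a b c d) = 1 →
      (∀ w, S.Tq a b c d (S.L (f 4) (f 5) (f 6) w) = S.L (f 4) (f 5) (f 6) (S.Tq a b c d w)) →
      (∀ w, S.Tq a c d b (S.L (f 4) (f 5) (f 6) w) = S.L (f 4) (f 5) (f 6) (S.Tq a c d b w)) →
      (∀ w, S.Tq a d b c (S.L (f 4) (f 5) (f 6) w) = S.L (f 4) (f 5) (f 6) (S.Tq a d b c w)) →
      ∀ u ∈ S.Ub a b c d, S.L (f 4) (f 5) (f 6) u = u := by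
    intro a b c d hn hd c1 c2 c3 u hu
    by_cases hu0 : u = 0
    · simp [hu0]
    obtain ⟨s1, s2, s3⟩ := (S.Ub_spec h3 hκ hn).1 hu
    have hm : S.L (f 4) (f 5) (f 6) u ∈ S.Ub a b c d := by
      rw [S.Ub_spec h3 hκ hn, c1, c2, c3, s1, s2, s3]; simp
    obtain ⟨μ, hμ⟩ := (finrank_eq_one_iff_of_nonzero' (⟨u, hu⟩ : S.Ub a b c d)
      (fun h => hu0 (congr_arg Subtype.val h))).1 hd ⟨_, hm⟩
    have hμ : μ • u = S.L (f 4) (f 5) (f 6) u := congr_arg Subtype.val hμ
    have hc := LinearMap.congr_fun (S.cube _ _ _ hz) u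
    simp only [Module.End.mul_apply, Module.End.one_apply, ← hμ, map_smul, smul_smul] at hc
    have : μ * (μ * μ) = 1 := smul_left_injective k hu0 (hc.trans (one_smul k u).symm)
    rw [← hμ, scalar_eq_one h3 ((mul_assoc μ μ μ).trans this), one_smul]
  have cm : ∀ {p q s t : Fin 7}, [p, q, s, t].Nodup → p.1 < 4 → q.1 < 4 → s.1 < 4 → t.1 < 4 →
      ∀ w, S.Tq (f p) (f q) (f s) (f t) (S.L (f 4) (f 5) (f 6) w) =
        S.L (f 4) (f 5) (f 6) (S.Tq (f p) (f q) (f s) (f t) w) := by
    intro p q s t hn hp hq hs ht w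
    have key : ∀ {p q s : Fin 7}, D3 p q s → p.1 < 4 → q.1 < 4 → s.1 < 4 → ∀ w,
        S.L (f p) (f q) (f s) (S.L (f 4) (f 5) (f 6) w) =
          S.L (f 4) (f 5) (f 6) (S.L (f p) (f q) (f s) w) := by
      intro p q s hd hp hq hs w
      refine LinearMap.congr_fun (S.commute_of_disjoint ?_) w
      simp [hf.eq_iff, hd.1, hd.2.1, hd.2.2.symm]
      refine ⟨⟨?_, ?_, ?_⟩, ⟨?_, ?_, ?_⟩, ?_, ?_, ?_⟩ <;> · intro e; subst e; simp at *
    simp only [List.nodup_cons, List.mem_cons, List.not_mem_nil, or_false, not_or] at hn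
    obtain ⟨⟨hpq, hps, hpt⟩, ⟨hqs, hqt⟩, hst, -⟩ := hn
    simp only [Tq, Module.End.mul_apply]
    rw [key ⟨hqs, hst, Ne.symm hqt⟩ hq hs ht, key ⟨hpq, hqs, Ne.symm hps⟩ hp hq hs]
  have c1 := cm (p := 0) (q := 1) (s := 2) (t := 3) (by decide) (by decide) (by decide) (by decide) (by decide)
  have c2 := cm (p := 0) (q := 2) (s := 3) (t := 1) (by decide) (by decide) (by decide) (by decide) (by decide)
  have c3 := cm (p := 0) (q := 3) (s := 1) (t := 2) (by decide) (by decide) (by decide) (by decide) (by decide)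
  have htop : S.Wb (f 0) (f 1) (f 2) (f 3) = ⊤ := Submodule.eq_top_of_finrank_eq (by omega)
  refine hS (S.eq_one_of_eq_one (by omega) hz (LinearMap.ext fun v => ?_))
  obtain ⟨m1, m2, m3, hsum⟩ := S.Wb_split h3 hκ h (v := v) (htop ▸ Submodule.mem_top)
  rw [Module.End.one_apply, hsum, map_neg, map_add, map_add, fixU h (by omega) c1 c2 c3 _ m1,
    fixU h4 (by omega) c2 c3 c1 _ m2, fixU h5 (by omega) c3 c1 c2 _ m3]

theorem card_four {a b c d : Fin r} (h : [a, b, c, d].Nodup) :
    ({a, b, c, d} : Finset (Fin r)).card = 4 := by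
  simp only [List.nodup_cons, List.mem_cons, List.not_mem_nil, or_false, not_or] at h
  simp [h.1.1, h.1.2.1, h.1.2.2, h.2.1.1, h.2.1.2, h.2.2.1]

section Planes

variable (B : S.Blocks 4)

/-- The image of `L - 1` on a four-point span. -/
def img (a b c d : Fin r) : Submodule k V :=
  (B.M {a, b, c, d}).map (S.L a b c - 1 : V →ₗ[k] V)

theorem cyc_image {a b c : Fin r} (h : D3 a b c) {s : Finset (Fin r)} (ha : a ∈ s) (hb : b ∈ s)
    (hc : c ∈ s) : s.image (cyc a b c) ⊆ s := by
  intro x hx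
  obtain ⟨z, hz, rfl⟩ := Finset.mem_image.1 hx
  by_cases h1 : z = a
  · rw [h1, cyc_apply_fst h]; exact hb
  by_cases h2 : z = b
  · rw [h2, cyc_apply_snd h]; exact hc
  by_cases h3 : z = c
  · rw [h3, cyc_apply_thd h]; exact ha
  rwa [cyc_apply_of_ne h1 h2 h3]

theorem L_mem_M {a b c : Fin r} (h : D3 a b c) {s : Finset (Fin r)} (ha : a ∈ s) (hb : b ∈ s)
    (hc : c ∈ s) {v : V} (hv : v ∈ B.M s) : S.L a b c v ∈ B.M s :=
  B.M_mono (cyc_image h ha hb hc) (B.map_M_le (S.moves_cyc h) s ⟨v, hv, rfl⟩)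

theorem img_le {a b c d : Fin r} (h : [a, b, c, d].Nodup) :
    S.img B a b c d ≤ B.M ({a, b, c, d} : Finset (Fin r)) := by
  rintro _ ⟨v, hv, rfl⟩
  simpa using sub_mem (S.L_mem_M B (D3_of_nodup h).1 (by simp) (by simp) (by simp) hv) hv

variable (h3 : (3 : k) = 0) (hκ : S.Kap 1) (hr : 9 ≤ r) (hS : ¬ S.Triv)
  (hex : ∀ {s : Finset (Fin r)}, 4 ≤ s.card → s.card + 4 ≤ r → finrank k (B.M s) = s.card - 1)
  (hWM : ∀ a b c d : Fin r, [a, b, c, d].Nodup → S.Wb a b c d = B.M {a, b, c, d})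

include h3 hκ hr hS hex hWM

theorem two_le_img {a b c d : Fin r} (h : [a, b, c, d].Nodup) :
    2 ≤ finrank k (S.img B a b c d) := by
  obtain ⟨h1, -, -, -⟩ := D3_of_nodup h
  have h' : [d, a, b, c].Nodup :=
    (List.Perm.nodup_iff (List.perm_append_comm (l₁ := [a, b, c]) (l₂ := [d]))).1 h
  have eM : B.M ({a, b, c, d} : Finset (Fin r)) = S.Wb d a b c := by
    rw [hWM d a b c h']; congr 1; ext x; simp; tauto
  have hrk : finrank k (S.Wb d a b c) = 3 := by
    rw [← eM, hex (by rw [card_four h]) (by rw [card_four h]; omega), card_four h]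
  obtain ⟨e1, -, -⟩ := S.finrank_split h3 hκ h'
  have h1U := S.Ub_ne_bot h3 hκ (by omega) hS h'
  let φ := (S.L a b c - 1).domRestrict (S.Wb d a b c)
  have hran : finrank k (LinearMap.range φ) = finrank k (S.img B a b c d) := by
    rw [LinearMap.range_domRestrict, img, eM]
  let ψ : LinearMap.ker φ →ₗ[k] S.Ub d a b c :=
    { toFun := fun v => ⟨(v : S.Wb d a b c).1 + S.Tq d a b c (v : S.Wb d a b c).1,
        (S.Wb_split h3 hκ h' (v : S.Wb d a b c).2).1⟩
      map_add' := fun x y => by ext; simp; abel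
      map_smul' := fun c x => by ext; simp [smul_add] }
  have hψ : Function.Injective ψ := by
    rw [injective_iff_map_eq_zero]
    intro v hv
    have hker : φ (v : S.Wb d a b c) = 0 := v.2
    set w := (v : S.Wb d a b c).1 with hw
    have hxw : S.L a b c w = w := sub_eq_zero.1 hker
    have hwW : w ∈ S.Wb d a b c := (v : S.Wb d a b c).2
    have hv1 : w + S.Tq d a b c w = 0 := congr_arg Subtype.val hv
    obtain ⟨-, -, h4, -⟩ := D3_of_nodup h'
    have k1 := LinearMap.congr_fun (S.conj_Tq h') w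
    simp only [Module.End.mul_apply] at k1
    rw [hxw, eq_neg_of_add_eq_zero_right hv1, map_neg, hxw] at k1
    have k2 := LinearMap.congr_fun (S.conj_Tq h4) w
    simp only [Module.End.mul_apply] at k2
    rw [← S.rot a b c h1, hxw, ← k1, map_neg, hxw] at k2
    have hs := (S.Wb_spec h3 hκ h').1 hwW
    simp only [sm, LinearMap.add_apply, eq_neg_of_add_eq_zero_right hv1, ← k1, ← k2] at hs
    have h0 : (3 : k) • w = 0 := by rw [h3, zero_smul]
    have hw0 : w = 0 := by linear_combination (norm := module) hs + h0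
    exact Subtype.ext (Subtype.ext hw0)
  have := LinearMap.finrank_le_finrank_of_injective hψ
  have := LinearMap.finrank_range_add_finrank_ker φ
  omega

theorem M_ne {a b c d e : Fin r} (h : [a, b, c, d, e].Nodup) :
    B.M ({a, b, c, d} : Finset (Fin r)) ≠ B.M ({a, b, c, e} : Finset (Fin r)) := by
  intro heq
  have adj : ∀ p q s t u : Fin r, [p, q, s, t, u].Nodup →
      B.M ({p, q, s, t} : Finset (Fin r)) = B.M ({p, q, s, u} : Finset (Fin r)) := by
    intro p q s t u hn
    obtain ⟨σ, T, hσ, hT⟩ := S.exists_move [a, b, c, d, e] [p, q, s, t, u] h hn rfl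
      (by simp; omega)
    simp only [List.map_cons, List.map_nil, List.cons.injEq, and_true] at hσ
    have e1 := B.map_M hT ({a, b, c, d} : Finset (Fin r))
    have e2 := B.map_M hT ({a, b, c, e} : Finset (Fin r))
    simp only [Finset.image_insert, Finset.image_singleton, hσ.1, hσ.2.1, hσ.2.2.1,
      hσ.2.2.2.1, hσ.2.2.2.2] at e1 e2
    rw [← e1, heq, e2]
  simp only [List.nodup_cons, List.mem_cons, List.not_mem_nil, or_false, not_or] at h
  obtain ⟨⟨hab, hac, had, hae⟩, ⟨hbc, hbd, hbe⟩, ⟨hcd, hce⟩, hde, -⟩ := h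
  set s5 : Finset (Fin r) := {a, b, c, d, e} with hs5
  have c5 : s5.card = 5 := by simp [hs5, hab, hac, had, hae, hbc, hbd, hbe, hcd, hce, hde]
  have heras : ∀ w ∈ s5, B.M (s5.erase w) ≤ B.M ({a, b, c, d} : Finset (Fin r)) := by
    have sub : ∀ {t t' : Finset (Fin r)}, t ⊆ t' → B.M t' ≤ B.M ({a, b, c, d} : Finset (Fin r)) →
        B.M t ≤ B.M ({a, b, c, d} : Finset (Fin r)) := fun h1 h2 => (B.M_mono h1).trans h2
    intro w hw
    simp only [hs5, Finset.mem_insert, Finset.mem_singleton] at hw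
    rcases hw with rfl | rfl | rfl | rfl | rfl
    · refine sub (t' := {b, c, d, e}) (by
        intro x hx
        simp only [hs5, Finset.mem_erase, Finset.mem_insert, Finset.mem_singleton] at hx ⊢
        rcases hx with ⟨hne', h | h | h | h | h⟩ <;>
          first | exact absurd h hne' | simp [h]) ?_
      rw [adj b c d e w (by simp [hbc, hbd, hbe, hcd, hce, hde, Ne.symm hab, Ne.symm hac,
        Ne.symm had, Ne.symm hae])]
      exact B.M_mono (by intro x hx; simp at hx ⊢; tauto)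
    · refine sub (t' := {a, c, d, e}) (by
        intro x hx
        simp only [hs5, Finset.mem_erase, Finset.mem_insert, Finset.mem_singleton] at hx ⊢
        rcases hx with ⟨hne', h | h | h | h | h⟩ <;>
          first | exact absurd h hne' | simp [h]) ?_
      rw [adj a c d e w (by simp [hac, had, hae, hab, hcd, hce, hde, Ne.symm hbc, Ne.symm hbd,
        Ne.symm hbe])]
      exact B.M_mono (by intro x hx; simp at hx ⊢; tauto)
    · refine sub (t' := {a, b, d, e}) (by
        intro x hx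
        simp only [hs5, Finset.mem_erase, Finset.mem_insert, Finset.mem_singleton] at hx ⊢
        rcases hx with ⟨hne', h | h | h | h | h⟩ <;>
          first | exact absurd h hne' | simp [h]) ?_
      rw [adj a b d e w (by simp [hab, had, hae, hac, hbd, hbe, hbc, hde, Ne.symm hcd, Ne.symm hce])]
      exact B.M_mono (by intro x hx; simp at hx ⊢; tauto)
    · refine sub (t' := {a, b, c, e}) (by
        intro x hx
        simp only [hs5, Finset.mem_erase, Finset.mem_insert, Finset.mem_singleton] at hx ⊢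
        rcases hx with ⟨hne', h | h | h | h | h⟩ <;>
          first | exact absurd h hne' | simp [h]) ?_
      rw [heq]
    · exact B.M_mono (by
        intro x hx
        simp only [hs5, Finset.mem_erase, Finset.mem_insert, Finset.mem_singleton] at hx ⊢
        rcases hx with ⟨hne', h | h | h | h | h⟩ <;>
          first | exact absurd h hne' | simp [h])
  have : B.M s5 ≤ B.M ({a, b, c, d} : Finset (Fin r)) := by
    refine iSup_le fun l => ?_
    obtain ⟨w, hw, hw'⟩ : ∃ w ∈ s5, w ∉ l.1.toFinset := by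
      have hc : l.1.toFinset.card = 4 := by rw [List.toFinset_card_of_nodup l.2.1, l.2.2.1]
      exact Finset.exists_mem_notMem_of_card_lt_card (by omega)
    exact le_trans (B.W_le_M l.2.1 l.2.2.1 fun x hx =>
      Finset.mem_erase.2 ⟨fun h => by subst h; exact hw' hx, l.2.2.2 hx⟩) (heras w hw)
  have := Submodule.finrank_mono this
  have n1 : [a, b, c, d].Nodup := by simp [hab, hac, had, hbc, hbd, hcd]
  rw [hex (s := s5) (by omega) (by omega), c5, hex (by rw [card_four n1]) (by rw [card_four n1]; omega),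
    card_four n1] at this
  omega

theorem sub_one_mem {a b c d e : Fin r} (h : [a, b, c, d, e].Nodup) {v : V}
    (hv : v ∈ B.M ({a, b, c, d, e} : Finset (Fin r))) :
    S.L a b c v - v ∈ B.M ({a, b, c, d} : Finset (Fin r)) := by
  simp only [List.nodup_cons, List.mem_cons, List.not_mem_nil, or_false, not_or] at h
  obtain ⟨⟨hab, hac, had, hae⟩, ⟨hbc, hbd, hbe⟩, ⟨hcd, hce⟩, hde, -⟩ := h
  have h1 : D3 a b c := ⟨hab, hbc, Ne.symm hac⟩
  have n1 : [a, b, c, d].Nodup := by simp [hab, hac, had, hbc, hbd, hcd]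
  set N := B.M ({a, b, c, d} : Finset (Fin r)) with hN'
  set Ms := B.M ({a, b, c, d, e} : Finset (Fin r)) with hMs
  have invN : ∀ {x : V}, x ∈ N → S.L a b c x ∈ N := fun hx =>
    S.L_mem_M B h1 (by simp) (by simp) (by simp) hx
  by_cases hvN : v ∈ N
  · exact sub_mem (invN hvN) hvN
  have hN : N ≤ Ms := B.M_mono (by intro x hx; simp at hx ⊢; tauto)
  have hsup : N ⊔ Submodule.span k {v} = Ms := by
    refine Submodule.eq_of_le_of_finrank_le
      (sup_le hN ((Submodule.span_singleton_le_iff_mem _ _).2 hv)) ?_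
    have hlt : N < N ⊔ Submodule.span k {v} := lt_of_le_of_ne le_sup_left fun e => hvN
      (e ▸ Submodule.mem_sup_right (Submodule.mem_span_singleton_self v))
    have := Submodule.finrank_lt_finrank_of_lt hlt
    have c5 : ({a, b, c, d, e} : Finset (Fin r)).card = 5 := by
      simp [hab, hac, had, hae, hbc, hbd, hbe, hcd, hce, hde]
    have e3 : finrank k N = 3 := by
      rw [hN', hex (by rw [card_four n1]) (by rw [card_four n1]; omega), card_four n1]
    rw [hMs, hex (s := {a, b, c, d, e}) (by omega) (by omega), c5]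
    omega
  have hm' : S.L a b c v ∈ N ⊔ Submodule.span k {v} :=
    hsup ▸ S.L_mem_M B h1 (by simp) (by simp) (by simp) hv
  obtain ⟨m, hm, z, hz, hmz⟩ := Submodule.mem_sup.1 hm'
  obtain ⟨μ, rfl⟩ := Submodule.mem_span_singleton.1 hz
  have hc := LinearMap.congr_fun (S.cube a b c h1) v
  simp only [Module.End.mul_apply, Module.End.one_apply, ← hmz, map_add, map_smul, smul_add,
    smul_smul] at hc
  have hmem : (μ * μ * μ - 1) • v ∈ N := by
    have e' : (μ * μ * μ - 1) • v
        = -(S.L a b c (S.L a b c m) + μ • S.L a b c m + (μ * μ) • m) := by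
      linear_combination (norm := module) hc
    rw [e']
    exact neg_mem (add_mem (add_mem (invN (invN hm)) (Submodule.smul_mem _ _ (invN hm)))
      (Submodule.smul_mem _ _ hm))
  have hμ : μ * μ * μ = 1 := by
    by_contra hne'
    exact hvN ((Submodule.smul_mem_iff _ (sub_ne_zero.2 hne')).1 hmem)
  rw [← hmz, scalar_eq_one h3 hμ, one_smul, add_sub_cancel_right]
  exact hm

theorem img_indep {a b c d e : Fin r} (h : [a, b, c, d, e].Nodup) :
    S.img B a b c d = S.img B a b c e ∧ finrank k (S.img B a b c d) = 2 := by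
  have hne := S.M_ne B h3 hκ hr hS hex hWM h
  have h' := h
  simp only [List.nodup_cons, List.mem_cons, List.not_mem_nil, or_false, not_or] at h'
  obtain ⟨⟨hab, hac, had, hae⟩, ⟨hbc, hbd, hbe⟩, ⟨hcd, hce⟩, hde, -⟩ := h'
  have n1 : [a, b, c, d].Nodup := by simp [hab, hac, had, hbc, hbd, hcd]
  have n2 : [a, b, c, e].Nodup := by simp [hab, hac, hae, hbc, hbe, hce]
  have h' : [a, b, c, e, d].Nodup := by
    simp [hab, hac, hae, had, hbc, hbe, hbd, hce, hcd, Ne.symm hde]
  have eset : ({a, b, c, e, d} : Finset (Fin r)) = {a, b, c, d, e} := by ext x; simp; tauto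
  set M1 := B.M ({a, b, c, d} : Finset (Fin r)) with hM1
  set M2 := B.M ({a, b, c, e} : Finset (Fin r)) with hM2
  have r1 : finrank k M1 = 3 := by
    rw [hM1, hex (by rw [card_four n1]) (by rw [card_four n1]; omega), card_four n1]
  have r2 : finrank k M2 = 3 := by
    rw [hM2, hex (by rw [card_four n2]) (by rw [card_four n2]; omega), card_four n2]
  have key : ∀ v ∈ B.M ({a, b, c, d, e} : Finset (Fin r)),
      (S.L a b c - 1 : V →ₗ[k] V) v ∈ M1 ⊓ M2 := by
    intro v hv
    refine ⟨S.sub_one_mem B h3 hκ hr hS hex hWM h hv, S.sub_one_mem B h3 hκ hr hS hex hWM h' ?_⟩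
    rw [eset]; exact hv
  have l1 : S.img B a b c d ≤ M1 ⊓ M2 := by
    rintro _ ⟨v, hv, rfl⟩; exact key v (B.M_mono (by intro x hx; simp at hx ⊢; tauto) hv)
  have l2 : S.img B a b c e ≤ M1 ⊓ M2 := by
    rintro _ ⟨v, hv, rfl⟩; exact key v (B.M_mono (by intro x hx; simp at hx ⊢; tauto) hv)
  have hlt : M1 ⊓ M2 < M1 := lt_of_le_of_ne inf_le_left fun he =>
    hne (Submodule.eq_of_le_of_finrank_le (inf_eq_left.1 he) (by omega))
  have := Submodule.finrank_lt_finrank_of_lt hlt
  have := S.two_le_img B h3 hκ hr hS hex hWM n1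
  have := S.two_le_img B h3 hκ hr hS hex hWM n2
  have := Submodule.finrank_mono l1
  exact ⟨(Submodule.eq_of_le_of_finrank_le l1 (by omega)).trans
    (Submodule.eq_of_le_of_finrank_le l2 (by omega)).symm, by omega⟩

theorem img_eq {a b c d d' : Fin r} (h : [a, b, c, d].Nodup) (h' : [a, b, c, d'].Nodup) :
    S.img B a b c d = S.img B a b c d' := by
  by_cases hd : d = d'
  · rw [hd]
  simp only [List.nodup_cons, List.mem_cons, List.not_mem_nil, or_false, not_or] at h h'
  exact (S.img_indep B h3 hκ hr hS hex hWM (by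
    simp [h.1.1, h.1.2.1, h.1.2.2, h.2.1.1, h.2.1.2, h.2.2.1, h'.1.2.2, h'.2.1.2, h'.2.2.1, hd])).1

theorem exists_planes : Nonempty S.Planes := by
  classical
  let P : Fin r → Fin r → Fin r → Submodule k V := fun a b c =>
    ⨅ d : {d : Fin r // [a, b, c, d].Nodup}, S.img B a b c d.1
  have hP : ∀ {a b c d : Fin r}, [a, b, c, d].Nodup → P a b c = S.img B a b c d := fun {a b c d} h =>
    le_antisymm (iInf_le_of_le ⟨d, h⟩ le_rfl)
      (le_iInf fun e => (S.img_eq B h3 hκ hr hS hex hWM h e.2).le)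
  have fresh : ∀ {a b c : Fin r}, D3 a b c → ∃ d e, [a, b, c, d, e].Nodup ∧ [a, b, c, d].Nodup := by
    intro a b c h
    obtain ⟨g, hg, hg'⟩ := exists_fresh (r := r) (m := 2) [a, b, c] (by simp; omega)
    have g0 := hg' 0; have g1 := hg' 1
    simp only [List.mem_cons, List.not_mem_nil, or_false, not_or] at g0 g1
    exact ⟨g 0, g 1, by
      simp [h.1, h.2.1, h.2.2.symm, hg.eq_iff, Ne.symm g0.1, Ne.symm g0.2.1, Ne.symm g0.2.2,
        Ne.symm g1.1, Ne.symm g1.2.1, Ne.symm g1.2.2],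
      by simp [h.1, h.2.1, h.2.2.symm, Ne.symm g0.1, Ne.symm g0.2.1, Ne.symm g0.2.2]⟩
  refine ⟨{ P := P, rank := ?_, move := ?_, rot := ?_, swap := ?_, ann := ?_, fix := ?_,
            nofix := ?_, small := ?_ }⟩
  · intro a b c h
    obtain ⟨d, e, h5, h4⟩ := fresh h
    rw [hP h4]
    exact (S.img_indep B h3 hκ hr hS hex hWM h5).2
  · intro σ T hT a b c h v hv
    obtain ⟨d, -, -, hn4⟩ := fresh h
    rw [hP hn4] at hv
    rw [hP (d := σ d) (by simpa using hn4.map σ.injective)]
    obtain ⟨u, hu, rfl⟩ := hv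
    refine ⟨(T : Module.End k V) u, ?_, by simp [S.map_inv_of_moves hT h]⟩
    simpa using B.map_M_le hT _ ⟨u, hu, rfl⟩
  · intro a b c h
    obtain ⟨d, -, -, hn4⟩ := fresh h
    have hn4' : [b, c, a, d].Nodup := (List.Perm.nodup_iff
      (List.Perm.append_right [d] (List.perm_append_comm (l₁ := [a]) (l₂ := [b, c])))).1 hn4
    rw [hP hn4, hP hn4', img, img, S.rot a b c h]
    congr 2; ext x; simp; tauto
  · intro a b c h
    obtain ⟨d, -, -, hn4⟩ := fresh h
    have hn4' : [a, c, b, d].Nodup :=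
      (List.Perm.nodup_iff (List.Perm.cons a (List.Perm.swap c b [d]))).1 hn4
    rw [hP hn4, hP hn4']
    have eset : ({a, c, b, d} : Finset (Fin r)) = {a, b, c, d} := by ext x; simp; tauto
    apply le_antisymm
    · rintro _ ⟨u, hu, rfl⟩
      refine ⟨-(S.L a b c u), ?_, ?_⟩
      · rw [eset]; exact neg_mem (S.L_mem_M B h (by simp) (by simp) (by simp) hu)
      · have := LinearMap.congr_fun (S.inv_mul h) u
        simp only [Module.End.mul_apply, Module.End.one_apply] at this
        simp [this]; abel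
    · rintro _ ⟨u, hu, rfl⟩
      refine ⟨-(S.L a c b u), ?_, ?_⟩
      · rw [← eset]; exact neg_mem (S.L_mem_M B h.swap (by simp) (by simp) (by simp) hu)
      · simp [S.L_inv_apply h]; abel
  · intro a b c h v hv
    obtain ⟨d, -, -, hn4⟩ := fresh h
    rw [hP hn4] at hv
    obtain ⟨u, -, rfl⟩ := hv
    have := LinearMap.congr_fun (S.cube a b c h) u
    simp only [Module.End.mul_apply, Module.End.one_apply] at this
    simp [this]
  · intro a b c x y z hnd v hv
    obtain ⟨g, -, hg'⟩ := exists_fresh (r := r) (m := 1) [a, b, c, x, y, z] (by simp; omega)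
    have g0 := hg' 0
    simp only [List.mem_cons, List.not_mem_nil, or_false, not_or] at g0
    simp only [List.nodup_cons, List.mem_cons, List.not_mem_nil, or_false, not_or] at hnd
    obtain ⟨⟨hab, hac, hax, hay, haz⟩, ⟨hbc, hbx, hby, hbz⟩, ⟨hcx, hcy, hcz⟩, ⟨hxy, hxz⟩, hyz, -⟩ := hnd
    have hn4 : [a, b, c, g 0].Nodup := by
      simp [hab, hac, hbc, Ne.symm g0.1, Ne.symm g0.2.1, Ne.symm g0.2.2.1]
    rw [hP hn4] at hv
    refine B.fix_M ⟨hxy, hyz, Ne.symm hxz⟩ ?_ ?_ ?_ (S.img_le B hn4 hv)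
    · simp [Ne.symm hax, Ne.symm hbx, Ne.symm hcx, Ne.symm g0.2.2.2.1]
    · simp [Ne.symm hay, Ne.symm hby, Ne.symm hcy, Ne.symm g0.2.2.2.2.1]
    · simp [Ne.symm haz, Ne.symm hbz, Ne.symm hcz, Ne.symm g0.2.2.2.2.2]
  · intro a b c h v hv hfix
    obtain ⟨d, -, -, hn4⟩ := fresh h
    rw [hP hn4] at hv
    have := S.img_le B hn4 hv
    rw [← hWM a b c d hn4] at this
    exact S.fixed_of_four h3 hκ hn4 this fun x y z hd _ _ _ => hfix x y z hd
  · intro a b c d h
    have h2 : [a, b, d, c].Nodup :=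
      (List.Perm.nodup_iff (List.Perm.cons a (List.Perm.cons b (List.Perm.swap d c [])))).1 h
    rw [hP h, hP h2]
    refine le_trans (Submodule.finrank_mono (sup_le (S.img_le B h) (le_trans (S.img_le B h2)
      (B.M_mono (by intro x hx; simp at hx ⊢; tauto))))) ?_
    rw [hex (by rw [card_four h]) (by rw [card_four h]; omega), card_four h]

end Planes

theorem permutation_type_three (h3 : (3 : k) = 0) (hκ : S.Kap 1) (hr : 9 ≤ r) (hS : ¬ S.Triv)
    (hperm : ∀ a b c d x y z, [a, b, c, d].Nodup → D3 x y z → x ∉ [a, b, c, d] →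
      y ∉ [a, b, c, d] → z ∉ [a, b, c, d] → ∀ v ∈ S.Wb a b c d, S.L x y z v = v) :
    Bound k r (finrank k V) := by
  let Wl : List (Fin r) → Submodule k V := fun l =>
    match l with
    | [a, b, c, d] => S.Wb a b c d
    | _ => ⊥
  have four : ∀ {l : List (Fin r)}, l.length = 4 → ∃ a b c d, l = [a, b, c, d] := by
    intro l h
    match l, h with
    | [a, b, c, d], _ => exact ⟨a, b, c, d, rfl⟩
  let B : S.Blocks 4 :=
    { W := Wl
      move := fun σ T hT l hl h v hv => by
        obtain ⟨a, b, c, d, rfl⟩ := four h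
        exact S.Wb_map hT hl hv
      rank := fun l hl h => by
        obtain ⟨a, b, c, d, rfl⟩ := four h
        have := (S.finrank_split h3 hκ hl).1
        have := S.Ub_ne_bot h3 hκ (by omega) hS hl
        show 4 - 1 ≤ finrank k (S.Wb a b c d)
        omega
      fix := fun l hl h x y z hd hx hy hz v hv => by
        obtain ⟨a, b, c, d, rfl⟩ := four h
        exact hperm a b c d x y z hl hd hx hy hz v hv
      nofix := fun l hl h v hv hfix => by
        obtain ⟨a, b, c, d, rfl⟩ := four h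
        exact S.fixed_of_four h3 hκ hl hv hfix }
  by_cases hn : finrank k V + 2 ≤ r
  · refine Or.inr ⟨?_, B.finrank_ge (by omega) (by omega)⟩
    have hWM : ∀ a b c d : Fin r, [a, b, c, d].Nodup → S.Wb a b c d = B.M {a, b, c, d} := by
      intro a b c d h
      have := B.W_eq_M (by omega) (by omega) hn (l := [a, b, c, d]) h rfl
      simpa [B, Wl] using this
    obtain ⟨Q⟩ := S.exists_planes B h3 hκ hr hS
      (fun hs hs' => B.finrank_M_exact (by omega) hn hs hs') hWM
    exact Q.cast_eq_zero hr hn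
  · exact Or.inl (by omega)

theorem bound_three_linear {r : ℕ} (h3 : (3 : k) = 0) :
    ∀ {V : Type v} [AddCommGroup V] [Module k V] [FiniteDimensional k V] (S : TriSys k V r),
      S.Kap 1 → 9 ≤ r → ¬ S.Triv → Bound k r (finrank k V) := by
  induction r using Nat.strong_induction_on with
  | _ r ih =>
    intro V _ _ _ S hκ hr hS
    by_cases hperm : ∀ a b c d x y z, [a, b, c, d].Nodup → D3 x y z → x ∉ [a, b, c, d] →
        y ∉ [a, b, c, d] → z ∉ [a, b, c, d] → ∀ v ∈ S.Wb a b c d, S.L x y z v = v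
    · exact S.permutation_type_three h3 hκ hr hS hperm
    push Not at hperm
    obtain ⟨a, b, c, d, x, y, z, h, hd, hx, hy, hz, v, hv, hv'⟩ := hperm
    obtain ⟨h1, h2, h4, h5⟩ := D3_of_nodup h
    obtain ⟨es, e4, e5⟩ := S.finrank_split h3 hκ h
    simp only [List.mem_cons, List.not_mem_nil, or_false, not_or] at hx hy hz
    have hmove : ∃ u ∈ S.Ub a b c d, S.L x y z u ≠ u := by
      by_contra! hall
      apply hv'
      have hy1 : D3 b c d := h2
      have hn6 : [b, c, d, x, y, z].Nodup := by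
        simp [h2.1, h2.2.1, h2.2.2.symm, hd.1, hd.2.1, hd.2.2.symm, Ne.symm hx.2.1,
          Ne.symm hx.2.2.1, Ne.symm hx.2.2.2, Ne.symm hy.2.1, Ne.symm hy.2.2.1, Ne.symm hy.2.2.2,
          Ne.symm hz.2.1, Ne.symm hz.2.2.1, Ne.symm hz.2.2.2]
      have hc := fun w => LinearMap.congr_fun (S.commute_of_disjoint hn6) w
      simp only [Module.End.mul_apply] at hc
      have f2 : ∀ u ∈ S.Ub a c d b, S.L x y z u = u := by
        intro u hu
        have hu' : S.L b c d (S.L b c d u) ∈ S.Ub a b c d := by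
          have := S.Ub_map h3 hκ h5 (S.Ub_map h3 hκ h4 hu)
          rwa [← S.rot b c d h2, ← S.rot' h2] at this
        have := hall _ hu'
        rw [← hc, ← hc] at this
        exact ((Module.End.isUnit_iff _).1 (S.unit h2).isUnit).injective
          (((Module.End.isUnit_iff _).1 (S.unit h2).isUnit).injective this)
      have f3 : ∀ u ∈ S.Ub a d b c, S.L x y z u = u := by
        intro u hu
        have hu' : S.L b c d u ∈ S.Ub a b c d := by
          have := S.Ub_map h3 hκ h5 hu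
          rwa [← S.rot' h2] at this
        have := hall _ hu'
        rw [← hc] at this
        exact ((Module.End.isUnit_iff _).1 (S.unit h2).isUnit).injective this
      obtain ⟨m1, m2, m3, hsum⟩ := S.Wb_split h3 hκ h hv
      rw [hsum, map_neg, map_add, map_add, hall _ m1, f2 _ m2, f3 _ m3]
    obtain ⟨g, hg, hg'⟩ := exists_fresh (r := r) (m := r - 4) [a, b, c, d] (by simp; omega)
    have hgn : ∀ i, g i ≠ a ∧ g i ≠ b ∧ g i ≠ c ∧ g i ≠ d := fun i => by simpa using hg' i
    have hrange : ∀ t, t ≠ a → t ≠ b → t ≠ c → t ≠ d → ∃ i, g i = t := by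
      intro t t1 t2 t3 t4
      by_contra! hcon
      have hc : (Finset.univ.image g ∪ {a, b, c, d, t}).card ≤ r := by
        simpa using Finset.card_le_univ (Finset.univ.image g ∪ {a, b, c, d, t})
      have h5' : ({a, b, c, d, t} : Finset (Fin r)).card = 5 := by
        simp only [List.nodup_cons, List.mem_cons, List.not_mem_nil, or_false, not_or] at h
        simp [h.1.1, h.1.2.1, h.1.2.2, h.2.1.1, h.2.1.2, h.2.2.1, Ne.symm t1, Ne.symm t2, Ne.symm t3,
          Ne.symm t4]
      rw [Finset.card_union_of_disjoint, Finset.card_image_of_injective _ hg, Finset.card_univ,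
        Fintype.card_fin, h5'] at hc
      · omega
      · simp only [Finset.disjoint_left, Finset.mem_image, Finset.mem_univ, true_and,
          Finset.mem_insert, Finset.mem_singleton]
        rintro _ ⟨i, rfl⟩ (q | q | q | q | q)
        · exact (hgn i).1 q
        · exact (hgn i).2.1 q
        · exact (hgn i).2.2.1 q
        · exact (hgn i).2.2.2 q
        · exact hcon i q
    have hinv : (S.comap g hg).Inv (S.Ub a b c d) := by
      intro p q s hpqs u hu
      have comm : ∀ {i j l : Fin r}, D3 i j l → (∀ t, (t = i ∨ t = j ∨ t = l) → t = a ∨ t = b ∨ t = c ∨ t = d) →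
          ∀ w, S.L i j l (S.L (g p) (g q) (g s) w) = S.L (g p) (g q) (g s) (S.L i j l w) := by
        intro i j l hijl hin w
        refine LinearMap.congr_fun (S.commute_of_disjoint ?_) w
        have ne : ∀ t, (t = i ∨ t = j ∨ t = l) → ∀ n, t ≠ g n := by
          intro t ht n e
          rcases hin t ht with q | q | q | q
          · exact (hgn n).1 (e.symm.trans q)
          · exact (hgn n).2.1 (e.symm.trans q)
          · exact (hgn n).2.2.1 (e.symm.trans q)
          · exact (hgn n).2.2.2 (e.symm.trans q)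
        simp [hijl.1, hijl.2.1, hijl.2.2.symm, hg.eq_iff, hpqs.1, hpqs.2.1, hpqs.2.2.symm,
          ne i (Or.inl rfl), ne j (Or.inr (Or.inl rfl)), ne l (Or.inr (Or.inr rfl))]
      have ct : ∀ {i j l m : Fin r}, [i, j, l, m].Nodup → (∀ t, t ∈ [i, j, l, m] → t = a ∨ t = b ∨ t = c ∨ t = d) →
          ∀ w, S.Tq i j l m (S.L (g p) (g q) (g s) w) = S.L (g p) (g q) (g s) (S.Tq i j l m w) := by
        intro i j l m hn hin w
        obtain ⟨d1, d2, -, -⟩ := D3_of_nodup hn
        simp only [Tq, Module.End.mul_apply]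
        rw [comm d2 (fun t ht => hin t (by simp; tauto)), comm d1 (fun t ht => hin t (by simp; tauto))]
      obtain ⟨s1, s2, s3⟩ := (S.Ub_spec h3 hκ h).1 hu
      show S.L (g p) (g q) (g s) u ∈ _
      rw [S.Ub_spec h3 hκ h, ct h (by simp), ct h4 (by simp), ct h5 (by simp), s1, s2, s3]
      simp
    let S' := (S.comap g hg).sub _ hinv
    have hS' : ¬ S'.Triv := by
      intro ht
      obtain ⟨u, hu, hu'⟩ := hmove
      obtain ⟨p, rfl⟩ := hrange x hx.1 hx.2.1 hx.2.2.1 hx.2.2.2
      obtain ⟨q, rfl⟩ := hrange y hy.1 hy.2.1 hy.2.2.1 hy.2.2.2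
      obtain ⟨s, rfl⟩ := hrange z hz.1 hz.2.1 hz.2.2.1 hz.2.2.2
      have hpqs : D3 p q s := ⟨fun e => hd.1 (congr_arg g e), fun e => hd.2.1 (congr_arg g e),
        fun e => hd.2.2 (congr_arg g e)⟩
      have := congr_arg Subtype.val (LinearMap.congr_fun (ht p q s hpqs) ⟨u, hu⟩)
      rw [TriSys.sub_apply _ _ _ hpqs] at this
      exact hu' this
    have hκ' : S'.Kap 1 := TriSys.Kap.sub _ (TriSys.Kap.comap S hκ g hg) _ _
    have := (S.Wb a b c d).finrank_le
    by_cases h13 : 13 ≤ r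
    · have := (ih (r - 4) (by omega) S' hκ' (by omega) hS').le
      exact Or.inl (by omega)
    by_cases h11 : 11 ≤ r
    · have := S'.four_le_three h3 hκ' (by omega) hS'
      exact Or.inl (by omega)
    have := S'.three_le h3 hκ' (by omega) hS'
    exact Or.inl (by omega)

end TriSys

end Cfsg.Agent.AltSection
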