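import Cfsg.Agent.Lib.AltSection.Four
import Cfsg.Agent.Lib.AltSection.CharNotThree
import Mathlib.LinearAlgebra.Eigenspace.Triangularizable
import Mathlib.RingTheory.RootsOfUnity.PrimitiveRoots

/-!
Characteristic three, the lifts of the double transpositions squaring to minus one.
-/

set_option autoImplicit false
set_option linter.unusedSimpArgs false
set_option linter.unusedSectionVars false
set_option linter.unusedVariables false

namespace Cfsg.Agent.AltSection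

open Module Equiv

universe u v

namespace TriSys

variable {k : Type u} [Field k] {V : Type v} [AddCommGroup V] [Module k V] {r : ℕ}
  (S : TriSys k V r)

/-- The lift of a five-cycle, normalised by `ε`. -/
def Gq (ε : k) (a b c d e : Fin r) : Module.End k V := ε • (S.L a b c * S.L c d e)

/-- All five-cycles are normalised by the same sign. -/
def Eps (ε : k) : Prop := ∀ a b c d e, [a, b, c, d, e].Nodup →
  (S.L a b c * S.L c d e) ^ 5 = ε • 1 ∧
    S.L a c e * S.L e b d = ε • ((S.L a b c * S.L c d e) * (S.L a b c * S.L c d e))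

theorem Eps.comap {ε : k} (h : S.Eps ε) {m : ℕ} (f : Fin m → Fin r) (hf : Function.Injective f) :
    (S.comap f hf).Eps ε := fun a b c d e hn =>
  h (f a) (f b) (f c) (f d) (f e) (by simpa using hn.map hf)

theorem Eps.sub {ε : k} (h : S.Eps ε) (U : Submodule k V) (hU : S.Inv U) :
    (S.sub U hU).Eps ε := by
  intro a b c d e hn
  obtain ⟨h1, h2⟩ := h a b c d e hn
  simp only [List.nodup_cons, List.mem_cons, List.not_mem_nil, or_false, not_or] at hn
  obtain ⟨⟨hab, hac, had, hae⟩, ⟨hbc, hbd, hbe⟩, ⟨hcd, hce⟩, hde, -⟩ := hn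
  have e1 := S.sub_apply U hU (show D3 a b c from ⟨hab, hbc, Ne.symm hac⟩)
  have e2 := S.sub_apply U hU (show D3 c d e from ⟨hcd, hde, Ne.symm hce⟩)
  have e3 := S.sub_apply U hU (show D3 a c e from ⟨hac, hce, Ne.symm hae⟩)
  have e4 := S.sub_apply U hU (show D3 e b d from ⟨Ne.symm hbe, hbd, hde⟩)
  constructor <;> apply LinearMap.ext <;> intro v <;> apply Subtype.ext
  · simpa [pow_succ, e1, e2] using LinearMap.congr_fun h1 (v : V)
  · simpa [e1, e2, e3, e4] using LinearMap.congr_fun h2 (v : V)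

theorem cyc5 {a b c d e : Fin r} (h : [a, b, c, d, e].Nodup) :
    D3 a b c ∧ D3 c d e ∧
      (cyc a b c * cyc c d e) a = b ∧ (cyc a b c * cyc c d e) b = c ∧
      (cyc a b c * cyc c d e) c = d ∧ (cyc a b c * cyc c d e) d = e ∧
      (cyc a b c * cyc c d e) e = a := by
  simp only [List.nodup_cons, List.mem_cons, List.not_mem_nil, or_false, not_or] at h
  obtain ⟨⟨hab, hac, had, hae⟩, ⟨hbc, hbd, hbe⟩, ⟨hcd, hce⟩, hde, -⟩ := h
  have d1 : D3 a b c := ⟨hab, hbc, Ne.symm hac⟩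
  have d2 : D3 c d e := ⟨hcd, hde, Ne.symm hce⟩
  refine ⟨d1, d2, ?_, ?_, ?_, ?_, ?_⟩ <;> rw [Perm.mul_apply]
  · rw [cyc_apply_of_ne hac had hae, cyc_apply_fst d1]
  · rw [cyc_apply_of_ne hbc hbd hbe, cyc_apply_snd d1]
  · rw [cyc_apply_fst d2, cyc_apply_of_ne (Ne.symm had) (Ne.symm hbd) (Ne.symm hcd)]
  · rw [cyc_apply_snd d2, cyc_apply_of_ne (Ne.symm hae) (Ne.symm hbe) (Ne.symm hce)]
  · rw [cyc_apply_thd d2, cyc_apply_thd d1]

theorem F_map {σ : Perm (Fin r)} {T : (Module.End k V)ˣ} (hT : S.Moves σ T) {a b c d e : Fin r}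
    (h : [a, b, c, d, e].Nodup) :
    (T : Module.End k V) * (S.L a b c * S.L c d e) =
      S.L (σ a) (σ b) (σ c) * S.L (σ c) (σ d) (σ e) * T := by
  obtain ⟨d1, d2, -⟩ := cyc5 h
  rw [← mul_assoc, hT a b c d1, mul_assoc, hT c d e d2, ← mul_assoc]

theorem F_rot {a b c d e : Fin r} (h : [a, b, c, d, e].Nodup) :
    S.L b c d * S.L d e a = S.L a b c * S.L c d e := by
  obtain ⟨d1, d2, q1, q2, q3, q4, q5⟩ := cyc5 h
  have hm := S.F_map (Moves.mul S (S.moves_cyc d1) (S.moves_cyc d2)) h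
  rw [q1, q2, q3, q4, q5, Units.val_mul, coe_unit, coe_unit] at hm
  exact ((S.unit d1 * S.unit d2).mul_left_inj.1 (by simpa using hm)).symm

theorem exists_eps [Nontrivial V] (hr : 7 ≤ r) : ∃ ε : k, ε * ε = 1 ∧ S.Eps ε := by
  obtain ⟨f, hf, -⟩ := exists_fresh (r := r) (m := 5) [] (by simp; omega)
  set a := f 0; set b := f 1; set c := f 2; set d := f 3; set e := f 4
  have h : [a, b, c, d, e].Nodup := by simp [a, b, c, d, e, hf.eq_iff]
  obtain ⟨ε, η, hε, hη⟩ := S.quint a b c d e h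
  have key : ∀ p q s t w, [p, q, s, t, w].Nodup →
      (S.L p q s * S.L s t w) ^ 5 = ε • 1 ∧
        S.L p s w * S.L w q t = η • ((S.L p q s * S.L s t w) * (S.L p q s * S.L s t w)) := by
    intro p q s t w hn
    obtain ⟨σ, T, hσ, hT⟩ := S.exists_move [a, b, c, d, e] [p, q, s, t, w] h hn rfl (by simp; omega)
    simp only [List.map_cons, List.map_nil, List.cons.injEq, and_true] at hσ
    have m := S.F_map hT h
    rw [hσ.1, hσ.2.1, hσ.2.2.1, hσ.2.2.2.1, hσ.2.2.2.2] at m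
    have hsc : SemiconjBy (T : Module.End k V) (S.L a b c * S.L c d e) (S.L p q s * S.L s t w) := m
    constructor
    · have h5 := hsc.pow_right 5
      rw [hε, SemiconjBy, mul_smul_comm, mul_one] at h5
      exact T.mul_left_inj.1 (by rw [← h5, smul_mul_assoc, one_mul])
    · have h' : [a, c, e, b, d].Nodup := by simp [a, b, c, d, e, hf.eq_iff]
      have m' := S.F_map hT h'
      rw [hσ.1, hσ.2.1, hσ.2.2.1, hσ.2.2.2.1, hσ.2.2.2.2, hη, mul_smul_comm,
        (hsc.mul_right hsc : SemiconjBy _ _ _).eq, ← smul_mul_assoc] at m'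
      exact (T.mul_left_inj.1 m').symm
  obtain ⟨d1, d2, -⟩ := cyc5 h
  have hrev : [e, d, c, b, a].Nodup := by simp [a, b, c, d, e, hf.eq_iff]
  have h2 : [a, c, e, b, d].Nodup := by simp [a, b, c, d, e, hf.eq_iff]
  have hne5 : [a, e, d, c, b].Nodup := by simp [a, b, c, d, e, hf.eq_iff]
  have i1 : S.L e d c * S.L c b a * (S.L a b c * S.L c d e) = 1 := by
    rw [S.rot' (a := c) (b := b) (c := a) ⟨d1.2.1.symm, d1.1.symm, d1.2.2.symm⟩, mul_assoc,
      ← mul_assoc (S.L a c b), S.inv_mul d1, one_mul,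
      S.rot' (a := e) (b := d) (c := c) ⟨d2.2.1.symm, d2.1.symm, d2.2.2.symm⟩, S.inv_mul d2]
  obtain ⟨v, hv⟩ := exists_ne (0 : V)
  have inj : ∀ {x y : k}, x • (1 : Module.End k V) = y • 1 → x = y := fun {x y} hxy =>
    smul_left_injective k hv (LinearMap.congr_fun hxy v)
  set F := S.L a b c * S.L c d e with hF
  have hc : Commute (S.L e d c * S.L c b a) F := by
    show _ = _
    rw [i1]
    rw [hF, S.rot' (a := e) (b := d) (c := c) ⟨d2.2.1.symm, d2.1.symm, d2.2.2.symm⟩,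
      S.rot' (a := c) (b := b) (c := a) ⟨d1.2.1.symm, d1.1.symm, d1.2.2.symm⟩, mul_assoc,
      ← mul_assoc (S.L c d e), S.mul_inv c d e d2, one_mul, S.mul_inv a b c d1]
  have h55 := hc.mul_pow 5
  rw [i1, one_pow, (key e d c b a hrev).1, hε, smul_mul_assoc, one_mul, smul_smul] at h55
  have hεε : ε * ε = 1 := inj (h55.symm.trans (one_smul k _).symm)
  have q1 := (key a c e b d h2).2
  rw [hη] at q1
  rw [← S.F_rot hne5] at q1
  have q2 : S.L e d c * S.L c b a = (η * η * η) • F ^ 4 := by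
    rw [q1, smul_mul_smul_comm, smul_smul]
    simp only [pow_succ, pow_zero, one_mul, mul_assoc]
  rw [q2, smul_mul_assoc, ← pow_succ, hε, smul_smul] at i1
  have h3 : η * η * η * ε = 1 := inj (i1.trans (one_smul k _).symm)
  have h5 := (key a c e b d h2).1
  rw [hη, smul_pow, (Commute.refl F).mul_pow, hε, smul_mul_smul_comm, one_mul, smul_smul] at h5
  have h5' : η ^ 5 * (ε * ε) = ε := inj h5
  have : η = ε := by
    have hη5 : η ^ 5 = ε := by rw [hεε, mul_one] at h5'; exact h5'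
    have h2' : η * η = 1 := by
      calc η * η = (η * η) * (η * η * η * ε) := by rw [h3, mul_one]
        _ = η ^ 5 * ε := by ring
        _ = 1 := by rw [hη5, hεε]
    calc η = η * (η * η * η * ε) := by rw [h3, mul_one]
      _ = (η * η) * (η * η) * ε := by ring
      _ = ε := by rw [h2']; ring
  exact ⟨ε, hεε, this ▸ key⟩

theorem Gq_map {σ : Perm (Fin r)} {T : (Module.End k V)ˣ} (hT : S.Moves σ T) (ε : k)
    {a b c d e : Fin r} (h : [a, b, c, d, e].Nodup) :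
    (T : Module.End k V) * S.Gq ε a b c d e = S.Gq ε (σ a) (σ b) (σ c) (σ d) (σ e) * T := by
  rw [Gq, Gq, mul_smul_comm, S.F_map hT h, smul_mul_assoc]

theorem Gq_pow {ε : k} (hε : S.Eps ε) (hεε : ε * ε = 1) {a b c d e : Fin r}
    (h : [a, b, c, d, e].Nodup) : S.Gq ε a b c d e ^ 5 = 1 := by
  rw [Gq, smul_pow, (hε a b c d e h).1, smul_smul,
    show ε ^ 5 * ε = (ε * ε) * (ε * ε) * (ε * ε) by ring, hεε, one_mul, one_mul, one_smul]

theorem Gq_sq {ε : k} (hε : S.Eps ε) (hεε : ε * ε = 1) {a b c d e : Fin r}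
    (h : [a, b, c, d, e].Nodup) :
    S.Gq ε a c e b d = S.Gq ε a b c d e * S.Gq ε a b c d e := by
  rw [Gq, Gq, (hε a b c d e h).2, smul_mul_smul_comm, smul_smul]

theorem Gq_rev {ε : k} (hεε : ε * ε = 1) {a b c d e : Fin r} (h : [a, b, c, d, e].Nodup) :
    S.Gq ε a b c d e * S.Gq ε a e d c b = 1 := by
  obtain ⟨d1, d2, -⟩ := cyc5 h
  have hne5 : [a, e, d, c, b].Nodup := by
    simp only [List.nodup_cons, List.mem_cons, List.not_mem_nil, or_false, not_or] at h ⊢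
    obtain ⟨⟨hab, hac, had, hae⟩, ⟨hbc, hbd, hbe⟩, ⟨hcd, hce⟩, hde, -⟩ := h
    exact ⟨⟨hae, had, hac, hab⟩, ⟨Ne.symm hde, Ne.symm hce, Ne.symm hbe⟩,
      ⟨Ne.symm hcd, Ne.symm hbd⟩, Ne.symm hbc, by simp⟩
  rw [Gq, Gq, smul_mul_smul_comm, hεε, one_smul, ← S.F_rot hne5,
    S.rot' (a := e) (b := d) (c := c) ⟨d2.2.1.symm, d2.1.symm, d2.2.2.symm⟩,
    S.rot' (a := c) (b := b) (c := a) ⟨d1.2.1.symm, d1.1.symm, d1.2.2.symm⟩, mul_assoc,
    ← mul_assoc (S.L c d e), S.mul_inv c d e d2, one_mul, S.mul_inv a b c d1]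

variable [FiniteDimensional k V]

theorem two_le_spin (h3 : (3 : k) = 0) (hκ : S.Kap (-1)) (hr : 4 ≤ r) [Nontrivial V] :
    2 ≤ finrank k V := by
  by_contra hlt
  have h1 : finrank k V = 1 := by
    have : 0 < finrank k V := Module.finrank_pos
    omega
  obtain ⟨f, hf, -⟩ := exists_fresh (r := r) (m := 4) [] (by simp; omega)
  have h : [f 0, f 1, f 2, f 3].Nodup := by simp [hf.eq_iff]
  obtain ⟨-, -, h4, h5⟩ := D3_of_nodup h
  obtain ⟨p, q⟩ := S.four_group hκ (by norm_num) h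
  obtain ⟨v, hv⟩ := exists_ne (0 : V)
  have hs : ∀ A : Module.End k V, ∃ a : k, a • v = A v := fun A =>
    (finrank_eq_one_iff_of_nonzero' v hv).1 h1 (A v)
  obtain ⟨x, hx⟩ := hs (S.Tq (f 0) (f 1) (f 2) (f 3))
  obtain ⟨y, hy⟩ := hs (S.Tq (f 0) (f 2) (f 3) (f 1))
  have e := LinearMap.congr_fun q v
  rw [← p] at e
  simp only [Module.End.mul_apply, LinearMap.smul_apply, ← hx, ← hy, map_smul, smul_smul] at e
  have h0 := sub_eq_zero.2 (smul_left_injective k hv e)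
  have hne : ∀ {g : Fin 4 → Fin r} {a b c d : Fin r} {z : k}, [a, b, c, d].Nodup →
      z • v = S.Tq a b c d v → z ≠ 0 := by
    intro g a b c d z hn hz hz0
    have := LinearMap.congr_fun (hκ a b c d hn) v
    rw [Module.End.mul_apply, ← hz, hz0, zero_smul, map_zero] at this
    simp at this
    exact hv this
  have : (2 : k) * (x * y) = 0 := by linear_combination h0
  rcases mul_eq_zero.1 this with h2 | hxy
  · exact one_ne_zero (α := k) (by linear_combination h3 - h2)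
  · rcases mul_eq_zero.1 hxy with hx0 | hy0
    · exact hne (g := f) h hx hx0
    · exact hne (g := f) h4 hy hy0

theorem Gq_ne_one (h3 : (3 : k) = 0) (hκ : S.Kap (-1)) (hr : 5 ≤ r) [Nontrivial V] {ε : k}
    (hεε : ε * ε = 1) {a b c d e : Fin r}
    (h : [a, b, c, d, e].Nodup) : S.Gq ε a b c d e ≠ 1 := by
  intro hG
  obtain ⟨d1, d2, -⟩ := cyc5 h
  simp only [List.nodup_cons, List.mem_cons, List.not_mem_nil, or_false, not_or] at h
  obtain ⟨⟨hab, hac, had, hae⟩, ⟨hbc, hbd, hbe⟩, ⟨hcd, hce⟩, hde, -⟩ := h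
  have hedc : D3 e d c := ⟨Ne.symm hde, Ne.symm hcd, hce⟩
  have e0 : S.L a b c = ε • S.L e d c := by
    have := congr($hG * S.L c e d)
    rw [Gq, smul_mul_assoc, mul_assoc, S.mul_inv c d e d2, mul_one, one_mul,
      S.rot c e d d2.swap] at this
    rw [← this, smul_smul, hεε, one_smul]
  have hε1 : ε = 1 := by
    have hc := S.cube a b c d1
    rw [e0] at hc
    simp only [smul_mul_assoc, mul_smul_comm, smul_smul, S.cube e d c hedc] at hc
    obtain ⟨v, hv⟩ := exists_ne (0 : V)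
    have := smul_left_injective k hv ((LinearMap.congr_fun hc v).trans (one_smul k v).symm)
    linear_combination (norm := ring_nf) this - ε * hεε
  subst hε1
  rw [one_smul] at e0
  set x := S.L a b c with hx
  have heda : D3 e d a := ⟨Ne.symm hde, Ne.symm had, hae⟩
  have e1 : S.L e d a = x := by
    have m := S.F_map (S.moves_cyc d1) (a := a) (b := b) (c := c) (d := d) (e := e)
      (by simp [hab, hac, had, hae, hbc, hbd, hbe, hcd, hce, hde])
    rw [cyc_apply_fst d1, cyc_apply_snd d1, cyc_apply_thd d1,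
      cyc_apply_of_ne (Ne.symm had) (Ne.symm hbd) (Ne.symm hcd),
      cyc_apply_of_ne (Ne.symm hae) (Ne.symm hbe) (Ne.symm hce),
      show x * S.L c d e = 1 by simpa [Gq] using hG, mul_one, coe_unit, ← S.rot a b c d1] at m
    have hu : x * S.L a d e = 1 := (S.unit d1).mul_left_inj.1 (by rw [one_mul]; exact m.symm)
    have hade : D3 a d e := ⟨had, hde, Ne.symm hae⟩
    have := congr($hu * S.L a e d)
    rw [mul_assoc, S.mul_inv a d e hade, mul_one, one_mul, S.rot a e d hade.swap] at this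
    exact this.symm
  have e2 : S.L e d c = x := e0.symm
  have step : ∀ {p q s p' q' s' : Fin r}, D3 p q s → D3 p' q' s' → S.L p q s = x →
      S.L p' q' s' = x → S.L (cyc p q s p') (cyc p q s q') (cyc p q s s') = x := by
    intro p q s p' q' s' hd hd' h1 h1'
    have := S.conj p q s p' q' s' hd hd'
    rw [h1, h1'] at this
    exact ((S.unit d1).mul_left_inj.1 this).symm
  have e3 : S.L d a c = x := by
    have := step heda hedc e1 e2
    rwa [cyc_apply_fst heda, cyc_apply_snd heda, cyc_apply_of_ne hce hcd (Ne.symm hac)] at this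
  have hdac : D3 d a c := ⟨Ne.symm had, hac, hcd⟩
  have e4 : S.L c b d = x := by
    have := step hdac d1 e3 hx.symm
    rwa [cyc_apply_snd hdac, cyc_apply_of_ne hbd (Ne.symm hab) hbc, cyc_apply_thd hdac] at this
  have hcbd : D3 c b d := ⟨Ne.symm hbc, hbd, Ne.symm hcd⟩
  have e5 : S.L e c b = x := by
    have := step hcbd hedc e4 e2
    rwa [cyc_apply_of_ne (Ne.symm hce) (Ne.symm hbe) (Ne.symm hde), cyc_apply_thd hcbd,
      cyc_apply_fst hcbd] at this
  have e6 : S.L e d b = x := by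
    have := step d1 heda hx.symm e1
    rwa [cyc_apply_of_ne (Ne.symm hae) (Ne.symm hbe) (Ne.symm hce),
      cyc_apply_of_ne (Ne.symm had) (Ne.symm hbd) (Ne.symm hcd), cyc_apply_fst d1] at this
  have hedb : D3 e d b := ⟨Ne.symm hde, Ne.symm hbd, hbe⟩
  have e7 : S.L a e c = x := by
    have := step hedb d1 e6 hx.symm
    rwa [cyc_apply_of_ne hae had hab, cyc_apply_thd hedb,
      cyc_apply_of_ne hce hcd (Ne.symm hbc)] at this
  have e8 : S.L e a c = x := by
    have := step d1 (p' := e) (q' := c) (s' := b) ⟨Ne.symm hce, Ne.symm hbc, hbe⟩ hx.symm e5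
    rwa [cyc_apply_of_ne (Ne.symm hae) (Ne.symm hbe) (Ne.symm hce), cyc_apply_thd d1,
      cyc_apply_snd d1] at this
  have haec : D3 a e c := ⟨hae, Ne.symm hce, Ne.symm hac⟩
  have hinv := S.mul_inv a e c haec
  rw [show S.L a c e = x by rw [← S.rot e a c ⟨Ne.symm hae, hac, hce⟩]; exact e8, e7] at hinv
  have hx1 : x = 1 := by
    have h' := S.cube a b c d1
    rwa [← hx, hinv, one_mul] at h'
  have hT := S.eq_one_of_eq_one hr d1 hx1
  have hn : [a, b, c, d].Nodup := by simp [hab, hac, had, hbc, hbd, hcd]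
  obtain ⟨q1, q2, -, -⟩ := D3_of_nodup hn
  have := hκ a b c d hn
  rw [Tq, hT _ _ _ q1, hT _ _ _ q2, one_mul, one_mul] at this
  obtain ⟨v, hv⟩ := exists_ne (0 : V)
  have h2 := smul_left_injective k hv ((LinearMap.congr_fun this v).symm.trans (one_smul k v).symm)
  exact one_ne_zero (α := k) (by linear_combination h3 + h2)

variable [IsAlgClosed k]

theorem exists_eigen (h3 : (3 : k) = 0) (hκ : S.Kap (-1)) (hr : 5 ≤ r) [Nontrivial V] {ε : k}
    (hε : S.Eps ε) (hεε : ε * ε = 1) {a b c d e : Fin r} (h : [a, b, c, d, e].Nodup) :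
    ∃ ζ : k, IsPrimitiveRoot ζ 5 ∧ (S.Gq ε a b c d e).eigenspace ζ ≠ ⊥ := by
  set G := S.Gq ε a b c d e with hGdef
  have hG : G ^ 5 = 1 := S.Gq_pow hε hεε h
  have hne : G ≠ 1 := S.Gq_ne_one h3 hκ hr hεε h
  set R := LinearMap.range (G - 1) with hR
  have hinv : ∀ v ∈ R, G v ∈ R := by
    rintro _ ⟨u, rfl⟩
    exact ⟨G u, by simp⟩
  have hRn : Nontrivial R := Submodule.nontrivial_iff_ne_bot.2 fun h0 =>
    hne (sub_eq_zero.1 (LinearMap.range_eq_bot.1 h0))
  obtain ⟨ζ, hζ⟩ := Module.End.exists_eigenvalue (G.restrict hinv)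
  obtain ⟨v, hv⟩ := hζ.exists_hasEigenvector
  have hv' : G (v : V) = ζ • (v : V) := congr_arg Subtype.val hv.apply_eq_smul
  have hv0 : (v : V) ≠ 0 := fun h0 => hv.2 (Subtype.ext h0)
  have hp : ∀ n : ℕ, (G ^ n) (v : V) = ζ ^ n • (v : V) := by
    intro n
    induction n with
    | zero => simp
    | succ n ih =>
      rw [pow_succ', Module.End.mul_apply, ih, map_smul, hv', smul_smul, ← pow_succ]
  have h5 : ζ ^ 5 = 1 := by
    have := hp 5
    rw [hG] at this
    exact smul_left_injective k hv0 (this.symm.trans (one_smul k _).symm)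
  have h1 : ζ ≠ 1 := by
    rintro rfl
    obtain ⟨u, hu⟩ := v.2
    have hs : G (G (G (G (v : V)))) + G (G (G (v : V))) + G (G (v : V)) + G (v : V) + (v : V) = 0 := by
      rw [← hu]
      have := LinearMap.congr_fun hG u
      simp only [pow_succ, pow_zero, one_mul, Module.End.mul_apply, Module.End.one_apply] at this
      simp only [LinearMap.sub_apply, Module.End.one_apply, map_sub, this]
      abel
    simp only [hv', map_smul, one_smul] at hs
    have h5' : (5 : k) • (v : V) = 0 := by linear_combination (norm := module) hs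
    refine hv0 ((smul_eq_zero.1 h5').resolve_left fun h5 => ?_)
    exact one_ne_zero (α := k) (by linear_combination 2 * h3 - h5)
  refine ⟨ζ, ?_, fun h0 => hv0 ?_⟩
  · haveI : Fact (Nat.Prime 5) := ⟨Nat.prime_five⟩
    have := IsPrimitiveRoot.orderOf ζ
    rwa [orderOf_eq_prime h5 h1] at this
  · have : (v : V) ∈ G.eigenspace ζ := Module.End.mem_eigenspace_iff.2 hv'
    rwa [h0, Submodule.mem_bot] at this

theorem eig_move {ε : k} (hε : S.Eps ε) (hεε : ε * ε = 1) {a b c d e : Fin r}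
    (h : [a, b, c, d, e].Nodup) (hr : 7 ≤ r) :
    ∃ T : (Module.End k V)ˣ, ∀ (ν : k), ν ^ 5 = 1 →
      ((S.Gq ε a b c d e).eigenspace ν).map ((T : Module.End k V) : V →ₗ[k] V) ≤
        (S.Gq ε a b c d e).eigenspace (ν ^ 3) := by
  have h' : [a, c, e, b, d].Nodup := by
    simp only [List.nodup_cons, List.mem_cons, List.not_mem_nil, or_false, not_or] at h ⊢
    obtain ⟨⟨hab, hac, had, hae⟩, ⟨hbc, hbd, hbe⟩, ⟨hcd, hce⟩, hde, -⟩ := h
    exact ⟨⟨hac, hae, hab, had⟩, ⟨hce, Ne.symm hbc, hcd⟩, ⟨Ne.symm hbe, Ne.symm hde⟩, hbd, by simp⟩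
  obtain ⟨σ, T, hσ, hT⟩ := S.exists_move _ _ h h' rfl (by simp; omega)
  simp only [List.map_cons, List.map_nil, List.cons.injEq, and_true] at hσ
  refine ⟨T, fun ν hν => ?_⟩
  rintro _ ⟨v, hv, rfl⟩
  have hv : S.Gq ε a b c d e v = ν • v := Module.End.mem_eigenspace_iff.1 hv
  have m := LinearMap.congr_fun (S.Gq_map hT ε h) v
  rw [hσ.1, hσ.2.1, hσ.2.2.1, hσ.2.2.2.1, hσ.2.2.2.2, S.Gq_sq hε hεε h] at m
  simp only [Module.End.mul_apply, hv, map_smul] at m
  set G := S.Gq ε a b c d e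
  set w := (T : Module.End k V) v
  have hG : (G ^ 5) w = w := LinearMap.congr_fun (S.Gq_pow hε hεε h) w
  simp only [pow_succ, pow_zero, one_mul, Module.End.mul_apply, Module.End.one_apply,
    m.symm, map_smul, smul_smul] at hG
  refine Module.End.mem_eigenspace_iff.2 ?_
  have e1 : (ν * ν) • G w = w := hG
  have e2 := congr((ν ^ 3) • $e1)
  rw [smul_smul, show ν ^ 3 * (ν * ν) = ν ^ 5 by ring, hν, one_smul] at e2
  exact e2

theorem four_mul_eig_le (hr : 7 ≤ r) {ε : k} (hε : S.Eps ε) (hεε : ε * ε = 1) {a b c d e : Fin r}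
    (h : [a, b, c, d, e].Nodup) {ζ : k} (hζ : IsPrimitiveRoot ζ 5) :
    4 * finrank k ((S.Gq ε a b c d e).eigenspace ζ) ≤ finrank k V := by
  obtain ⟨T, hT⟩ := S.eig_move hε hεε h hr
  set E := fun ν => (S.Gq ε a b c d e).eigenspace ν with hE
  have le : ∀ ν : k, ν ^ 5 = 1 → finrank k (E ν) ≤ finrank k (E (ν ^ 3)) := fun ν hν => by
    refine le_trans (le_of_eq ?_) (Submodule.finrank_mono (hT ν hν))
    exact LinearEquiv.finrank_eq (Submodule.equivMapOfInjective _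
      (((Module.End.isUnit_iff _).1 T.isUnit).injective) _)
  have p : ∀ j : ℕ, (ζ ^ j) ^ 5 = 1 := fun j => by rw [pow_right_comm, hζ.pow_eq_one, one_pow]
  have h3 : finrank k (E ζ) ≤ finrank k (E (ζ ^ 3)) := le ζ hζ.pow_eq_one
  have h4 : finrank k (E (ζ ^ 3)) ≤ finrank k (E (ζ ^ 4)) := by
    have e' : (ζ ^ 3) ^ 3 = ζ ^ 4 := by
      rw [← pow_mul, show 3 * 3 = 5 + 4 by norm_num, pow_add, hζ.pow_eq_one, one_mul]
    have := le _ (p 3)
    rwa [e'] at this
  have h2 : finrank k (E (ζ ^ 4)) ≤ finrank k (E (ζ ^ 2)) := by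
    have e' : (ζ ^ 4) ^ 3 = ζ ^ 2 := by
      rw [← pow_mul, show 4 * 3 = 5 + 5 + 2 by norm_num, pow_add, pow_add, hζ.pow_eq_one, one_mul,
        one_mul]
    have := le _ (p 4)
    rwa [e'] at this
  have ind := (S.Gq ε a b c d e).eigenspaces_iSupIndep
  have ne : ∀ {i j : ℕ}, i < 5 → j < 5 → i ≠ j → ζ ^ i ≠ ζ ^ j := fun hi hj hij he =>
    hij (hζ.pow_inj hi hj he)
  have z1 : ζ = ζ ^ 1 := (pow_one ζ).symm
  have d1 : Disjoint (E (ζ ^ 3)) (E ζ) := by
    have := ind.pairwiseDisjoint (ne (i := 3) (j := 1) (by norm_num) (by norm_num) (by norm_num))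
    rwa [← z1] at this
  have d2 : Disjoint (E (ζ ^ 4)) (E (ζ ^ 3) ⊔ E ζ) := by
    have := ind.disjoint_biSup (y := ({ζ ^ 3, ζ} : Set k)) (x := ζ ^ 4) (by
      simp only [Set.mem_insert_iff, Set.mem_singleton_iff, not_or]
      refine ⟨ne (by norm_num) (by norm_num) (by norm_num), ?_⟩
      have := ne (i := 4) (j := 1) (by norm_num) (by norm_num) (by norm_num)
      rwa [← z1] at this)
    rwa [iSup_insert, iSup_singleton] at this
  have d3 : Disjoint (E (ζ ^ 2)) (E (ζ ^ 4) ⊔ (E (ζ ^ 3) ⊔ E ζ)) := by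
    have := ind.disjoint_biSup (y := ({ζ ^ 4, ζ ^ 3, ζ} : Set k)) (x := ζ ^ 2) (by
      simp only [Set.mem_insert_iff, Set.mem_singleton_iff, not_or]
      refine ⟨ne (by norm_num) (by norm_num) (by norm_num),
        ne (by norm_num) (by norm_num) (by norm_num), ?_⟩
      have := ne (i := 2) (j := 1) (by norm_num) (by norm_num) (by norm_num)
      rwa [← z1] at this)
    rwa [iSup_insert, iSup_insert, iSup_singleton] at this
  have s1 := Submodule.finrank_sup_add_finrank_inf_eq (E (ζ ^ 3)) (E ζ)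
  have s2 := Submodule.finrank_sup_add_finrank_inf_eq (E (ζ ^ 4)) (E (ζ ^ 3) ⊔ E ζ)
  have s3 := Submodule.finrank_sup_add_finrank_inf_eq (E (ζ ^ 2)) (E (ζ ^ 4) ⊔ (E (ζ ^ 3) ⊔ E ζ))
  rw [disjoint_iff.1 d1, finrank_bot] at s1
  rw [disjoint_iff.1 d2, finrank_bot] at s2
  rw [disjoint_iff.1 d3, finrank_bot] at s3
  have := (E (ζ ^ 2) ⊔ (E (ζ ^ 4) ⊔ (E (ζ ^ 3) ⊔ E ζ))).finrank_le
  show 4 * finrank k (E ζ) ≤ _
  omega

theorem spin_step (h3 : (3 : k) = 0) (hκ : S.Kap (-1)) (hr : 7 ≤ r) [Nontrivial V] {ε : k}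
    (hε : S.Eps ε) (hεε : ε * ε = 1) :
    ∃ (U : Type v) (_ : AddCommGroup U) (_ : Module k U) (_ : FiniteDimensional k U)
      (_ : Nontrivial U) (S' : TriSys k U (r - 5)), S'.Kap (-1) ∧ S'.Eps ε ∧
      4 * finrank k U ≤ finrank k V := by
  obtain ⟨f, hf, -⟩ := exists_fresh (r := r) (m := 5) [] (by simp; omega)
  set a := f 0; set b := f 1; set c := f 2; set d := f 3; set e := f 4
  have h : [a, b, c, d, e].Nodup := by simp [a, b, c, d, e, hf.eq_iff]
  obtain ⟨d1, d2, -⟩ := cyc5 h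
  obtain ⟨ζ, hζ, hne⟩ := S.exists_eigen h3 hκ (by omega) hε hεε h
  obtain ⟨g, hg, hg'⟩ := exists_fresh (r := r) (m := r - 5) [a, b, c, d, e] (by simp; omega)
  have hgn : ∀ i, g i ≠ a ∧ g i ≠ b ∧ g i ≠ c ∧ g i ≠ d ∧ g i ≠ e := fun i => by simpa using hg' i
  have hinv : (S.comap g hg).Inv ((S.Gq ε a b c d e).eigenspace ζ) := by
    intro p q s hpqs v hv
    have hv : S.Gq ε a b c d e v = ζ • v := Module.End.mem_eigenspace_iff.1 hv
    refine Module.End.mem_eigenspace_iff.2 ?_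
    have hd : D3 (g p) (g q) (g s) := hpqs.map hg
    obtain ⟨p1, p2, p3, p4, p5⟩ := hgn p
    obtain ⟨q1, q2, q3, q4, q5⟩ := hgn q
    obtain ⟨s1, s2, s3, s4, s5⟩ := hgn s
    have c1 := LinearMap.congr_fun (S.commute_of_disjoint (a := a) (b := b) (c := c) (d := g p)
      (e := g q) (f := g s) (by
        simp [hd.1, hd.2.1, hd.2.2.symm, d1.1, d1.2.1, d1.2.2.symm, Ne.symm p1, Ne.symm p2,
          Ne.symm p3, Ne.symm q1, Ne.symm q2, Ne.symm q3, Ne.symm s1, Ne.symm s2, Ne.symm s3]))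
    have c2 := LinearMap.congr_fun (S.commute_of_disjoint (a := c) (b := d) (c := e) (d := g p)
      (e := g q) (f := g s) (by
        simp [hd.1, hd.2.1, hd.2.2.symm, d2.1, d2.2.1, d2.2.2.symm, Ne.symm p3, Ne.symm p4,
          Ne.symm p5, Ne.symm q3, Ne.symm q4, Ne.symm q5, Ne.symm s3, Ne.symm s4, Ne.symm s5]))
    simp only [Module.End.mul_apply] at c1 c2
    simp only [Gq, LinearMap.smul_apply, Module.End.mul_apply] at hv ⊢
    show ε • S.L a b c (S.L c d e (S.L (g p) (g q) (g s) v)) = ζ • S.L (g p) (g q) (g s) v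
    rw [c2, c1, ← map_smul, hv, map_smul]
  exact ⟨_, _, _, inferInstance, Submodule.nontrivial_iff_ne_bot.2 hne, (S.comap g hg).sub _ hinv,
    TriSys.Kap.sub _ (TriSys.Kap.comap S hκ g hg) _ _,
    TriSys.Eps.sub _ (TriSys.Eps.comap S hε g hg) _ _, S.four_mul_eig_le hr hε hεε h hζ⟩

theorem sixteen_le (h3 : (3 : k) = 0) (S : TriSys k V 10) (hκ : S.Kap (-1)) [Nontrivial V] {ε : k}
    (hε : S.Eps ε) (hεε : ε * ε = 1) : 16 ≤ finrank k V := by
  have hA : ([0, 1, 2, 3, 4] : List (Fin 10)).Nodup := by decide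
  have hB : ([5, 6, 7, 8, 9] : List (Fin 10)).Nodup := by decide
  set G := S.Gq ε 0 1 2 3 4 with hG
  set H := S.Gq ε 5 6 7 8 9 with hH
  have hHG : Commute G H := by
    have c : ∀ {a b c d e f : Fin 10}, [a, b, c, d, e, f].Nodup → Commute (S.L a b c) (S.L d e f) :=
      fun h => S.commute_of_disjoint h
    have k1 := (c (a := 0) (b := 1) (c := 2) (d := 5) (e := 6) (f := 7) (by decide))
    have k2 := (c (a := 0) (b := 1) (c := 2) (d := 7) (e := 8) (f := 9) (by decide))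
    have k3 := (c (a := 2) (b := 3) (c := 4) (d := 5) (e := 6) (f := 7) (by decide))
    have k4 := (c (a := 2) (b := 3) (c := 4) (d := 7) (e := 8) (f := 9) (by decide))
    exact (((k1.mul_right k2).mul_left (k3.mul_right k4)).smul_left ε).smul_right ε
  obtain ⟨ζ, hζ, hne⟩ := S.exists_eigen h3 hκ (by omega) hε hεε hA
  haveI := Submodule.nontrivial_iff_ne_bot.2 hne
  let f5 : Fin 5 → Fin 10 := ![5, 6, 7, 8, 9]
  have hf5 : Function.Injective f5 := by decide
  have hinv : (S.comap f5 hf5).Inv (G.eigenspace ζ) := by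
    intro p q s hpqs v hv
    refine Module.End.mem_eigenspace_iff.2 ?_
    have c : ∀ {a b c : Fin 10}, [a, b, c, f5 p, f5 q, f5 s].Nodup → ∀ w,
        S.L a b c (S.L (f5 p) (f5 q) (f5 s) w) = S.L (f5 p) (f5 q) (f5 s) (S.L a b c w) :=
      fun h w => LinearMap.congr_fun (S.commute_of_disjoint h) w
    have key : ∀ p q s : Fin 5, D3 p q s →
        [(0 : Fin 10), 1, 2, f5 p, f5 q, f5 s].Nodup ∧ [(2 : Fin 10), 3, 4, f5 p, f5 q, f5 s].Nodup := by
      unfold D3; decide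
    obtain ⟨n1, n2⟩ := key p q s hpqs
    have hv : G v = ζ • v := Module.End.mem_eigenspace_iff.1 hv
    simp only [hG, Gq, LinearMap.smul_apply, Module.End.mul_apply] at hv ⊢
    show ε • S.L 0 1 2 (S.L 2 3 4 (S.L (f5 p) (f5 q) (f5 s) v)) = ζ • S.L (f5 p) (f5 q) (f5 s) v
    rw [c n2, c n1, ← map_smul, hv, map_smul]
  let S' := (S.comap f5 hf5).sub _ hinv
  obtain ⟨ν, hν, hνne⟩ := S'.exists_eigen h3 (TriSys.Kap.sub _ (TriSys.Kap.comap S hκ f5 hf5) _ _)
    le_rfl (TriSys.Eps.sub _ (TriSys.Eps.comap S hε f5 hf5) _ _) hεε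
    (a := 0) (b := 1) (c := 2) (d := 3) (e := 4) (by decide)
  obtain ⟨v, hv, hv0⟩ := Submodule.exists_mem_ne_zero_of_ne_bot hνne
  have hvG : G (v : V) = ζ • (v : V) := Module.End.mem_eigenspace_iff.1 v.2
  have hvH : H (v : V) = ν • (v : V) := by
    have := congr_arg Subtype.val (Module.End.mem_eigenspace_iff.1 hv)
    simpa [S', Gq, hH, TriSys.sub_apply _ _ _ (show D3 (0 : Fin 5) 1 2 by unfold D3; decide),
      TriSys.sub_apply _ _ _ (show D3 (2 : Fin 5) 3 4 by unfold D3; decide), f5] using this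
  -- joint eigenvalues, as exponents
  let P : ℕ → ℕ → Prop := fun i j => ∃ w : V, w ≠ 0 ∧ G w = ζ ^ i • w ∧ H w = ζ ^ j • w
  have hmod : ∀ i, ζ ^ i = ζ ^ (i % 5) := fun i => pow_eq_pow_mod i hζ.pow_eq_one
  have Pcongr : ∀ {i j i' j'}, P i j → i % 5 = i' % 5 → j % 5 = j' % 5 → P i' j' := by
    rintro i j i' j' ⟨w, hw, h1, h2⟩ e1 e2
    exact ⟨w, hw, by rw [h1, hmod i, e1, ← hmod i'], by rw [h2, hmod j, e2, ← hmod j']⟩
  have inv : ∀ {X : Module.End k V} {w : V} {j : ℕ}, X ^ 5 = 1 → (X * X) w = ζ ^ j • w →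
      X w = ζ ^ (3 * j) • w := by
    intro X w j hX hw
    have : X w = (X * X) ((X * X) ((X * X) w)) := by
      have e6 : X * X * (X * X) * (X * X) = X ^ 5 * X := by
        simp only [pow_succ, pow_zero, one_mul, mul_assoc]
      rw [← Module.End.mul_apply, ← Module.End.mul_apply, e6, hX, one_mul]
    rw [this, hw, map_smul, hw, smul_smul, map_smul, hw, smul_smul, ← pow_add, ← pow_add]
    congr 2; ring
  have hG5 := S.Gq_pow hε hεε hA
  have hH5 := S.Gq_pow hε hεε hB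
  -- both squared
  let τ₁ : Perm (Fin 10) := swap 1 2 * swap 2 4 * swap 4 3 * (swap 6 7 * swap 7 9 * swap 9 8)
  -- the second reversed
  let τ₂ : Perm (Fin 10) := swap 6 9 * swap 7 8
  -- exchanged, the first squared
  let τ₃ : Perm (Fin 10) := swap 1 2 * swap 2 4 * swap 4 3 *
    (swap 0 5 * swap 1 6 * swap 2 7 * swap 3 8 * swap 4 9)
  obtain ⟨T1, hT1⟩ := S.exists_moves (σ := τ₁) (by
    simp [τ₁, Perm.mem_alternatingGroup, Fin.ext_iff])
  obtain ⟨T2, hT2⟩ := S.exists_moves (σ := τ₂) (by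
    simp [τ₂, Perm.mem_alternatingGroup, Fin.ext_iff])
  obtain ⟨T3, hT3⟩ := S.exists_moves (σ := τ₃) (by
    simp [τ₃, Perm.mem_alternatingGroup, Fin.ext_iff])
  have u1 : τ₁ 0 = 0 ∧ τ₁ 1 = 2 ∧ τ₁ 2 = 4 ∧ τ₁ 3 = 1 ∧ τ₁ 4 = 3 ∧
      τ₁ 5 = 5 ∧ τ₁ 6 = 7 ∧ τ₁ 7 = 9 ∧ τ₁ 8 = 6 ∧ τ₁ 9 = 8 := by decide
  have u2 : τ₂ 0 = 0 ∧ τ₂ 1 = 1 ∧ τ₂ 2 = 2 ∧ τ₂ 3 = 3 ∧ τ₂ 4 = 4 ∧
      τ₂ 5 = 5 ∧ τ₂ 6 = 9 ∧ τ₂ 7 = 8 ∧ τ₂ 8 = 7 ∧ τ₂ 9 = 6 := by decide
  have u3 : τ₃ 0 = 5 ∧ τ₃ 1 = 6 ∧ τ₃ 2 = 7 ∧ τ₃ 3 = 8 ∧ τ₃ 4 = 9 ∧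
      τ₃ 5 = 0 ∧ τ₃ 6 = 2 ∧ τ₃ 7 = 4 ∧ τ₃ 8 = 1 ∧ τ₃ 9 = 3 := by decide
  have inj : ∀ (T : (Module.End k V)ˣ) {w : V}, w ≠ 0 → (T : Module.End k V) w ≠ 0 :=
    fun T w hw h0 => hw (((Module.End.isUnit_iff _).1 T.isUnit).injective (h0.trans (map_zero _).symm))
  have M1 : ∀ {i j}, P i j → P (3 * i) (3 * j) := by
    rintro i j ⟨w, hw, h1, h2⟩
    refine ⟨(T1 : Module.End k V) w, inj T1 hw, inv hG5 ?_, inv hH5 ?_⟩
    · have m := LinearMap.congr_fun (S.Gq_map hT1 ε hA) w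
      rw [u1.1, u1.2.1, u1.2.2.1, u1.2.2.2.1, u1.2.2.2.2.1, S.Gq_sq hε hεε hA] at m
      rw [Module.End.mul_apply, ← hG, h1, map_smul] at m
      exact m.symm
    · have m := LinearMap.congr_fun (S.Gq_map hT1 ε hB) w
      rw [u1.2.2.2.2.2.1, u1.2.2.2.2.2.2.1, u1.2.2.2.2.2.2.2.1, u1.2.2.2.2.2.2.2.2.1,
        u1.2.2.2.2.2.2.2.2.2, S.Gq_sq hε hεε hB] at m
      rw [Module.End.mul_apply, ← hH, h2, map_smul] at m
      exact m.symm
  have M2 : ∀ {i j}, P i j → P i (4 * j) := by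
    rintro i j ⟨w, hw, h1, h2⟩
    refine ⟨(T2 : Module.End k V) w, inj T2 hw, ?_, ?_⟩
    · have m := LinearMap.congr_fun (S.Gq_map hT2 ε hA) w
      rw [u2.1, u2.2.1, u2.2.2.1, u2.2.2.2.1, u2.2.2.2.2.1, Module.End.mul_apply,
        Module.End.mul_apply, ← hG, h1, map_smul] at m
      exact m.symm
    · have m := LinearMap.congr_fun (S.Gq_map hT2 ε hB) w
      rw [u2.2.2.2.2.2.1, u2.2.2.2.2.2.2.1, u2.2.2.2.2.2.2.2.1, u2.2.2.2.2.2.2.2.2.1,
        u2.2.2.2.2.2.2.2.2.2, Module.End.mul_apply, Module.End.mul_apply, ← hH, h2, map_smul] at m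
      have r1 := LinearMap.congr_fun (S.Gq_rev hεε hB) ((T2 : Module.End k V) w)
      rw [Module.End.mul_apply, ← hH, ← m, map_smul, Module.End.one_apply] at r1
      have r2 := congr((ζ ^ (4 * j)) • $r1)
      rw [smul_smul, ← pow_add, show 4 * j + j = 5 * j by ring, pow_mul, hζ.pow_eq_one, one_pow,
        one_smul] at r2
      exact r2
  have M3 : ∀ {i j}, P i j → P (3 * j) i := by
    rintro i j ⟨w, hw, h1, h2⟩
    refine ⟨(T3 : Module.End k V) w, inj T3 hw, inv hG5 ?_, ?_⟩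
    · have m := LinearMap.congr_fun (S.Gq_map hT3 ε hB) w
      rw [u3.2.2.2.2.2.1, u3.2.2.2.2.2.2.1, u3.2.2.2.2.2.2.2.1, u3.2.2.2.2.2.2.2.2.1,
        u3.2.2.2.2.2.2.2.2.2, S.Gq_sq hε hεε hA] at m
      rw [Module.End.mul_apply, ← hH, h2, map_smul] at m
      exact m.symm
    · have m := LinearMap.congr_fun (S.Gq_map hT3 ε hA) w
      rw [u3.1, u3.2.1, u3.2.2.1, u3.2.2.2.1, u3.2.2.2.2.1, Module.End.mul_apply,
        Module.End.mul_apply, ← hG, h1, map_smul] at m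
      exact m.symm
  obtain ⟨jb, hjb, hjbν⟩ := hζ.eq_pow_of_pow_eq_one hν.pow_eq_one
  have hj0 : jb ≠ 0 := fun h0 => hν.ne_one (by norm_num) (by rw [← hjbν, h0, pow_zero])
  have P0 : P 1 jb := ⟨v, fun h0 => hv0 (Subtype.ext h0), by rw [pow_one]; exact hvG,
    by rw [hjbν]; exact hvH⟩
  have Q1 : P 1 1 := by
    rcases (show jb = 1 ∨ jb = 2 ∨ jb = 3 ∨ jb = 4 by omega) with rfl | rfl | rfl | rfl
    · exact P0
    · exact Pcongr (M3 P0) (by norm_num) (by norm_num)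
    · exact Pcongr (M3 (M2 P0)) (by norm_num) (by norm_num)
    · exact Pcongr (M2 P0) (by norm_num) (by norm_num)
  have Q2 : P 1 2 := Pcongr (M1 (M1 (M1 (M3 Q1)))) (by norm_num) (by norm_num)
  have Q4 : P 1 4 := Pcongr (M2 Q1) (by norm_num) (by norm_num)
  have Q3 : P 1 3 := Pcongr (M2 Q2) (by norm_num) (by norm_num)
  obtain ⟨w1, a1, b1, c1⟩ := Q1
  obtain ⟨w2, a2, b2, c2⟩ := Q2
  obtain ⟨w3, a3, b3, c3⟩ := Q3
  obtain ⟨w4, a4, b4, c4⟩ := Q4
  rw [pow_one] at b1 b2 b3 b4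
  have hli : LinearIndependent k ![w1, w2, w3, w4] :=
    H.eigenvectors_linearIndependent' ![ζ ^ 1, ζ ^ 2, ζ ^ 3, ζ ^ 4] (by
      intro i j hij
      fin_cases i <;> fin_cases j <;> first
        | rfl
        | exact absurd (hζ.pow_inj (by norm_num) (by norm_num) hij) (by norm_num)) _ (by
      intro i
      fin_cases i <;> simp [Module.End.hasEigenvector_iff, Module.End.mem_eigenspace_iff] <;>
        first | exact ⟨by simpa using c1, a1⟩ | exact ⟨c2, a2⟩ | exact ⟨c3, a3⟩ | exact ⟨c4, a4⟩)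
  let wE : Fin 4 → G.eigenspace ζ := ![⟨w1, Module.End.mem_eigenspace_iff.2 b1⟩,
    ⟨w2, Module.End.mem_eigenspace_iff.2 b2⟩, ⟨w3, Module.End.mem_eigenspace_iff.2 b3⟩,
    ⟨w4, Module.End.mem_eigenspace_iff.2 b4⟩]
  have hliE : LinearIndependent k wE := by
    refine LinearIndependent.of_comp (G.eigenspace ζ).subtype ?_
    convert hli using 1
    ext i
    fin_cases i <;> rfl
  have h4 := hliE.fintype_card_le_finrank
  have : 4 * finrank k (G.eigenspace ζ) ≤ finrank k V := S.four_mul_eig_le (by norm_num) hε hεε hA hζ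
  rw [Fintype.card_fin] at h4
  omega

end TriSys

theorem bound_three_spin {k : Type u} [Field k] [IsAlgClosed k] (h3 : (3 : k) = 0) {ε : k}
    (hεε : ε * ε = 1) : ∀ (r : ℕ) {V : Type v} [AddCommGroup V] [Module k V] [FiniteDimensional k V]
      [Nontrivial V] (S : TriSys k V r), S.Kap (-1) → S.Eps ε → 9 ≤ r →
      Bound k r (finrank k V) := by
  intro r
  induction r using Nat.strong_induction_on with
  | _ r ih =>
    intro V _ _ _ _ S hκ hε hr
    by_cases h14 : 14 ≤ r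
    · obtain ⟨U, _, _, _, _, S', k1, k2, hle⟩ := S.spin_step h3 hκ (by omega) hε hεε
      have := (ih (r - 5) (by omega) S' k1 k2 (by omega)).le
      exact Or.inl (by omega)
    by_cases h10 : 10 ≤ r
    · obtain ⟨g, hg, -⟩ := exists_fresh (r := r) (m := 10) [] (by simp; omega)
      have := TriSys.sixteen_le h3 (S.comap g hg) (TriSys.Kap.comap S hκ g hg)
        (TriSys.Eps.comap S hε g hg) hεε
      exact Or.inl (by omega)
    obtain ⟨U, _, _, _, _, S', k1, k2, hle⟩ := S.spin_step h3 hκ (by omega) hε hεε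
    have := S'.two_le_spin h3 k1 (by omega)
    exact Or.inl (by omega)

end Cfsg.Agent.AltSection
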