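import Cfsg.Agent.Lib.AltSection.CharNotThree
import Cfsg.Agent.Lib.AltSection.CharThreeLinear
import Cfsg.Agent.Lib.AltSection.CharThreeSpin

/-!
The dimension bound for systems of canonical lifts, in every characteristic.
-/

set_option autoImplicit false

namespace Cfsg.Agent.AltSection

open Module

theorem bound_triSys {k : Type} [Field k] [IsAlgClosed k] {V : Type} [AddCommGroup V] [Module k V]
    [FiniteDimensional k V] {r : ℕ} (S : TriSys k V r) (hr : 9 ≤ r) (hS : ¬ S.Triv) :
    Bound k r (finrank k V) := by
  by_cases h3 : (3 : k) = 0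
  · obtain ⟨κ, hκ1, hκ⟩ := S.exists_kappa (by omega)
    have h : κ = 1 ∨ κ = -1 := by
      have : (κ - 1) * (κ + 1) = 0 := by linear_combination hκ1
      rcases mul_eq_zero.1 this with h | h
      · exact Or.inl (sub_eq_zero.1 h)
      · exact Or.inr (eq_neg_of_add_eq_zero_left h)
    rcases h with rfl | rfl
    · exact S.bound_three_linear h3 hκ hr hS
    · have : Nontrivial V := by
        by_contra h0
        rw [not_nontrivial_iff_subsingleton] at h0
        exact hS fun _ _ _ _ => Subsingleton.elim _ _
      obtain ⟨ε, hεε, hε⟩ := S.exists_eps (by omega)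
      exact bound_three_spin h3 hεε r S hκ hε hr
  · exact bound_not_three h3 r S hr hS

end Cfsg.Agent.AltSection
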