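import Cfsg.Agent.Lib.AltSection.TriSys
import Mathlib.LinearAlgebra.Dimension.Constructions
import Mathlib.LinearAlgebra.FiniteDimensional.Lemmas

/-!
Blocks of points carrying subspaces fixed by the disjoint three-cycles: the dimension grows with
the number of points.
-/

set_option autoImplicit false
set_option linter.unusedSimpArgs false
set_option linter.unusedSectionVars false

namespace Cfsg.Agent.AltSection

open Module Equiv

namespace TriSys

variable {k : Type*} [Field k] {V : Type*} [AddCommGroup V] [Module k V] {r : ℕ}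
  (S : TriSys k V r)

/-- Subspaces attached to blocks of `b` points. -/
structure Blocks (b : ℕ) where
  W : List (Fin r) → Submodule k V
  move : ∀ σ T, S.Moves σ T → ∀ l : List (Fin r), l.Nodup → l.length = b →
    ∀ v ∈ W l, (T : Module.End k V) v ∈ W (l.map σ)
  rank : ∀ l : List (Fin r), l.Nodup → l.length = b → b - 1 ≤ finrank k (W l)
  fix : ∀ l : List (Fin r), l.Nodup → l.length = b → ∀ x y z, D3 x y z → x ∉ l → y ∉ l → z ∉ l →
    ∀ v ∈ W l, S.L x y z v = v
  nofix : ∀ l : List (Fin r), l.Nodup → l.length = b → ∀ v ∈ W l,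
    (∀ x y z, D3 x y z → x ∈ l → y ∈ l → z ∈ l → S.L x y z v = v) → v = 0

namespace Blocks

variable {S} {b : ℕ} (B : S.Blocks b)

/-- The span of the blocks inside a set. -/
def M (s : Finset (Fin r)) : Submodule k V :=
  ⨆ l : {l : List (Fin r) // l.Nodup ∧ l.length = b ∧ l.toFinset ⊆ s}, B.W l.1

theorem W_le_M {l : List (Fin r)} (h : l.Nodup) (hl : l.length = b) {s : Finset (Fin r)}
    (hs : l.toFinset ⊆ s) : B.W l ≤ B.M s :=
  le_iSup (fun l : {l : List (Fin r) // l.Nodup ∧ l.length = b ∧ l.toFinset ⊆ s} => B.W l.1)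
    ⟨l, h, hl, hs⟩

theorem M_mono {s t : Finset (Fin r)} (h : s ⊆ t) : B.M s ≤ B.M t :=
  iSup_le fun l => B.W_le_M l.2.1 l.2.2.1 (l.2.2.2.trans h)

theorem map_M_le {σ : Perm (Fin r)} {T : (Module.End k V)ˣ} (hT : S.Moves σ T)
    (s : Finset (Fin r)) :
    (B.M s).map ((T : Module.End k V) : V →ₗ[k] V) ≤ B.M (s.image σ) := by
  rw [M, Submodule.map_iSup]
  refine iSup_le fun l => ?_
  rintro _ ⟨v, hv, rfl⟩
  refine B.W_le_M (l.2.1.map σ.injective) (by simp [l.2.2.1]) ?_ (B.move σ T hT _ l.2.1 l.2.2.1 v hv)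
  intro x hx
  simp only [List.mem_toFinset, List.mem_map] at hx
  obtain ⟨y, hy, rfl⟩ := hx
  exact Finset.mem_image_of_mem _ (l.2.2.2 (List.mem_toFinset.2 hy))

theorem map_M {σ : Perm (Fin r)} {T : (Module.End k V)ˣ} (hT : S.Moves σ T) (s : Finset (Fin r)) :
    (B.M s).map ((T : Module.End k V) : V →ₗ[k] V) = B.M (s.image σ) := by
  refine le_antisymm (B.map_M_le hT s) fun v hv => ?_
  have h := B.map_M_le (Moves.inv S hT) (s.image σ) ⟨v, hv, rfl⟩
  rw [Finset.image_image] at h
  have e : ((σ⁻¹ : Perm (Fin r)) ∘ σ : Fin r → Fin r) = id := by ext x; simp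
  rw [e, Finset.image_id] at h
  refine ⟨_, h, ?_⟩
  show (T : Module.End k V) ((↑T⁻¹ : Module.End k V) v) = v
  rw [← Module.End.mul_apply, Units.mul_inv, Module.End.one_apply]

theorem fix_M {s : Finset (Fin r)} {x y z : Fin r} (h : D3 x y z) (hx : x ∉ s) (hy : y ∉ s)
    (hz : z ∉ s) {v : V} (hv : v ∈ B.M s) : S.L x y z v = v := by
  have : B.M s ≤ LinearMap.eqLocus (S.L x y z) (LinearMap.id) := by
    refine iSup_le fun l w hw => ?_
    exact B.fix l.1 l.2.1 l.2.2.1 x y z h (fun m => hx (l.2.2.2 (List.mem_toFinset.2 m)))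
      (fun m => hy (l.2.2.2 (List.mem_toFinset.2 m))) (fun m => hz (l.2.2.2 (List.mem_toFinset.2 m)))
      w hw
  exact this hv

variable [FiniteDimensional k V]

theorem finrank_map_unit (T : (Module.End k V)ˣ) (U : Submodule k V) :
    finrank k (U.map ((T : Module.End k V) : V →ₗ[k] V)) = finrank k U :=
  (LinearEquiv.finrank_eq (Submodule.equivMapOfInjective _
    (((Module.End.isUnit_iff _).1 T.isUnit).injective) _)).symm

theorem finrank_M_eq {s t : Finset (Fin r)} (h : s.card = t.card) (hs : s.card + 2 ≤ r) :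
    finrank k (B.M s) = finrank k (B.M t) := by
  obtain ⟨σ, T, hσ, hT⟩ := S.exists_move s.toList t.toList s.nodup_toList t.nodup_toList
    (by simp [h]) (by simpa using hs)
  have e : s.image σ = t := by
    ext x
    rw [← Finset.mem_toList (s := t), ← hσ]
    simp
  rw [← e, ← B.map_M hT, finrank_map_unit]

theorem grow (hb : 2 ≤ b) {s : Finset (Fin r)} (hs : b ≤ s.card) (hr : s.card + 3 ≤ r)
    {a : Fin r} (ha : a ∉ s) : finrank k (B.M s) < finrank k (B.M (insert a s)) := by
  refine lt_of_le_of_ne (Submodule.finrank_mono (B.M_mono (Finset.subset_insert a s))) fun heq => ?_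
  set m := s.card with hm
  have hall : ∀ t : Finset (Fin r), t.card = m → ∀ c ∉ t, B.M (insert c t) = B.M t := by
    intro t ht c hc
    refine (Submodule.eq_of_le_of_finrank_le (B.M_mono (Finset.subset_insert c t)) ?_).symm
    rw [B.finrank_M_eq (s := insert c t) (t := insert a s)
      (by rw [Finset.card_insert_of_notMem hc, Finset.card_insert_of_notMem ha, ht])
      (by rw [Finset.card_insert_of_notMem hc, ht]; omega), ← heq,
      B.finrank_M_eq (s := s) (t := t) (by omega) (by omega)]
  have heqM : ∀ n, ∀ t t' : Finset (Fin r), t.card = m → t'.card = m → (t' \ t).card = n →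
      B.M t' = B.M t := by
    intro n
    induction n with
    | zero =>
      intro t t' ht ht' h0
      rw [Finset.card_eq_zero, Finset.sdiff_eq_empty_iff_subset] at h0
      rw [Finset.eq_of_subset_of_card_le h0 (by omega)]
    | succ n ih =>
      intro t t' ht ht' h0
      obtain ⟨c, hc⟩ : (t' \ t).Nonempty := Finset.card_pos.1 (by omega)
      obtain ⟨e, he⟩ : (t \ t').Nonempty := Finset.card_pos.1 (by
        have := Finset.card_sdiff_add_card_inter t' t
        have := Finset.card_sdiff_add_card_inter t t'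
        rw [Finset.inter_comm t' t] at *
        omega)
      rw [Finset.mem_sdiff] at hc he
      have hcard : ((insert c t).erase e).card = m := by
        rw [Finset.card_erase_of_mem (Finset.mem_insert_of_mem he.1),
          Finset.card_insert_of_notMem hc.2, ht]
        omega
      have hdiff : (t' \ (insert c t).erase e).card = n := by
        have : t' \ (insert c t).erase e = (t' \ t).erase c := by
          ext x
          simp only [Finset.mem_sdiff, Finset.mem_erase, Finset.mem_insert]
          constructor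
          · rintro ⟨h1, h2⟩
            have : x ≠ e := fun h => he.2 (h ▸ h1)
            tauto
          · rintro ⟨h1, h2, h3⟩
            tauto
        rw [this, Finset.card_erase_of_mem (Finset.mem_sdiff.2 hc), h0]
        omega
      rw [ih _ t' hcard ht' hdiff]
      refine Submodule.eq_of_le_of_finrank_le ?_ ?_
      · rw [← hall t ht c hc.2]
        exact B.M_mono (Finset.erase_subset _ _)
      · exact (B.finrank_M_eq (by omega) (by omega)).le
  obtain ⟨f, hf, -⟩ := exists_fresh (r := r) (m := b) [] (by simp; omega)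
  have hnd : (List.ofFn f).Nodup := List.nodup_ofFn.2 hf
  have h0 : B.W (List.ofFn f) = ⊥ := by
    refine (Submodule.eq_bot_iff _).2 fun v hv => B.nofix _ hnd List.length_ofFn v hv ?_
    intro x y z h _ _ _
    obtain ⟨t₁, ht₁, ht₁'⟩ := Finset.exists_superset_card_eq (s := (List.ofFn f).toFinset) (n := m)
      (by rw [List.toFinset_card_of_nodup hnd, List.length_ofFn]; exact hs) (by simp; omega)
    have hm' : m ≤ ({x, y, z} : Finset (Fin r))ᶜ.card := by
      rw [Finset.card_compl, Fintype.card_fin]
      have : ({x, y, z} : Finset (Fin r)).card ≤ 3 := Finset.card_le_three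
      omega
    obtain ⟨t₂, ht₂, ht₂'⟩ := Finset.exists_subset_card_eq hm'
    have hv' : v ∈ B.M t₂ := by
      rw [heqM _ t₁ t₂ ht₁' ht₂' rfl]; exact B.W_le_M hnd List.length_ofFn ht₁ hv
    refine B.fix_M h ?_ ?_ ?_ hv' <;> intro hmem <;>
      exact Finset.mem_compl.1 (ht₂ hmem) (by simp)
  have := B.rank _ hnd List.length_ofFn
  rw [h0, finrank_bot] at this
  omega

theorem le_finrank_M (hb : 2 ≤ b) : ∀ n, ∀ s : Finset (Fin r), s.card = b + n → b + n + 2 ≤ r →
    b + n - 1 ≤ finrank k (B.M s) := by
  intro n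
  induction n with
  | zero =>
    intro s hs hr
    have h := B.W_le_M s.nodup_toList (by simp [hs]) (s := s) (by simp)
    exact (B.rank _ s.nodup_toList (by simp [hs])).trans (Submodule.finrank_mono h)
  | succ n ih =>
    intro s hs hr
    obtain ⟨a, ha⟩ : s.Nonempty := Finset.card_pos.1 (by omega)
    have hc : (s.erase a).card = b + n := by rw [Finset.card_erase_of_mem ha]; omega
    have h1 := ih (s.erase a) hc (by omega)
    have h2 := B.grow hb (s := s.erase a) (by omega) (by omega) (Finset.notMem_erase a s)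
    rw [Finset.insert_erase ha] at h2
    omega

theorem le_finrank_M' (hb : 2 ≤ b) {s : Finset (Fin r)} (hs : b ≤ s.card) (hr : s.card + 2 ≤ r) :
    s.card - 1 ≤ finrank k (B.M s) := by
  have := B.le_finrank_M hb (s.card - b) s (by omega) (by omega)
  omega

theorem finrank_M_add (hb : 2 ≤ b) {s : Finset (Fin r)} (hs : b ≤ s.card) :
    ∀ n, ∀ t : Finset (Fin r), s ⊆ t → t.card = s.card + n → t.card + 2 ≤ r →
      finrank k (B.M s) + n ≤ finrank k (B.M t) := by
  intro n
  induction n with
  | zero =>
    intro t hst ht _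
    rw [Finset.eq_of_subset_of_card_le hst (by omega)]
    omega
  | succ n ih =>
    intro t hst ht hr
    obtain ⟨a, ha⟩ : (t \ s).Nonempty := Finset.card_pos.1 (by
      rw [Finset.card_sdiff_of_subset hst]; omega)
    rw [Finset.mem_sdiff] at ha
    have hc : (t.erase a).card = s.card + n := by rw [Finset.card_erase_of_mem ha.1]; omega
    have hsub : s ⊆ t.erase a := fun x hx =>
      Finset.mem_erase.2 ⟨fun h => ha.2 (h ▸ hx), hst hx⟩
    have h1 := ih (t.erase a) hsub hc (by omega)
    have h2 := B.grow hb (s := t.erase a) (by omega) (by omega) (Finset.notMem_erase a t)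
    rw [Finset.insert_erase ha.1] at h2
    omega

theorem inf_eq_bot {s : Finset (Fin r)} {l : List (Fin r)} (hl : l.Nodup) (hlb : l.length = b)
    (hd : ∀ x ∈ l, x ∉ s) : B.M s ⊓ B.W l = ⊥ :=
  (Submodule.eq_bot_iff _).2 fun v hv => B.nofix l hl hlb v hv.2
    fun x y z h hx hy hz => B.fix_M h (hd x hx) (hd y hy) (hd z hz) hv.1

theorem finrank_add_le {s : Finset (Fin r)} {l : List (Fin r)} (hl : l.Nodup) (hlb : l.length = b)
    (hd : ∀ x ∈ l, x ∉ s) : finrank k (B.M s) + (b - 1) ≤ finrank k V := by
  have e := Submodule.finrank_sup_add_finrank_inf_eq (B.M s) (B.W l)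
  rw [B.inf_eq_bot hl hlb hd, finrank_bot] at e
  have := (B.M s ⊔ B.W l).finrank_le
  have := B.rank l hl hlb
  omega

include B in
theorem finrank_ge (hb : 2 ≤ b) (hr : 2 * b ≤ r) : r ≤ finrank k V + 2 := by
  obtain ⟨f, hf, -⟩ := exists_fresh (r := r) (m := b) [] (by simp; omega)
  have hnd : (List.ofFn f).Nodup := List.nodup_ofFn.2 hf
  set s := ((List.ofFn f).toFinset)ᶜ with hsdef
  have hc : s.card = r - b := by
    rw [hsdef, Finset.card_compl, List.toFinset_card_of_nodup hnd, List.length_ofFn,
      Fintype.card_fin]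
  have h1 := B.le_finrank_M' hb (s := s) (by omega) (by omega)
  have h2 := B.finrank_add_le (s := s) hnd List.length_ofFn (fun x hx hxs =>
    Finset.mem_compl.1 hxs (List.mem_toFinset.2 hx))
  omega

theorem finrank_M_exact (hb : 2 ≤ b) (hn : finrank k V + 2 ≤ r) {s : Finset (Fin r)}
    (hs : b ≤ s.card) (hs' : s.card + b ≤ r) : finrank k (B.M s) = s.card - 1 := by
  refine le_antisymm ?_ (B.le_finrank_M' hb hs (by omega))
  obtain ⟨u, hu, huc⟩ := Finset.exists_subset_card_eq (s := sᶜ) (n := b)
    (by rw [Finset.card_compl, Fintype.card_fin]; omega)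
  have hst : s ⊆ uᶜ := fun x hx => Finset.mem_compl.2 fun hxu => Finset.mem_compl.1 (hu hxu) hx
  have hc : (uᶜ).card = r - b := by rw [Finset.card_compl, Fintype.card_fin, huc]
  have h1 := B.finrank_M_add hb hs (r - b - s.card) uᶜ hst (by omega) (by omega)
  have h2 := B.finrank_add_le (s := uᶜ) (l := u.toList) u.nodup_toList (by simp [huc])
    (fun x hx hxs => Finset.mem_compl.1 hxs (Finset.mem_toList.1 hx))
  omega

theorem W_eq_M (hb : 2 ≤ b) (hr : 2 * b ≤ r) (hn : finrank k V + 2 ≤ r) {l : List (Fin r)}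
    (hl : l.Nodup) (hlb : l.length = b) : B.W l = B.M l.toFinset := by
  have hc : l.toFinset.card = b := by rw [List.toFinset_card_of_nodup hl, hlb]
  refine Submodule.eq_of_le_of_finrank_le (B.W_le_M hl hlb subset_rfl) ?_
  rw [B.finrank_M_exact hb hn (by omega) (by omega), hc]
  exact B.rank l hl hlb

end Blocks

end TriSys

end Cfsg.Agent.AltSection
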