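import Cfsg.Agent.Lib.AltSection.TriSys

/-!
The lifts of the double transpositions on four points.
-/

set_option autoImplicit false
set_option linter.unusedSimpArgs false
set_option linter.unusedSectionVars false

namespace Cfsg.Agent.AltSection

namespace TriSys

variable {k : Type*} [Field k] {V : Type*} [AddCommGroup V] [Module k V] {r : ℕ}
  (S : TriSys k V r)

/-- All double transpositions square to `κ`. -/
def Kap (κ : k) : Prop := ∀ a b c d, [a, b, c, d].Nodup → S.Tq a b c d * S.Tq a b c d = κ • 1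

theorem Kap.comap {κ : k} (h : S.Kap κ) {m : ℕ} (f : Fin m → Fin r) (hf : Function.Injective f) :
    (S.comap f hf).Kap κ := fun a b c d hn => h (f a) (f b) (f c) (f d) (by simpa using hn.map hf)

theorem Kap.sub {κ : k} (h : S.Kap κ) (U : Submodule k V) (hU : S.Inv U) : (S.sub U hU).Kap κ := by
  intro a b c d hn
  have e := h a b c d hn
  simp only [List.nodup_cons, List.mem_cons, List.not_mem_nil, or_false, not_or] at hn
  obtain ⟨⟨hab, hac, had⟩, ⟨hbc, hbd⟩, hcd, -⟩ := hn
  apply LinearMap.ext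
  intro v
  apply Subtype.ext
  simpa [Tq, S.sub_apply U hU (show D3 a b c from ⟨hab, hbc, Ne.symm hac⟩),
    S.sub_apply U hU (show D3 b c d from ⟨hbc, hcd, Ne.symm hbd⟩)] using
    LinearMap.congr_fun e (v : V)

theorem D3_of_nodup {a b c d : Fin r} (h : [a, b, c, d].Nodup) :
    D3 a b c ∧ D3 b c d ∧ [a, c, d, b].Nodup ∧ [a, d, b, c].Nodup := by
  simp only [List.nodup_cons, List.mem_cons, List.not_mem_nil, or_false, not_or] at h
  obtain ⟨⟨hab, hac, had⟩, ⟨hbc, hbd⟩, hcd, -⟩ := h
  refine ⟨⟨hab, hbc, Ne.symm hac⟩, ⟨hbc, hcd, Ne.symm hbd⟩, ?_, ?_⟩ <;>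
    simp [hab, hac, had, hbc, hbd, hcd, Ne.symm hbc, Ne.symm hbd, Ne.symm hcd]

theorem Tq_map {σ : Equiv.Perm (Fin r)} {T : (Module.End k V)ˣ} (hT : S.Moves σ T)
    {a b c d : Fin r} (h : [a, b, c, d].Nodup) :
    (T : Module.End k V) * S.Tq a b c d = S.Tq (σ a) (σ b) (σ c) (σ d) * T := by
  obtain ⟨h1, h2, -, -⟩ := D3_of_nodup h
  rw [Tq, Tq, ← mul_assoc, hT a b c h1, mul_assoc, hT b c d h2, ← mul_assoc]

theorem conj_Tq {a b c d : Fin r} (h : [a, b, c, d].Nodup) :
    S.L b c d * S.Tq a b c d = S.Tq a c d b * S.L b c d := by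
  obtain ⟨h1, h2, -, -⟩ := D3_of_nodup h
  simp only [List.nodup_cons, List.mem_cons, List.not_mem_nil, or_false, not_or] at h
  obtain ⟨⟨hab, hac, had⟩, -, -, -⟩ := h
  have e := S.Tq_map (S.moves_cyc h2) (a := a) (b := b) (c := c) (d := d)
    (by simp [hab, hac, had, h2.1, h2.2.1, h2.2.2.symm])
  rwa [cyc_apply_of_ne hab hac had, cyc_apply_fst h2, cyc_apply_snd h2, cyc_apply_thd h2] at e

theorem Tq_two {a b c d : Fin r} (h : [a, b, c, d].Nodup) :
    S.Tq a c d b = S.L b c d * S.L a b c := by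
  obtain ⟨h1, h2, -, -⟩ := D3_of_nodup h
  have e := congr($(S.conj_Tq h) * S.L b d c)
  rw [Tq, mul_assoc, mul_assoc, S.mul_inv b c d h2, mul_one, mul_assoc, S.mul_inv b c d h2,
    mul_one] at e
  exact e.symm

theorem Tq_three {a b c d : Fin r} (h : [a, b, c, d].Nodup) :
    S.Tq a d b c = S.L b c d * S.L b c d * S.L a b c * S.L b d c := by
  obtain ⟨h1, h2, h3, -⟩ := D3_of_nodup h
  have e := congr($(S.conj_Tq h3) * S.L b d c)
  rw [← S.rot b c d h2, mul_assoc (S.Tq a d b c), S.mul_inv b c d h2, mul_one, S.Tq_two h] at e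
  rw [← e]
  simp only [mul_assoc]

theorem four_group {κ : k} (hκ : S.Kap κ) (hκ1 : κ * κ = 1) {a b c d : Fin r}
    (h : [a, b, c, d].Nodup) :
    S.Tq a b c d * S.Tq a c d b = S.Tq a d b c ∧
      S.Tq a c d b * S.Tq a b c d = κ • S.Tq a d b c := by
  obtain ⟨h1, h2, h3, h4⟩ := D3_of_nodup h
  have s2 := S.Tq_two h
  have s3 := S.Tq_three h
  have k1 := hκ a b c d h
  have k2 := hκ a c d b h3
  rw [s2] at k2
  rw [Tq] at k1
  set x := S.L a b c with hx
  set y := S.L b c d with hy
  have hxi : S.L a c b = x * x := S.swap_eq_sq h1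
  have hyi : S.L b d c = y * y := S.swap_eq_sq h2
  have x3 : x * x * x = 1 := S.cube a b c h1
  have y3 : y * y * y = 1 := S.cube b c d h2
  have A : y * y = κ • (x * y * x) := by
    have e := congr($k1 * (y * y))
    rw [smul_mul_assoc, one_mul, show x * y * (x * y) * (y * y) = x * y * x * (y * y * y) by
      simp only [mul_assoc], y3, mul_one] at e
    rw [e, smul_smul, hκ1, one_smul]
  have B : x * x * (y * y) = κ • (y * x) := by
    have e := congr((x * x * (y * y)) * $k2)
    rw [mul_smul_comm, mul_one, show x * x * (y * y) * (y * x * (y * x))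
      = x * x * (y * y * y) * x * y * x by simp only [mul_assoc], y3, mul_one, x3, one_mul] at e
    rw [e, smul_smul, hκ1, one_smul]
  have main : x * y * (y * x) = y * y * x * (y * y) := by
    calc x * y * (y * x) = (κ * κ) • (x * y * (y * x)) := by rw [hκ1, one_smul]
      _ = κ • (x * y * (κ • (y * x))) := by rw [mul_smul_comm, smul_smul]
      _ = κ • (x * y * (x * x * (y * y))) := by rw [B]
      _ = κ • (x * y * x) * x * (y * y) := by simp only [smul_mul_assoc, mul_assoc]
      _ = y * y * x * (y * y) := by rw [← A]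
  have e1 : S.Tq a b c d * S.Tq a c d b = S.Tq a d b c := by
    rw [s2, s3, Tq, hyi]; exact main
  refine ⟨e1, ?_⟩
  have k3 := hκ a d b c h4
  rw [← e1] at k3
  have k1' := hκ a b c d h
  have k2' := hκ a c d b h3
  set t := S.Tq a b c d
  set u := S.Tq a c d b
  have e := congr(t * $k3 * u)
  rw [show t * (t * u * (t * u)) * u = t * t * (u * t) * (u * u) by simp only [mul_assoc], k1',
    k2'] at e
  simp only [mul_smul_comm, smul_mul_assoc, mul_one, one_mul, smul_smul, hκ1, one_smul] at e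
  rw [e, ← e1]

end TriSys

end Cfsg.Agent.AltSection
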