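import Cfsg.Agent.Lib.AltSection.Bound
import Mathlib.GroupTheory.Perm.Cycle.Type

/-!
The canonical lifts of the three-cycles in a representation of a cover of an alternating group
whose kernel acts by scalars.
-/

set_option autoImplicit false
set_option linter.unusedSimpArgs false
set_option linter.unusedSectionVars false

namespace Cfsg.Agent.AltSection

open Equiv Module

theorem commute_cyc {r : ℕ} {x y z u v : Fin r} (h : [x, y, z, u, v].Nodup) :
    cyc x y z = cyc x y u * cyc x z v * (cyc x y u)⁻¹ * (cyc x z v)⁻¹ := by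
  simp only [List.nodup_cons, List.mem_cons, List.not_mem_nil, or_false, not_or] at h
  obtain ⟨⟨hxy, hxz, hxu, hxv⟩, ⟨hyz, hyu, hyv⟩, ⟨hzu, hzv⟩, huv, -⟩ := h
  have d : D3 x y z := ⟨hxy, hyz, Ne.symm hxz⟩
  have p : D3 x y u := ⟨hxy, hyu, Ne.symm hxu⟩
  have q : D3 x z v := ⟨hxz, hzv, Ne.symm hxv⟩
  rw [eq_mul_inv_iff_mul_eq, eq_mul_inv_iff_mul_eq]
  ext w
  by_cases h1 : w = x
  · subst h1
    simp [Perm.mul_apply, cyc_apply_fst p, cyc_apply_fst q, cyc_apply_of_ne (Ne.symm hxy) hyz hyv,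
      cyc_apply_snd d, cyc_apply_of_ne (Ne.symm hxz) (Ne.symm hyz) hzu]
  by_cases h2 : w = y
  · subst h2
    simp [Perm.mul_apply, cyc_apply_snd p, cyc_apply_of_ne (Ne.symm hxy) hyz hyv,
      cyc_apply_of_ne (Ne.symm hxu) (Ne.symm hzu) huv,
      cyc_apply_of_ne (Ne.symm hxu) (Ne.symm hyu) (Ne.symm hzu)]
  by_cases h3 : w = z
  · subst h3
    simp [Perm.mul_apply, cyc_apply_snd q, cyc_apply_of_ne (Ne.symm hxz) (Ne.symm hyz) hzu,
      cyc_apply_of_ne (Ne.symm hxv) (Ne.symm hyv) (Ne.symm huv),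
      cyc_apply_of_ne (Ne.symm hxv) (Ne.symm hyv) (Ne.symm hzv)]
  by_cases h4 : w = u
  · subst h4
    simp [Perm.mul_apply, cyc_apply_thd p, cyc_apply_fst q, cyc_apply_of_ne h1 h3 huv,
      cyc_apply_thd d]
  by_cases h5 : w = v
  · subst h5
    simp [Perm.mul_apply, cyc_apply_thd q, cyc_apply_fst p, cyc_apply_fst d,
      cyc_apply_of_ne h1 h2 (Ne.symm huv)]
  simp [Perm.mul_apply, cyc_apply_of_ne h1 h2 h4, cyc_apply_of_ne h1 h3 h5,
    cyc_apply_of_ne h1 h2 h3]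

theorem cyc5_eq {r : ℕ} {a b c d e : Fin r} (h : [a, b, c, d, e].Nodup) :
    (cyc a b c * cyc c d e) ^ 5 = 1 ∧
      cyc a c e * cyc e b d = cyc a b c * cyc c d e * (cyc a b c * cyc c d e) := by
  have h' : [a, c, e, b, d].Nodup := by
    simp only [List.nodup_cons, List.mem_cons, List.not_mem_nil, or_false, not_or] at h ⊢
    obtain ⟨⟨hab, hac, had, hae⟩, ⟨hbc, hbd, hbe⟩, ⟨hcd, hce⟩, hde, -⟩ := h
    exact ⟨⟨hac, hae, hab, had⟩, ⟨hce, Ne.symm hbc, hcd⟩, ⟨Ne.symm hbe, Ne.symm hde⟩, hbd, by simp⟩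
  obtain ⟨d1, d2, q1, q2, q3, q4, q5⟩ := TriSys.cyc5 h
  obtain ⟨d3, d4, p1, p2, p3, p4, p5⟩ := TriSys.cyc5 h'
  have off : ∀ w, w ≠ a → w ≠ b → w ≠ c → w ≠ d → w ≠ e → (cyc a b c * cyc c d e) w = w := by
    intro w h1 h2 h3 h4 h5
    rw [Perm.mul_apply, cyc_apply_of_ne h3 h4 h5, cyc_apply_of_ne h1 h2 h3]
  constructor
  · refine Equiv.ext fun w => ?_
    by_cases h1 : w = a
    · subst h1; simp [pow_succ, Perm.mul_apply] at q1 q2 q3 q4 q5 ⊢; simp [q1, q2, q3, q4, q5]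
    by_cases h2 : w = b
    · subst h2; simp [pow_succ, Perm.mul_apply] at q1 q2 q3 q4 q5 ⊢; simp [q1, q2, q3, q4, q5]
    by_cases h3 : w = c
    · subst h3; simp [pow_succ, Perm.mul_apply] at q1 q2 q3 q4 q5 ⊢; simp [q1, q2, q3, q4, q5]
    by_cases h4 : w = d
    · subst h4; simp [pow_succ, Perm.mul_apply] at q1 q2 q3 q4 q5 ⊢; simp [q1, q2, q3, q4, q5]
    by_cases h5 : w = e
    · subst h5; simp [pow_succ, Perm.mul_apply] at q1 q2 q3 q4 q5 ⊢; simp [q1, q2, q3, q4, q5]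
    have := off w h1 h2 h3 h4 h5
    simp [pow_succ, Perm.mul_apply] at this ⊢
    simp [this]
  · refine Equiv.ext fun w => ?_
    rw [Perm.mul_apply (cyc a b c * cyc c d e) (cyc a b c * cyc c d e)]
    by_cases h1 : w = a
    · subst h1; rw [p1, q1, q2]
    by_cases h2 : w = b
    · subst h2; rw [p4, q2, q3]
    by_cases h3 : w = c
    · subst h3; rw [p2, q3, q4]
    by_cases h4 : w = d
    · subst h4; rw [p5, q4, q5]
    by_cases h5 : w = e
    · subst h5; rw [p3, q5, q1]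
    rw [off w h1 h2 h3 h4 h5, off w h1 h2 h3 h4 h5, Perm.mul_apply, cyc_apply_of_ne h5 h2 h4,
      cyc_apply_of_ne h1 h3 h5]

theorem cyc4_sq {r : ℕ} {a b c d : Fin r} (h : [a, b, c, d].Nodup) :
    cyc a b c * cyc b c d * (cyc a b c * cyc b c d) = 1 := by
  obtain ⟨d1, d2, -, -⟩ := TriSys.D3_of_nodup h
  simp only [List.nodup_cons, List.mem_cons, List.not_mem_nil, or_false, not_or] at h
  obtain ⟨⟨hab, hac, had⟩, ⟨hbc, hbd⟩, hcd, -⟩ := h
  refine Equiv.ext fun w => ?_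
  by_cases h1 : w = a
  · subst h1
    simp [Perm.mul_apply, cyc_apply_fst d1, cyc_apply_fst d2, cyc_apply_of_ne hab hac had,
      cyc_apply_thd d1]
  by_cases h2 : w = b
  · subst h2
    simp [Perm.mul_apply, cyc_apply_fst d2, cyc_apply_thd d1, cyc_apply_of_ne hab hac had,
      cyc_apply_fst d1]
  by_cases h3 : w = c
  · subst h3
    simp [Perm.mul_apply, cyc_apply_snd d2, cyc_apply_thd d2,
      cyc_apply_of_ne (Ne.symm had) (Ne.symm hbd) (Ne.symm hcd), cyc_apply_snd d1]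
  by_cases h4 : w = d
  · subst h4
    simp [Perm.mul_apply, cyc_apply_thd d2, cyc_apply_snd d1, cyc_apply_snd d2,
      cyc_apply_of_ne (Ne.symm had) (Ne.symm hbd) (Ne.symm hcd)]
  simp [Perm.mul_apply, cyc_apply_of_ne h2 h3 h4, cyc_apply_of_ne h1 h2 h3]

theorem cyc_conj {r : ℕ} (σ : Perm (Fin r)) {a b c : Fin r} (h : D3 a b c) :
    σ * cyc a b c * σ⁻¹ = cyc (σ a) (σ b) (σ c) := by
  rw [cyc, cyc, swap_apply_apply, swap_apply_apply]
  group

theorem cyc_rot {r : ℕ} {a b c : Fin r} (h : D3 a b c) : cyc a b c = cyc b c a := by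
  refine Equiv.ext fun w => ?_
  by_cases h1 : w = a
  · subst h1; rw [cyc_apply_fst h, cyc_apply_thd h.rot]
  by_cases h2 : w = b
  · subst h2; rw [cyc_apply_snd h, cyc_apply_fst h.rot]
  by_cases h3 : w = c
  · subst h3; rw [cyc_apply_thd h, cyc_apply_snd h.rot]
  rw [cyc_apply_of_ne h1 h2 h3, cyc_apply_of_ne h2 h3 h1]

theorem cyc_swap {r : ℕ} {a b c : Fin r} (h : D3 a b c) : cyc a c b = (cyc a b c)⁻¹ := by
  rw [eq_inv_iff_mul_eq_one]
  refine Equiv.ext fun w => ?_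
  by_cases h1 : w = a
  · subst h1; rw [Perm.mul_apply, cyc_apply_fst h, cyc_apply_thd h.swap]; rfl
  by_cases h2 : w = b
  · subst h2; rw [Perm.mul_apply, cyc_apply_snd h, cyc_apply_snd h.swap]; rfl
  by_cases h3 : w = c
  · subst h3; rw [Perm.mul_apply, cyc_apply_thd h, cyc_apply_fst h.swap]; rfl
  rw [Perm.mul_apply, cyc_apply_of_ne h1 h2 h3, cyc_apply_of_ne h1 h3 h2]; rfl

theorem cyc_cube {r : ℕ} {a b c : Fin r} (h : D3 a b c) :
    cyc a b c * cyc a b c * cyc a b c = 1 := by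
  have e := (cyc_isThreeCycle h).orderOf
  have := pow_orderOf_eq_one (cyc a b c)
  rw [e] at this
  simpa [pow_succ] using this

section

variable {k : Type} [Field k] {V : Type} [AddCommGroup V] [Module k V] [Nontrivial V]
  {G : Type} [Group G] {r : ℕ} (π : G →* Perm (Fin r)) (ρ : G →* Module.End k V)

/-- A canonical lift of a three-cycle. -/
def IsL (a b c : Fin r) (A : Module.End k V) : Prop :=
  A * A * A = 1 ∧ ∃ g h : G, π g = cyc a b c ∧ ρ g = A ∧
    π h * cyc a b c * (π h)⁻¹ = (cyc a b c)⁻¹ ∧ ρ (h * g * h⁻¹) * A = 1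

variable {π ρ} (hker : ∀ g, π g = 1 → ∃ c : k, ρ g = c • 1)
  (hsurj : ∀ σ ∈ alternatingGroup (Fin r), ∃ g, π g = σ) (hr : 8 ≤ r)

theorem scalar_inj {x y : k} (h : x • (1 : Module.End k V) = y • 1) : x = y := by
  obtain ⟨v, hv⟩ := exists_ne (0 : V)
  exact smul_left_injective k hv (LinearMap.congr_fun h v)

include hker in
theorem eq_smul_of_eq {g g' : G} (h : π g = π g') : ∃ c : k, ρ g' = c • ρ g := by
  obtain ⟨c, hc⟩ := hker (g⁻¹ * g') (by simp [h])
  refine ⟨c, ?_⟩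
  calc ρ g' = ρ (g * (g⁻¹ * g')) := by rw [mul_inv_cancel_left]
    _ = c • ρ g := by rw [map_mul, hc, mul_smul_comm, mul_one]

include hker hsurj hr in
theorem exists_isL {a b c : Fin r} (h : D3 a b c) : ∃ A, IsL π ρ a b c A := by
  obtain ⟨e, he, he'⟩ := exists_fresh (r := r) (m := 2) [a, b, c] (by simp; omega)
  have e0 := he' 0; have e1 := he' 1
  simp only [List.mem_cons, List.not_mem_nil, or_false, not_or] at e0 e1
  set τ := swap b c * swap (e 0) (e 1)
  obtain ⟨t, ht⟩ := hsurj τ (by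
    simp [τ, Perm.mem_alternatingGroup, h.2.1, he.eq_iff])
  obtain ⟨g, hg⟩ := hsurj _ (cyc_mem_alt h)
  have ha : τ a = a := by
    simp [τ, swap_apply_of_ne_of_ne, h.1, h.2.2.symm, Ne.symm e0.1, Ne.symm e1.1]
  have hb : τ b = c := by
    simp [τ, swap_apply_of_ne_of_ne, Ne.symm e0.2.1, Ne.symm e1.2.1]
  have hc : τ c = b := by
    simp [τ, swap_apply_of_ne_of_ne, Ne.symm e0.2.2, Ne.symm e1.2.2]
  have conjc : τ * cyc a b c * τ⁻¹ = (cyc a b c)⁻¹ := by
    rw [cyc_conj τ h, ha, hb, hc, cyc_swap h]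
  have hτ2 : τ * τ = 1 := by
    refine Equiv.ext fun w => ?_
    simp only [τ, Perm.mul_apply, swap_apply_def, Perm.one_apply]
    grind
  obtain ⟨c2, hc2⟩ := hker (t * t) (by rw [map_mul, ht, hτ2])
  set m := g⁻¹ * (t * g * t⁻¹) with hm
  have hπm : π m = cyc a b c := by
    rw [hm, map_mul, map_inv, map_mul, map_mul, map_inv, hg, ht, conjc]
    rw [eq_comm, ← mul_inv_rev, eq_inv_iff_mul_eq_one, ← mul_assoc]
    exact cyc_cube h
  have hflip : ρ (t * m * t⁻¹) * ρ m = 1 := by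
    have hc' : ρ (t * t) * ρ g = ρ g * ρ (t * t) := by
      rw [hc2, smul_mul_assoc, one_mul, mul_smul_comm, mul_one]
    have hcomm : ρ (t * t * g * (t * t)⁻¹) = ρ g := by
      rw [map_mul, map_mul, hc', mul_assoc, ← map_mul ρ (t * t), mul_inv_cancel, map_one, mul_one]
    have e' : t * m * t⁻¹ * m = (t * g * t⁻¹)⁻¹ * (t * t * g * (t * t)⁻¹) * g⁻¹ * (t * g * t⁻¹) := by
      rw [hm]; group
    rw [← map_mul, e', map_mul, map_mul, map_mul, hcomm, mul_assoc (ρ (t * g * t⁻¹)⁻¹),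
      ← map_mul ρ g, mul_inv_cancel, map_one, mul_one, ← map_mul, inv_mul_cancel, map_one]
  obtain ⟨μ, hμ⟩ := hker (m * m * m) (by rw [map_mul, map_mul, hπm, cyc_cube h])
  have hμ2 : μ * μ = 1 := by
    have e3 : ρ (t * (m * m * m) * t⁻¹) * ρ (m * m * m) = 1 := by
      have sw : Commute (ρ (t * m * t⁻¹)) (ρ m) := by
        have h' : ρ m * ρ (t * m * t⁻¹) = 1 := by
          have hinv : ρ (t * m * t⁻¹) = ρ m⁻¹ := by
            have := congr($hflip * ρ m⁻¹)
            rwa [mul_assoc, ← map_mul ρ m, mul_inv_cancel, map_one, mul_one, one_mul] at this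
          rw [hinv, ← map_mul, mul_inv_cancel, map_one]
        exact hflip.trans h'.symm
      have h3 := sw.mul_pow 3
      rw [hflip, one_pow, ← map_pow, ← map_pow, conj_pow] at h3
      simpa [pow_succ] using h3.symm
    rw [map_mul ρ (t * (m * m * m)) t⁻¹, map_mul ρ t (m * m * m), hμ] at e3
    simp only [mul_smul_comm, smul_mul_assoc, mul_one, one_mul, smul_smul, ← map_mul,
      mul_inv_cancel, map_one] at e3
    exact scalar_inj (e3.trans (one_smul k _).symm)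
  refine ⟨ρ (m * m * m * m), ?_, m * m * m * m, t, ?_, rfl, by rw [ht]; exact conjc, ?_⟩
  · simp only [← map_mul]
    rw [show m * m * m * m * (m * m * m * m) * (m * m * m * m)
      = (m * m * m) * (m * m * m) * ((m * m * m) * (m * m * m)) by simp only [mul_assoc],
      map_mul, map_mul, hμ, smul_mul_smul_comm, one_mul, hμ2, one_smul, one_mul]
  · rw [map_mul, map_mul, map_mul, hπm, cyc_cube h, one_mul]
  · have e' : t * (m * m * m * m) * t⁻¹ = (t * (m * m * m) * t⁻¹) * (t * m * t⁻¹) := by group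
    rw [e', map_mul ρ (t * (m * m * m) * t⁻¹) (t * m * t⁻¹), map_mul ρ (t * (m * m * m)) t⁻¹,
      map_mul ρ t (m * m * m), map_mul ρ (m * m * m) m, hμ]
    simp only [mul_smul_comm, smul_mul_assoc, mul_one, one_mul, smul_smul]
    rw [← map_mul ρ t t⁻¹, mul_inv_cancel, map_one, one_mul, hflip, hμ2, one_smul]

theorem conj_hom {g : G} {μ₁ μ₂ : k} {w₁ w₂ : G} (h1 : ρ (w₁ * g * w₁⁻¹) = μ₁ • ρ g)
    (h2 : ρ (w₂ * g * w₂⁻¹) = μ₂ • ρ g) : ρ (w₁ * w₂ * g * (w₁ * w₂)⁻¹) = (μ₁ * μ₂) • ρ g := by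
  have e : w₁ * w₂ * g * (w₁ * w₂)⁻¹ = w₁ * (w₂ * g * w₂⁻¹) * w₁⁻¹ := by group
  rw [e, map_mul, map_mul, h2, mul_smul_comm, smul_mul_assoc, ← map_mul, ← map_mul, h1, smul_smul,
    mul_comm μ₂]

theorem conj_inv {g w : G} {μ : k} (h : ρ (w * g * w⁻¹) = μ • ρ g) (hμ : μ ≠ 0) :
    ρ (w⁻¹ * g * w⁻¹⁻¹) = μ⁻¹ • ρ g := by
  have e : ρ g = μ • ρ (w⁻¹ * g * w⁻¹⁻¹) := by
    calc ρ g = ρ (w⁻¹ * (w * g * w⁻¹) * w⁻¹⁻¹) := by group
      _ = μ • ρ (w⁻¹ * g * w⁻¹⁻¹) := by
        rw [map_mul, map_mul, h, mul_smul_comm, smul_mul_assoc, ← map_mul, ← map_mul]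
  conv_rhs => rw [e]
  rw [smul_smul, inv_mul_cancel₀ hμ, one_smul]

theorem conj_hom_one {g w₁ w₂ : G} (h1 : ρ (w₁ * g * w₁⁻¹) = ρ g) (h2 : ρ (w₂ * g * w₂⁻¹) = ρ g) :
    ρ (w₁ * w₂ * g * (w₁ * w₂)⁻¹) = ρ g := by
  have := conj_hom (μ₁ := (1 : k)) (μ₂ := 1) (h1.trans (one_smul k _).symm)
    (h2.trans (one_smul k _).symm)
  rwa [one_mul, one_smul] at this

theorem conj_inv_one {g w : G} (h : ρ (w * g * w⁻¹) = ρ g) : ρ (w⁻¹ * g * w⁻¹⁻¹) = ρ g := by
  have := conj_inv (μ := (1 : k)) (h.trans (one_smul k _).symm) one_ne_zero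
  rwa [inv_one, one_smul] at this

include hker hsurj hr in
theorem conj_fixed {a b c : Fin r} (h : D3 a b c) {g : G} (hg : π g = cyc a b c) {u : G}
    (hu : π u * cyc a b c = cyc a b c * π u) (hev : π u ∈ alternatingGroup (Fin r)) :
    ρ (u * g * u⁻¹) = ρ g := by
  classical
  have hg0 : ρ g ≠ 0 := fun h0 => by
    have := map_mul ρ g g⁻¹
    rw [mul_inv_cancel, map_one, h0, zero_mul] at this
    exact one_ne_zero this
  have ex : ∀ w : G, π w * cyc a b c = cyc a b c * π w →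
      ∃ μ : k, μ ≠ 0 ∧ ρ (w * g * w⁻¹) = μ • ρ g := by
    intro w hw
    obtain ⟨μ, hμ⟩ := eq_smul_of_eq (ρ := ρ) hker (g := g) (g' := w * g * w⁻¹)
      (by rw [map_mul, map_mul, map_inv, hg, hw, mul_inv_cancel_right])
    refine ⟨μ, fun h0 => ?_, hμ⟩
    rw [h0, zero_smul] at hμ
    have := map_mul ρ (w * g * w⁻¹) (w * g * w⁻¹)⁻¹
    rw [mul_inv_cancel, map_one, hμ, zero_mul] at this
    exact one_ne_zero this
  -- the set of permutations with a fixing lift
  let Fix : Perm (Fin r) → Prop := fun σ => ∀ w, π w = σ → ρ (w * g * w⁻¹) = ρ g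
  have fix_of_one : ∀ w, ρ (w * g * w⁻¹) = ρ g → Fix (π w) := by
    intro w hw w' hw'
    obtain ⟨s, hs⟩ := hker (w⁻¹ * w') (by simp [hw'])
    have hz : ρ (w⁻¹ * w' * g * (w⁻¹ * w')⁻¹) = ρ g := by
      have := map_mul ρ (w⁻¹ * w') (w⁻¹ * w')⁻¹
      rw [mul_inv_cancel, map_one, hs, smul_mul_assoc, one_mul] at this
      rw [map_mul, map_mul, hs, smul_mul_assoc, one_mul, smul_mul_assoc, ← mul_smul_comm, ← this,
        mul_one]
    have := conj_hom_one hw hz
    rwa [mul_inv_cancel_left] at this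
  have cyc_fix : ∀ {x y z : Fin r}, D3 x y z → x ∉ [a, b, c] → y ∉ [a, b, c] → z ∉ [a, b, c] →
      Fix (cyc x y z) := by
    intro x y z hd hx hy hz
    simp only [List.mem_cons, List.not_mem_nil, or_false, not_or] at hx hy hz
    obtain ⟨e, he, he'⟩ := exists_fresh (r := r) (m := 2) [a, b, c, x, y, z] (by simp; omega)
    have e0 := he' 0; have e1 := he' 1
    simp only [List.mem_cons, List.not_mem_nil, or_false, not_or] at e0 e1
    have hp : D3 x y (e 0) := ⟨hd.1, Ne.symm e0.2.2.2.2.1, e0.2.2.2.1⟩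
    have hq : D3 x z (e 1) := ⟨hd.2.2.symm, Ne.symm e1.2.2.2.2.2, e1.2.2.2.1⟩
    have hcomm : ∀ {p q s : Fin r}, D3 p q s → p ∉ [a, b, c] → q ∉ [a, b, c] → s ∉ [a, b, c] →
        cyc p q s * cyc a b c = cyc a b c * cyc p q s := by
      intro p q s _ hp hq hs
      simp only [List.mem_cons, List.not_mem_nil, or_false, not_or] at hp hq hs
      have e' := cyc_conj (cyc p q s) h
      rw [cyc_apply_of_ne (Ne.symm hp.1) (Ne.symm hq.1) (Ne.symm hs.1),
        cyc_apply_of_ne (Ne.symm hp.2.1) (Ne.symm hq.2.1) (Ne.symm hs.2.1),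
        cyc_apply_of_ne (Ne.symm hp.2.2) (Ne.symm hq.2.2) (Ne.symm hs.2.2),
        mul_inv_eq_iff_eq_mul] at e'
      exact e'
    obtain ⟨P, hP⟩ := hsurj _ (cyc_mem_alt hp)
    obtain ⟨Q, hQ⟩ := hsurj _ (cyc_mem_alt hq)
    obtain ⟨α, hα0, hα⟩ := ex P (by
      rw [hP]; exact hcomm hp (by simp [hx]) (by simp [hy]) (by simp [e0]))
    obtain ⟨β, hβ0, hβ⟩ := ex Q (by
      rw [hQ]; exact hcomm hq (by simp [hx]) (by simp [hz]) (by simp [e1]))
    have hPQ := conj_hom (conj_hom (conj_hom hα hβ) (conj_inv hα hα0)) (conj_inv hβ hβ0)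
    rw [show α * β * α⁻¹ * β⁻¹ = 1 by field_simp, one_smul] at hPQ
    have := fix_of_one _ hPQ
    rwa [map_mul, map_mul, map_mul, map_inv, map_inv, hP, hQ, ← commute_cyc (by
      simp [hd.1, hd.2.1, hd.2.2.symm, he.eq_iff, Ne.symm e0.2.2.2.1, Ne.symm e1.2.2.2.1,
        Ne.symm e0.2.2.2.2.1, Ne.symm e1.2.2.2.2.1, Ne.symm e0.2.2.2.2.2,
        Ne.symm e1.2.2.2.2.2])] at this
  have one_fix : Fix 1 := by
    have := fix_of_one 1 (by simp)
    rwa [map_one] at this
  have off_fix : ∀ σ ∈ alternatingGroup (Fin r), σ a = a → σ b = b → σ c = c → Fix σ := by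
    intro σ hσ ha hb hc
    let P : Fin r → Prop := fun x => x ≠ a ∧ x ≠ b ∧ x ≠ c
    have hmem : ∀ x, σ x ≠ x → P x := fun x hx =>
      ⟨fun h => hx (by rw [h, ha]), fun h => hx (by rw [h, hb]), fun h => hx (by rw [h, hc])⟩
    have hiff : ∀ x, P (σ x) ↔ P x := fun x => by
      have q : ∀ {y}, σ y = y → (σ x = y ↔ x = y) := fun {y} hy =>
        ⟨fun h => σ.injective (h.trans hy.symm), fun h => by rw [h, hy]⟩
      simp [P, q ha, q hb, q hc]
    set τ : Perm (Subtype P) := σ.subtypePerm hiff with hτ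
    have hofs : Perm.ofSubtype τ = σ := Perm.ofSubtype_subtypePerm hiff hmem
    have hτalt : τ ∈ alternatingGroup (Subtype P) := by
      rw [Perm.mem_alternatingGroup, ← Perm.sign_ofSubtype, hofs]
      exact Perm.mem_alternatingGroup.1 hσ
    rw [← hofs]
    clear_value τ
    clear hofs hτ
    rw [← Perm.closure_three_cycles_eq_alternating] at hτalt
    induction hτalt using Subgroup.closure_induction with
    | mem t ht =>
      have h3 : (Perm.ofSubtype t).IsThreeCycle := by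
        rw [Perm.IsThreeCycle, Perm.cycleType_ofSubtype]; exact ht
      obtain ⟨x, y, z, hd, he⟩ := exists_eq_cyc h3
      have hP : ∀ w, cyc x y z w ≠ w → P w := fun w hw => by
        by_contra hw'
        rw [← he] at hw
        exact hw (Perm.ofSubtype_apply_of_not_mem t hw')
      rw [he]
      refine cyc_fix hd ?_ ?_ ?_ <;>
        simp only [List.mem_cons, List.not_mem_nil, or_false, not_or]
      · exact hP x (by rw [cyc_apply_fst hd]; exact hd.1.symm)
      · exact hP y (by rw [cyc_apply_snd hd]; exact hd.2.1.symm)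
      · exact hP z (by rw [cyc_apply_thd hd]; exact hd.2.2.symm)
    | one => rw [map_one]; exact one_fix
    | mul t t' ht' ht'' f1 f2 =>
      rw [map_mul]
      have ev : ∀ {t : Perm (Subtype P)}, t ∈ Subgroup.closure {σ | Perm.IsThreeCycle σ} →
          Perm.ofSubtype t ∈ alternatingGroup (Fin r) := by
        intro t ht
        rw [Perm.closure_three_cycles_eq_alternating, Perm.mem_alternatingGroup] at ht
        rwa [Perm.mem_alternatingGroup, Perm.sign_ofSubtype]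
      obtain ⟨w, hw⟩ := hsurj _ (ev ht')
      obtain ⟨w', hw'⟩ := hsurj _ (ev ht'')
      have := conj_hom_one (f1 w hw) (f2 w' hw')
      have := fix_of_one _ this
      rwa [map_mul, hw, hw'] at this
    | inv t ht f =>
      intro w hw
      have hw' : π w⁻¹ = Perm.ofSubtype t := by rw [map_inv, hw, map_inv, inv_inv]
      have := conj_inv_one (f w⁻¹ hw')
      simpa using this
  -- decompose the centralising permutation
  have hpu : ∀ x, π u (cyc a b c x) = cyc a b c (π u x) := fun x => Equiv.ext_iff.1 hu x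
  have hua : π u a = a ∨ π u a = b ∨ π u a = c := by
    by_contra! hne
    have := hpu a
    rw [cyc_apply_fst h, cyc_apply_of_ne hne.1 hne.2.1 hne.2.2] at this
    exact h.1 ((π u).injective this).symm
  have core : ∀ w : G, π w * cyc a b c = cyc a b c * π w → π w ∈ alternatingGroup (Fin r) →
      π w a = a → ρ (w * g * w⁻¹) = ρ g := by
    intro w hw hwe hwa
    have hpw : ∀ x, π w (cyc a b c x) = cyc a b c (π w x) := fun x => Equiv.ext_iff.1 hw x
    have hwb : π w b = b := by have := hpw a; rwa [cyc_apply_fst h, hwa, cyc_apply_fst h] at this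
    have hwc : π w c = c := by have := hpw b; rwa [cyc_apply_snd h, hwb, cyc_apply_snd h] at this
    exact off_fix _ hwe hwa hwb hwc w rfl
  have hgfix : ρ (g * g * g⁻¹) = ρ g := by rw [mul_inv_cancel_right]
  have hgc : π g * cyc a b c = cyc a b c * π g := by rw [hg]
  have hge : π g ∈ alternatingGroup (Fin r) := hg ▸ cyc_mem_alt h
  have step : ∀ w : G, π w * cyc a b c = cyc a b c * π w → π w ∈ alternatingGroup (Fin r) →
      ρ (g * w * g * (g * w)⁻¹) = ρ g → ρ (w * g * w⁻¹) = ρ g := by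
    intro w _ _ hgw
    have := conj_hom_one (conj_inv_one hgfix) hgw
    simpa using this
  rcases hua with ha | hb | hc
  · exact core u hu hev ha
  · refine step u hu hev (step (g * u) ?_ (by rw [map_mul]; exact mul_mem hge hev) (core _ ?_ ?_ ?_))
    · rw [map_mul, mul_assoc, hu, ← mul_assoc, hgc, mul_assoc]
    · rw [map_mul, map_mul]
      exact Commute.mul_left hgc (Commute.mul_left hgc hu)
    · rw [map_mul, map_mul]; exact mul_mem hge (mul_mem hge hev)
    · rw [map_mul, map_mul, Perm.mul_apply, Perm.mul_apply, hb, hg, cyc_apply_snd h,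
        cyc_apply_thd h]
  · refine step u hu hev (core _ ?_ ?_ ?_)
    · rw [map_mul, mul_assoc, hu, ← mul_assoc, hgc, mul_assoc]
    · rw [map_mul]; exact mul_mem hge hev
    · rw [map_mul, Perm.mul_apply, hc, hg, cyc_apply_thd h]

include hker hsurj hr in
theorem isL_unique (hpi : ∀ g, π g ∈ alternatingGroup (Fin r)) {a b c : Fin r} (h : D3 a b c)
    {A A' : Module.End k V} (hA : IsL π ρ a b c A) (hA' : IsL π ρ a b c A') : A = A' := by
  obtain ⟨hA3, g, t, hg, rfl, ht, hflip⟩ := hA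
  obtain ⟨hA3', g', t', hg', rfl, ht', hflip'⟩ := hA'
  obtain ⟨μ, hμ⟩ := eq_smul_of_eq (ρ := ρ) hker (hg.trans hg'.symm)
  rw [hμ] at hA3' hflip'
  have hμ3 : μ * μ * μ = 1 := by
    rw [smul_mul_smul_comm, smul_mul_smul_comm, hA3] at hA3'
    exact scalar_inj (hA3'.trans (one_smul k _).symm)
  have hu : π (t⁻¹ * t') * cyc a b c = cyc a b c * π (t⁻¹ * t') := by
    have e : (π t)⁻¹ * (cyc a b c)⁻¹ = cyc a b c * (π t)⁻¹ := by
      rw [inv_mul_eq_iff_eq_mul, ← mul_assoc, ht]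
    rw [mul_inv_eq_iff_eq_mul] at ht'
    rw [map_mul, map_inv, mul_assoc, ht', ← mul_assoc, e, mul_assoc]
  have hfix := conj_fixed hker hsurj hr h hg hu (hpi _)
  have e1 : ρ (t' * g * t'⁻¹) = ρ (t * g * t⁻¹) := by
    have e : t' * g * t'⁻¹ = t * (t⁻¹ * t' * g * (t⁻¹ * t')⁻¹) * t⁻¹ := by group
    rw [e, map_mul, map_mul, hfix, ← map_mul, ← map_mul]
  simp only [map_mul] at e1 hflip
  simp only [map_mul, hμ, mul_smul_comm, smul_mul_assoc, smul_smul] at hflip'
  rw [e1, hflip] at hflip'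
  have hμ2 : μ * μ = 1 := scalar_inj (hflip'.trans (one_smul k _).symm)
  rw [hμ2, one_mul] at hμ3
  rw [hμ, hμ3, one_smul]

theorem isL_conj {a b c : Fin r} (h : D3 a b c) {A : Module.End k V} (hA : IsL π ρ a b c A)
    (x : G) : IsL π ρ (π x a) (π x b) (π x c) (ρ x * A * ρ x⁻¹) := by
  obtain ⟨hA3, g, t, hg, rfl, ht, hflip⟩ := hA
  have e : ρ x * ρ g * ρ x⁻¹ = ρ (x * g * x⁻¹) := by rw [map_mul, map_mul]
  rw [e]
  refine ⟨?_, x * g * x⁻¹, x * t * x⁻¹, ?_, rfl, ?_, ?_⟩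
  · rw [← map_mul, ← map_mul] at hA3 ⊢
    rw [show x * g * x⁻¹ * (x * g * x⁻¹) * (x * g * x⁻¹) = x * (g * g * g) * x⁻¹ by group,
      map_mul, map_mul ρ x, hA3, mul_one, ← map_mul, mul_inv_cancel, map_one]
  · rw [map_mul, map_mul, map_inv, hg, cyc_conj (π x) h]
  · rw [← cyc_conj (π x) h, map_mul, map_mul, map_inv]
    calc π x * π t * (π x)⁻¹ * (π x * cyc a b c * (π x)⁻¹) * (π x * π t * (π x)⁻¹)⁻¹
        = π x * (π t * cyc a b c * (π t)⁻¹) * (π x)⁻¹ := by group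
      _ = (π x * cyc a b c * (π x)⁻¹)⁻¹ := by rw [ht]; group
  · rw [← map_mul, show x * t * x⁻¹ * (x * g * x⁻¹) * (x * t * x⁻¹)⁻¹ * (x * g * x⁻¹)
      = x * (t * g * t⁻¹ * g) * x⁻¹ by group, map_mul, map_mul ρ x, map_mul ρ (t * g * t⁻¹) g,
      hflip, mul_one, ← map_mul, mul_inv_cancel, map_one]

theorem isL_rot {a b c : Fin r} (h : D3 a b c) {A : Module.End k V} (hA : IsL π ρ a b c A) :
    IsL π ρ b c a A := by
  unfold IsL at hA ⊢
  rwa [← cyc_rot h]

theorem isL_swap {a b c : Fin r} (h : D3 a b c) {A : Module.End k V} (hA : IsL π ρ a b c A) :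
    IsL π ρ a c b (A * A) := by
  obtain ⟨hA3, g, t, hg, rfl, ht, hflip⟩ := hA
  refine ⟨?_, g * g, t, ?_, map_mul ρ g g, ?_, ?_⟩
  · calc ρ g * ρ g * (ρ g * ρ g) * (ρ g * ρ g) = ρ g * ρ g * ρ g * (ρ g * ρ g * ρ g) := by
          simp only [mul_assoc]
      _ = 1 := by rw [hA3, one_mul]
  · rw [map_mul, hg, cyc_swap h, eq_inv_iff_mul_eq_one]
    exact cyc_cube h
  · rw [cyc_swap h, inv_inv]
    calc π t * (cyc a b c)⁻¹ * (π t)⁻¹ = (π t * cyc a b c * (π t)⁻¹)⁻¹ := by group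
      _ = cyc a b c := by rw [ht, inv_inv]
  · rw [show t * (g * g) * t⁻¹ = t * g * t⁻¹ * (t * g * t⁻¹) by group, map_mul, mul_assoc,
      ← mul_assoc (ρ (t * g * t⁻¹)) (ρ g), hflip, one_mul, hflip]

include hker hsurj in
/-- A representation of a cover with scalar kernel obeys the bound. -/
theorem bound_of_scalar_kernel [IsAlgClosed k] [FiniteDimensional k V] (hr9 : 9 ≤ r)
    (hpi : ∀ g, π g ∈ alternatingGroup (Fin r)) (hns : ∃ g, ∀ c : k, ρ g ≠ c • 1) :
    Bound k r (finrank k V) := by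
  classical
  have hr : 8 ≤ r := by omega
  let L : Fin r → Fin r → Fin r → Module.End k V := fun a b c =>
    if h : D3 a b c then (exists_isL (ρ := ρ) hker hsurj hr h).choose else 1
  have hL : ∀ {a b c : Fin r}, D3 a b c → IsL π ρ a b c (L a b c) := fun {a b c} h => by
    simp only [L, dif_pos h]; exact (exists_isL (ρ := ρ) hker hsurj hr h).choose_spec
  have uniq : ∀ {a b c : Fin r}, D3 a b c → ∀ {A}, IsL π ρ a b c A → L a b c = A :=
    fun h _ hA => isL_unique hker hsurj hr hpi h (hL h) hA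
  have rel2 : ∀ {x y : G}, π x = π y → ∃ c : k, ρ y = c • ρ x := fun h => eq_smul_of_eq hker h
  let S : TriSys k V r :=
    { L := L
      rot := fun a b c h => (uniq h.rot (isL_rot h (hL h))).symm
      cube := fun a b c h => (hL h).1
      mul_inv := fun a b c h => by
        rw [uniq h.swap (isL_swap h (hL h)), ← mul_assoc]; exact (hL h).1
      conj := fun a b c d e f h h' => by
        obtain ⟨-, x, -, hx, hxA, -, -⟩ := hL h
        have h'' := isL_conj (π := π) (ρ := ρ) h' (hL h') x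
        rw [hx] at h''
        rw [uniq (h'.map (cyc a b c).injective) h'', ← hxA, mul_assoc (ρ x * L d e f), ← map_mul,
          inv_mul_cancel, map_one, mul_one]
      rel := fun a b c d h => by
        obtain ⟨d1, d2, -, -⟩ := TriSys.D3_of_nodup h
        obtain ⟨-, x, -, hx, hxA, -, -⟩ := hL d1
        obtain ⟨-, y, -, hy, hyA, -, -⟩ := hL d2
        obtain ⟨κ, hκ⟩ := hker (x * y * (x * y)) (by
          rw [map_mul, map_mul, hx, hy]; exact cyc4_sq h)
        exact ⟨κ, by rw [← hxA, ← hyA, ← map_mul, ← map_mul, hκ]⟩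
      quint := fun a b c d e h => by
        obtain ⟨d1, d2, -⟩ := TriSys.cyc5 h
        have h' := h
        simp only [List.nodup_cons, List.mem_cons, List.not_mem_nil, or_false, not_or] at h'
        obtain ⟨⟨hab, hac, had, hae⟩, ⟨hbc, hbd, hbe⟩, ⟨hcd, hce⟩, hde, -⟩ := h'
        obtain ⟨-, x, -, hx, hxA, -, -⟩ := hL d1
        obtain ⟨-, y, -, hy, hyA, -, -⟩ := hL d2
        obtain ⟨-, x', -, hx', hxA', -, -⟩ := hL (a := a) (b := c) (c := e) ⟨hac, hce, Ne.symm hae⟩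
        obtain ⟨-, y', -, hy', hyA', -, -⟩ := hL (a := e) (b := b) (c := d) ⟨Ne.symm hbe, hbd, hde⟩
        obtain ⟨h5, h2⟩ := cyc5_eq h
        obtain ⟨ε, hε⟩ := hker ((x * y) ^ 5) (by rw [map_pow, map_mul, hx, hy, h5])
        obtain ⟨η, hη⟩ := rel2 (x := x * y * (x * y)) (y := x' * y') (by
          simp only [map_mul, hx, hy, hx', hy']; exact h2.symm)
        refine ⟨ε, η, ?_, ?_⟩
        · rw [← hxA, ← hyA, ← map_mul, ← map_pow, hε]
        · rw [← hxA, ← hyA, ← hxA', ← hyA', ← map_mul, hη, map_mul, map_mul] }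
  refine bound_triSys S hr9 fun htriv => ?_
  obtain ⟨g, hgns⟩ := hns
  have all : ∀ σ ∈ alternatingGroup (Fin r), ∀ w, π w = σ → ∃ c : k, ρ w = c • 1 := by
    intro σ hσ
    rw [← Perm.closure_three_cycles_eq_alternating] at hσ
    induction hσ using Subgroup.closure_induction with
    | mem t ht =>
      obtain ⟨a, b, c, h, rfl⟩ := exists_eq_cyc ht
      intro w hw
      obtain ⟨-, x, -, hx, hxA, -, -⟩ := hL h
      obtain ⟨s, hs⟩ := rel2 (x := x) (y := w) (by rw [hx, hw])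
      exact ⟨s, by rw [hs, hxA]; exact congr_arg _ (htriv a b c h)⟩
    | one => intro w hw; exact hker w hw
    | mul t t' ht ht' f1 f2 =>
      intro w hw
      rw [Perm.closure_three_cycles_eq_alternating] at ht ht'
      obtain ⟨x, hx⟩ := hsurj t ht
      obtain ⟨y, hy⟩ := hsurj t' ht'
      obtain ⟨s, hs⟩ := rel2 (x := x * y) (y := w) (by rw [map_mul, hx, hy, hw])
      obtain ⟨c1, hc1⟩ := f1 x hx
      obtain ⟨c2, hc2⟩ := f2 y hy
      exact ⟨s * (c1 * c2), by rw [hs, map_mul, hc1, hc2, smul_mul_smul_comm, one_mul, smul_smul]⟩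
    | inv t ht f =>
      intro w hw
      obtain ⟨c, hc⟩ := f w⁻¹ (by rw [map_inv, hw, inv_inv])
      have := map_mul ρ w w⁻¹
      rw [mul_inv_cancel, map_one, hc, mul_smul_comm, mul_one] at this
      have hc0 : c ≠ 0 := fun h0 => by rw [h0, zero_smul] at this; exact one_ne_zero this
      exact ⟨c⁻¹, by rw [this, smul_smul, inv_mul_cancel₀ hc0, one_smul]⟩
  obtain ⟨c, hc⟩ := all (π g) (hpi g) g rfl
  exact hgns c hc

end

end Cfsg.Agent.AltSection
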