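import Mathlib.GroupTheory.SpecificGroups.Alternating
import Mathlib.GroupTheory.Perm.Cycle.Type
import Mathlib.Logic.Equiv.Fintype

/-!
Three-cycles given by their points, and even permutations with prescribed values.
-/

set_option autoImplicit false

namespace Cfsg.Agent.AltSection

open Equiv

variable {r : ℕ}

/-- The permutation sending `a` to `b`, `b` to `c` and `c` to `a`. -/
def cyc (a b c : Fin r) : Perm (Fin r) := swap a b * swap b c

/-- Three distinct points. -/
def D3 (a b c : Fin r) : Prop := a ≠ b ∧ b ≠ c ∧ c ≠ a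

theorem D3.rot {a b c : Fin r} (h : D3 a b c) : D3 b c a := ⟨h.2.1, h.2.2, h.1⟩

theorem D3.swap {a b c : Fin r} (h : D3 a b c) : D3 a c b :=
  ⟨h.2.2.symm, h.2.1.symm, h.1.symm⟩

theorem D3.map {a b c : Fin r} (h : D3 a b c) {m : ℕ} {f : Fin r → Fin m}
    (hf : Function.Injective f) : D3 (f a) (f b) (f c) :=
  ⟨hf.ne h.1, hf.ne h.2.1, hf.ne h.2.2⟩

theorem cyc_apply_fst {a b c : Fin r} (h : D3 a b c) : cyc a b c a = b := by
  rw [cyc, Perm.mul_apply, swap_apply_of_ne_of_ne h.1 h.2.2.symm, swap_apply_left]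

theorem cyc_apply_snd {a b c : Fin r} (h : D3 a b c) : cyc a b c b = c := by
  rw [cyc, Perm.mul_apply, swap_apply_left, swap_apply_of_ne_of_ne h.2.2 h.2.1.symm]

theorem cyc_apply_thd {a b c : Fin r} (_h : D3 a b c) : cyc a b c c = a := by
  rw [cyc, Perm.mul_apply, swap_apply_right, swap_apply_right]

theorem cyc_apply_of_ne {a b c x : Fin r} (ha : x ≠ a) (hb : x ≠ b) (hc : x ≠ c) :
    cyc a b c x = x := by
  rw [cyc, Perm.mul_apply, swap_apply_of_ne_of_ne hb hc, swap_apply_of_ne_of_ne ha hb]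

theorem cyc_isThreeCycle {a b c : Fin r} (h : D3 a b c) : (cyc a b c).IsThreeCycle := by
  rw [cyc, swap_comm a b]
  exact Perm.isThreeCycle_swap_mul_swap_same h.1.symm h.2.1 h.2.2.symm

theorem cyc_mem_alt {a b c : Fin r} (h : D3 a b c) : cyc a b c ∈ alternatingGroup (Fin r) :=
  (cyc_isThreeCycle h).mem_alternatingGroup

theorem exists_eq_cyc {σ : Perm (Fin r)} (h : σ.IsThreeCycle) :
    ∃ a b c, D3 a b c ∧ σ = cyc a b c := by
  obtain ⟨a, ha⟩ : ∃ a, σ a ≠ a := by
    by_contra! h'
    exact h.isCycle.ne_one (Equiv.ext h')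
  have h3 : σ (σ (σ a)) = a := by
    have := h.orderOf
    have e : σ ^ 3 = 1 := by rw [← this]; exact pow_orderOf_eq_one σ
    simpa [pow_succ, Perm.mul_apply] using congr($e a)
  have hb : σ (σ a) ≠ σ a := fun e => ha (σ.injective e)
  have hc : σ (σ a) ≠ a := fun e => ha (by rw [e] at h3; exact h3)
  have hd : D3 a (σ a) (σ (σ a)) := ⟨ha.symm, hb.symm, hc⟩
  refine ⟨a, σ a, σ (σ a), hd, Equiv.ext fun x => ?_⟩
  by_cases hxa : x = a
  · rw [hxa, cyc_apply_fst hd]
  by_cases hxb : x = σ a
  · rw [hxb, cyc_apply_snd hd]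
  by_cases hxc : x = σ (σ a)
  · rw [hxc, cyc_apply_thd hd, h3]
  rw [cyc_apply_of_ne hxa hxb hxc]
  by_contra hx
  have hcard := h.card_support
  have hsub : ({x, a, σ a, σ (σ a)} : Finset (Fin r)) ⊆ σ.support := by
    intro y hy
    simp only [Finset.mem_insert, Finset.mem_singleton] at hy
    rw [Perm.mem_support]
    rcases hy with rfl | rfl | rfl | rfl
    · exact hx
    · exact ha
    · exact hb
    · rw [h3]; exact hc.symm
  have h4 : ({x, a, σ a, σ (σ a)} : Finset (Fin r)).card = 4 := by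
    simp [hxa, hxb, hxc, hd.1, hd.2.1, hd.2.2.symm]
  have := Finset.card_le_card hsub
  omega

/-- An even permutation with prescribed values on few points. -/
theorem exists_even {m : ℕ} (f g : Fin m → Fin r) (hf : Function.Injective f)
    (hg : Function.Injective g) (hm : m + 2 ≤ r) :
    ∃ σ ∈ alternatingGroup (Fin r), ∀ i, σ (f i) = g i := by
  obtain ⟨σ, hσ⟩ := Equiv.Perm.exists_extending_pair f g hf hg
  rcases Int.units_eq_one_or (Perm.sign σ) with h | h
  · exact ⟨σ, Perm.mem_alternatingGroup.2 h, hσ⟩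
  · have hcard : 2 ≤ (Finset.univ.image g)ᶜ.card := by
      rw [Finset.card_compl, Finset.card_image_of_injective _ hg, Finset.card_univ,
        Fintype.card_fin, Fintype.card_fin]
      omega
    obtain ⟨u, hu, v, hv, huv⟩ := Finset.one_lt_card.1 hcard
    refine ⟨swap u v * σ, Perm.mem_alternatingGroup.2 (by simp [h, huv]), fun i => ?_⟩
    simp only [Finset.mem_compl, Finset.mem_image, Finset.mem_univ, true_and, not_exists] at hu hv
    rw [Perm.mul_apply, hσ, swap_apply_of_ne_of_ne (hu i) (hv i)]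

/-- Points avoiding a given small set. -/
theorem exists_fresh {m : ℕ} (s : List (Fin r)) (hm : s.length + m ≤ r) :
    ∃ f : Fin m → Fin r, Function.Injective f ∧ ∀ i, f i ∉ s := by
  have hc : m ≤ (s.toFinset)ᶜ.card := by
    rw [Finset.card_compl, Fintype.card_fin]
    have := s.toFinset_card_le
    omega
  obtain ⟨t, ht, htc⟩ := Finset.exists_subset_card_eq hc
  have e := t.equivFinOfCardEq htc
  refine ⟨fun i => (e.symm i : Fin r), Subtype.val_injective.comp e.symm.injective, fun i hi => ?_⟩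
  exact Finset.mem_compl.1 (ht (e.symm i).2) (List.mem_toFinset.2 hi)

end Cfsg.Agent.AltSection
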