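import Cfsg.Agent.Lib.AltSection.Lift
import Mathlib.GroupTheory.Frattini
import Mathlib.GroupTheory.SpecificGroups.Alternating.Simple
import Mathlib.FieldTheory.IsAlgClosed.AlgebraicClosure
import Mathlib.LinearAlgebra.Eigenspace.Triangularizable
import Mathlib.LinearAlgebra.Matrix.ToLin
import Mathlib.Algebra.Module.ZMod
import Mathlib.Algebra.Field.ZMod
import Mathlib.LinearAlgebra.Dimension.FreeAndStrongRankCondition
import Mathlib.RingTheory.Artinian.Module
import Mathlib.FieldTheory.Finiteness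

/-!
Reduction of the degree bound for alternating sections to representations with scalar kernel.
-/

set_option autoImplicit false
set_option linter.style.haveILetI false

namespace Cfsg.Agent.AltSection

open Module
open scoped commutatorElement

theorem li_of_char {k W : Type*} [Field k] [AddCommGroup W] [Module k W] {ι α : Type*}
    (f : ι → W) (T : α → W →ₗ[k] W) (c : ι → α → k) (h0 : ∀ i, f i ≠ 0)
    (h : ∀ i a, T a (f i) = c i a • f i) (hc : Function.Injective c) : LinearIndependent k f := by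
  classical
  rw [linearIndependent_iff']
  intro s
  induction s using Finset.induction_on with
  | empty => simp
  | insert j s hj ih =>
    intro g hg
    rw [Finset.sum_insert hj] at hg
    have key : ∀ a, ∀ i ∈ s, g i * (c i a - c j a) = 0 := by
      intro a
      refine ih (fun i => g i * (c i a - c j a)) ?_
      have e := congr_arg (T a) hg
      rw [map_add, map_smul, h, map_sum, map_zero] at e
      simp only [map_smul, h, smul_smul] at e
      have e' := congr_arg (fun w => c j a • w) hg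
      simp only [smul_add, Finset.smul_sum, smul_smul, smul_zero] at e'
      simp only [mul_sub, sub_smul, Finset.sum_sub_distrib]
      rw [mul_comm (g j)] at e
      rw [sub_eq_zero]
      have := e.trans e'.symm
      rw [add_left_cancel_iff] at this
      rw [this]
      exact Finset.sum_congr rfl fun i _ => by rw [mul_comm]
    have hs : ∀ i ∈ s, g i = 0 := by
      intro i hi
      have hne : c i ≠ c j := fun e => hj (hc e ▸ hi)
      obtain ⟨a, ha⟩ := Function.ne_iff.1 hne
      exact (mul_eq_zero.1 (key a i hi)).resolve_right (sub_ne_zero.2 ha)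
    rw [Finset.sum_eq_zero fun i hi => by rw [hs i hi, zero_smul], add_zero] at hg
    intro i hi
    rcases Finset.mem_insert.1 hi with rfl | hi
    · exact (smul_eq_zero.1 hg).resolve_right (h0 i)
    · exact hs i hi

theorem exists_joint_eigen {k V : Type*} [Field k] [IsAlgClosed k] [AddCommGroup V] [Module k V]
    [FiniteDimensional k V] [Nontrivial V] {ι : Type*} (f : ι → Module.End k V)
    (hf : ∀ i j, Commute (f i) (f j)) : ∃ v ≠ (0 : V), ∀ i, ∃ c : k, f i v = c • v := by
  let S : Set (Submodule k V) := {W | W ≠ ⊥ ∧ ∀ i, ∀ w ∈ W, f i w ∈ W}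
  obtain ⟨W, ⟨hW0, hW⟩, hmin⟩ :=
    (wellFounded_lt (α := Submodule k V)).has_min S
      ⟨⊤, top_ne_bot, fun _ _ _ => trivial⟩
  obtain ⟨v, hv, hv0⟩ := W.exists_mem_ne_zero_of_ne_bot hW0
  refine ⟨v, hv0, fun i => ?_⟩
  have : Nontrivial W := Submodule.nontrivial_iff_ne_bot.2 hW0
  obtain ⟨μ, hμ⟩ := Module.End.exists_eigenvalue ((f i).restrict (hW i))
  obtain ⟨w, hw⟩ := hμ.exists_hasEigenvector
  refine ⟨μ, ?_⟩
  by_contra hne
  refine hmin (W ⊓ (f i).eigenspace μ) ⟨?_, ?_⟩ ?_
  · rw [Submodule.ne_bot_iff]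
    refine ⟨w, ⟨w.2, Module.End.mem_eigenspace_iff.2 ?_⟩, fun e => hw.2 (Subtype.ext e)⟩
    exact congr_arg Subtype.val hw.apply_eq_smul
  · rintro j u ⟨hu, hu'⟩
    refine ⟨hW j u hu, Module.End.mem_eigenspace_iff.2 ?_⟩
    have := LinearMap.congr_fun (hf i j).eq u
    simp only [Module.End.mul_apply] at this
    rw [this, Module.End.mem_eigenspace_iff.1 hu', map_smul]
  · exact lt_of_le_not_ge inf_le_left fun h => hne (Module.End.mem_eigenspace_iff.1 (h hv).2)

theorem alt_index {r : ℕ} (hr : 5 ≤ r) (H : Subgroup ↥(alternatingGroup (Fin r))) (hH : H ≠ ⊤) :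
    r ≤ H.index := by
  haveI := alternatingGroup.isSimpleGroup (α := Fin r) (by simpa using hr)
  have hcore : H.normalCore = ⊥ :=
    (IsSimpleGroup.eq_bot_or_eq_top_of_normal H.normalCore inferInstance).resolve_right fun e =>
      hH (eq_top_iff.2 (e ▸ H.normalCore_le))
  have hinj : Function.Injective
      (MulAction.toPermHom ↥(alternatingGroup (Fin r)) (↥(alternatingGroup (Fin r)) ⧸ H)) :=
    (MonoidHom.ker_eq_bot_iff _).1 (by rw [← Subgroup.normalCore_eq_ker, hcore])
  have h := Nat.card_le_card_of_injective _ hinj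
  rw [Nat.card_perm, ← Subgroup.index_eq_card] at h
  haveI : Nontrivial (Fin r) := Fin.nontrivial_iff_two_le.2 (by omega)
  have h2 := two_mul_nat_card_alternatingGroup (α := Fin r)
  rw [Nat.card_perm, Nat.card_fin] at h2
  by_contra hlt
  obtain ⟨m, rfl⟩ : ∃ m, r = m + 1 := ⟨r - 1, by omega⟩
  have h3 := Nat.factorial_le (show H.index ≤ m by omega)
  rw [Nat.factorial_succ] at h2
  have h4 := Nat.mul_le_mul_right m.factorial (show 5 ≤ m + 1 by omega)
  have := m.factorial_pos
  omega

theorem two_pow_gt_sq : ∀ j : ℕ, 5 ≤ j → j ^ 2 < 2 ^ j := by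
  intro j hj
  induction j, hj using Nat.le_induction with
  | base => norm_num
  | succ m hm ih => rw [pow_succ 2 m]; nlinarith

/-- The statement of the bound in one degree. -/
def Claim (r n : ℕ) : Prop :=
  ∀ (k : Type) [Field k] [IsAlgClosed k] (V : Type) [AddCommGroup V] [Module k V]
    [FiniteDimensional k V] (G : Type) [Group G] [Finite G] (ρ : G →* Module.End k V)
    (π : G →* ↥(alternatingGroup (Fin r))),
    Function.Injective ρ → Function.Surjective π → finrank k V = n → Bound k r n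

variable {r : ℕ} {k : Type} [Field k] {V : Type} [AddCommGroup V] [Module k V] {G : Type} [Group G]

theorem not_commutative_alt (hr : 5 ≤ r) :
    ∃ x y : ↥(alternatingGroup (Fin r)), x * y ≠ y * x := by
  let i : ℕ → Fin r := fun j => ⟨j % r, Nat.mod_lt _ (by omega)⟩
  have hne : ∀ a b, a < 5 → b < 5 → a ≠ b → i a ≠ i b := by
    intro a b ha hb h e
    simp only [i, Fin.mk.injEq, Nat.mod_eq_of_lt (show a < r by omega),
      Nat.mod_eq_of_lt (show b < r by omega)] at e
    exact h e
  have d1 : D3 (i 0) (i 1) (i 2) :=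
    ⟨hne _ _ (by omega) (by omega) (by omega), hne _ _ (by omega) (by omega) (by omega),
      hne _ _ (by omega) (by omega) (by omega)⟩
  have d2 : D3 (i 2) (i 3) (i 4) :=
    ⟨hne _ _ (by omega) (by omega) (by omega), hne _ _ (by omega) (by omega) (by omega),
      hne _ _ (by omega) (by omega) (by omega)⟩
  refine ⟨⟨_, cyc_mem_alt d1⟩, ⟨_, cyc_mem_alt d2⟩, fun e => ?_⟩
  have := congr_arg (fun x : ↥(alternatingGroup (Fin r)) => (x : Equiv.Perm (Fin r)) (i 1)) e
  simp only [Subgroup.coe_mul, Equiv.Perm.mul_apply] at this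
  rw [cyc_apply_of_ne (hne _ _ (by omega) (by omega) (by omega))
    (hne _ _ (by omega) (by omega) (by omega)) (hne _ _ (by omega) (by omega) (by omega)),
    cyc_apply_snd d1, cyc_apply_fst d2] at this
  exact hne _ _ (by omega) (by omega) (by omega) this

section Minimal

variable {π : G →* ↥(alternatingGroup (Fin r))}

theorem le_ker_of_normal (hr : 5 ≤ r) (hπ : Function.Surjective π)
    (hmin : ∀ H : Subgroup G, H ≠ ⊤ → H.map π ≠ ⊤) (N : Subgroup G) [N.Normal] (hN : N ≠ ⊤) :
    N ≤ π.ker := by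
  haveI := alternatingGroup.isSimpleGroup (α := Fin r) (by simpa using hr)
  rcases IsSimpleGroup.eq_bot_or_eq_top_of_normal _ (Subgroup.Normal.map ‹N.Normal› π hπ) with h | h
  · exact (Subgroup.map_eq_bot_iff N).1 h
  · exact absurd h (hmin N hN)

theorem ne_comm_of_surj (hr : 5 ≤ r) (hπ : Function.Surjective π) :
    ∃ x y : G, x * y ≠ y * x := by
  obtain ⟨x, y, h⟩ := not_commutative_alt hr
  obtain ⟨a, rfl⟩ := hπ x
  obtain ⟨b, rfl⟩ := hπ y
  exact ⟨a, b, fun e => h (by rw [← map_mul, e, map_mul])⟩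

theorem perfect_of_minimal (hr : 5 ≤ r) (hπ : Function.Surjective π)
    (hmin : ∀ H : Subgroup G, H ≠ ⊤ → H.map π ≠ ⊤) : commutator G = ⊤ := by
  by_contra h
  have hle := le_ker_of_normal hr hπ hmin (commutator G) h
  obtain ⟨x, y, hxy⟩ := not_commutative_alt hr
  obtain ⟨a, rfl⟩ := hπ x
  obtain ⟨b, rfl⟩ := hπ y
  refine hxy ?_
  have : π ⁅a, b⁆ = 1 :=
    hle (Subgroup.commutator_mem_commutator (Subgroup.mem_top a) (Subgroup.mem_top b))
  rwa [map_commutatorElement, commutatorElement_eq_one_iff_mul_comm] at this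

theorem ker_le_frattini (hπ : Function.Surjective π)
    (hmin : ∀ H : Subgroup G, H ≠ ⊤ → H.map π ≠ ⊤) : π.ker ≤ frattini G := by
  refine le_iInf₂ fun M hM => ?_
  by_contra h
  have hlt : M < M ⊔ π.ker := lt_of_le_of_ne le_sup_left fun e => h (e ▸ le_sup_right)
  have := hM.2 _ hlt
  refine hmin M hM.1 ?_
  rw [← Subgroup.map_eq_map_iff.2 (show (M ⊔ π.ker) ⊔ π.ker = M ⊔ π.ker by simp), this]
  exact Subgroup.map_top_of_surjective π hπ

end Minimal

theorem inj_lift {M : Type} [Monoid M] (f : G →* M) :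
    Function.Injective (QuotientGroup.lift f.ker f (le_refl _)) := by
  intro a b
  induction a using QuotientGroup.induction_on with | _ a =>
  induction b using QuotientGroup.induction_on with | _ b =>
  intro h
  rw [QuotientGroup.eq, MonoidHom.mem_ker, map_mul]
  simp only [QuotientGroup.lift_mk] at h
  rw [← h, ← map_mul, inv_mul_cancel, map_one]

theorem bound_quot [IsAlgClosed k] [FiniteDimensional k V] [Finite G] {m : ℕ} (ih : Claim r m)
    (f : G →* Module.End k V) (hm : finrank k V = m) (π : G →* ↥(alternatingGroup (Fin r)))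
    (hπ : Function.Surjective π) (hf : f.ker ≤ π.ker) : Bound k r m := by
  refine ih k V (G ⧸ f.ker) (QuotientGroup.lift f.ker f (le_refl _))
    (QuotientGroup.lift f.ker π hf) (inj_lift f) ?_ hm
  intro x
  obtain ⟨g, rfl⟩ := hπ x
  exact ⟨(g : G ⧸ f.ker), rfl⟩

theorem irreducible_or_bound [IsAlgClosed k] [FiniteDimensional k V] [Finite G]
    {π : G →* ↥(alternatingGroup (Fin r))} (ρ : G →* Module.End k V) (hρ : Function.Injective ρ)
    (hr : 5 ≤ r) (hπ : Function.Surjective π) (hmin : ∀ H : Subgroup G, H ≠ ⊤ → H.map π ≠ ⊤)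
    (IH : ∀ m < finrank k V, Claim r m) (W : Submodule k V) (hW : ∀ g, ∀ w ∈ W, ρ g w ∈ W)
    (hW0 : W ≠ ⊥) (hW1 : W ≠ ⊤) : Bound k r (finrank k V) := by
  let f : G →* Module.End k W :=
    { toFun := fun g => (ρ g).restrict (hW g)
      map_one' := LinearMap.ext fun x => Subtype.ext (by simp)
      map_mul' := fun g h => LinearMap.ext fun x => Subtype.ext (by simp) }
  let q : G →* Module.End k (V ⧸ W) :=
    { toFun := fun g => W.mapQ W (ρ g) (fun w hw => hW g w hw)
      map_one' := Submodule.linearMap_qext _ (LinearMap.ext fun x => by simp)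
      map_mul' := fun g h => Submodule.linearMap_qext _ (LinearMap.ext fun x => by simp) }
  have h1 : finrank k W < finrank k V := Submodule.finrank_lt hW1
  have h2 : finrank k (V ⧸ W) < finrank k V := by
    have := Submodule.finrank_quotient_add_finrank W
    have h0 : 0 < finrank k W :=
      Nat.pos_of_ne_zero fun e => hW0 (Submodule.finrank_eq_zero.1 e)
    omega
  by_cases hf : f.ker = ⊤
  · by_cases hq : q.ker = ⊤
    · exfalso
      obtain ⟨x, y, hxy⟩ := ne_comm_of_surj hr hπ
      refine hxy (hρ (LinearMap.ext fun v => ?_))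
      have hfix : ∀ g, ∀ w ∈ W, ρ g w = w := fun g w hw => by
        have : f g = 1 := by rw [← MonoidHom.mem_ker, hf]; trivial
        exact congr_arg Subtype.val (LinearMap.congr_fun this ⟨w, hw⟩)
      have hmove : ∀ g v, ρ g v - v ∈ W := fun g v => by
        have : q g = 1 := by rw [← MonoidHom.mem_ker, hq]; trivial
        exact (Submodule.Quotient.eq W).1 (LinearMap.congr_fun this (Submodule.Quotient.mk v))
      have e1 := hfix x _ (hmove y v)
      have e2 := hfix y _ (hmove x v)
      rw [map_sub] at e1 e2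
      rw [map_mul, map_mul, Module.End.mul_apply, Module.End.mul_apply,
        sub_eq_iff_eq_add.1 e1, sub_eq_iff_eq_add.1 e2]
      abel
    · exact (bound_quot (IH _ h2) q rfl π hπ (le_ker_of_normal hr hπ hmin _ hq)).mono h2.le
  · exact (bound_quot (IH _ h1) f rfl π hπ (le_ker_of_normal hr hπ hmin _ hf)).mono h1.le

theorem scalar_or_large [IsAlgClosed k] [FiniteDimensional k V] [Nontrivial V] [Finite G]
    {π : G →* ↥(alternatingGroup (Fin r))} (ρ : G →* Module.End k V)
    (hr : 5 ≤ r) (hπ : Function.Surjective π) (hmin : ∀ H : Subgroup G, H ≠ ⊤ → H.map π ≠ ⊤)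
    (hirr : ∀ W : Submodule k V, (∀ g, ∀ w ∈ W, ρ g w ∈ W) → W = ⊥ ∨ W = ⊤)
    (A : Subgroup G) [hA : A.Normal] (hab : ∀ a ∈ A, ∀ b ∈ A, a * b = b * a) :
    (∀ a ∈ A, ∃ c : k, ρ a = c • 1) ∨ r ≤ finrank k V := by
  classical
  obtain ⟨v, hv0, hv⟩ := exists_joint_eigen (fun a : A => ρ a)
    (fun a b => by
      show ρ a * ρ b = ρ b * ρ a
      rw [← map_mul, ← map_mul, hab _ a.2 _ b.2])
  choose χ' hχ' using hv
  let χ : G → k := fun g => if h : g ∈ A then χ' ⟨g, h⟩ else 0
  have hχ : ∀ a ∈ A, ρ a v = χ a • v := fun a ha => by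
    simp only [χ, dif_pos ha]; exact hχ' ⟨a, ha⟩
  let P : Subgroup G :=
    { carrier := {g | ∀ a ∈ A, χ (g⁻¹ * a * g) = χ a}
      one_mem' := fun a _ => by simp
      mul_mem' := fun {g h} hg hh a ha => by
        have h' := hA.conj_mem a ha g⁻¹
        rw [inv_inv] at h'
        rw [show (g * h)⁻¹ * a * (g * h) = h⁻¹ * (g⁻¹ * a * g) * h by group, hh _ h', hg a ha]
      inv_mem' := fun {g} hg a ha => by
        have := hg _ (hA.conj_mem a ha g)
        rw [inv_inv]
        rw [show g⁻¹ * (g * a * g⁻¹) * g = a by group] at this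
        exact this.symm }
  have hconj : ∀ (g : G) (a : G), a ∈ A → ∀ u : V, (∀ b ∈ A, ρ b u = χ b • u) →
      ρ a (ρ g u) = χ (g⁻¹ * a * g) • ρ g u := by
    intro g a ha u hu
    have h' := hA.conj_mem a ha g⁻¹
    rw [inv_inv] at h'
    rw [← map_smul, ← hu _ h', ← Module.End.mul_apply, ← Module.End.mul_apply, ← map_mul,
      ← map_mul]
    group
  by_cases hP : P = ⊤
  · left
    let U : Submodule k V :=
      { carrier := {u | ∀ a ∈ A, ρ a u = χ a • u}
        zero_mem' := fun a _ => by simp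
        add_mem' := fun {x y} hx hy a ha => by rw [map_add, hx a ha, hy a ha, smul_add]
        smul_mem' := fun c x hx a ha => by rw [map_smul, hx a ha, smul_comm] }
    rcases hirr U (fun g u hu a ha => by
      rw [hconj g a ha u hu, (show g ∈ P by rw [hP]; trivial) a ha]) with h | h
    · exact absurd ((Submodule.eq_bot_iff U).1 h v hχ) hv0
    · intro a ha
      refine ⟨χ a, LinearMap.ext fun u => ?_⟩
      have hu : u ∈ U := by rw [h]; trivial
      rw [hu a ha, LinearMap.smul_apply, Module.End.one_apply]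
  · right
    have h1 : r ≤ P.index :=
      le_trans (alt_index hr _ (hmin P hP))
        (Nat.le_of_dvd (Nat.pos_of_ne_zero Subgroup.index_ne_zero_of_finite)
          (P.index_map_dvd hπ))
    have hli : LinearIndependent k (fun x : G ⧸ P => ρ x.out v) := by
      refine li_of_char _ (fun a : A => ρ a) (fun x a => χ (x.out⁻¹ * a * x.out)) ?_
        (fun x a => hconj x.out a a.2 v hχ) ?_
      · intro x h0
        apply hv0
        have := congr_arg (ρ x.out⁻¹) h0
        rwa [map_zero, ← Module.End.mul_apply, ← map_mul, inv_mul_cancel, map_one,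
          Module.End.one_apply] at this
      · intro x y e
        rw [← QuotientGroup.out_eq' x, ← QuotientGroup.out_eq' y]
        refine (QuotientGroup.eq.2 ?_).symm
        intro a ha
        have := congr_fun e ⟨y.out * a * y.out⁻¹, hA.conj_mem a ha _⟩
        simp only at this
        rw [show y.out⁻¹ * (y.out * a * y.out⁻¹) * y.out = a by group] at this
        rw [← this]
        group
    haveI := Fintype.ofFinite (G ⧸ P)
    have h2 := hli.fintype_card_le_finrank
    rw [← Nat.card_eq_fintype_card, ← Subgroup.index_eq_card] at h2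
    omega

open Classical in
theorem bound_of_small_radical [IsAlgClosed k] [FiniteDimensional k V] [Finite G]
    {π : G →* ↥(alternatingGroup (Fin r))} (ρ : G →* Module.End k V) (hρ : Function.Injective ρ)
    (hr : 9 ≤ r) (hπ : Function.Surjective π) (hmin : ∀ H : Subgroup G, H ≠ ⊤ → H.map π ≠ ⊤)
    (IH : ∀ m < finrank k V, Claim r m)
    (hab : ∀ A : Subgroup G, A.Normal → (∀ a ∈ A, ∀ b ∈ A, a * b = b * a) →
      ∀ a ∈ A, ∃ c : k, ρ a = c • 1)
    (s : ℕ) [Fact s.Prime] (E : Subgroup (G ⧸ Subgroup.center G)) [E.Normal]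
    (hEc : ∀ a ∈ E, ∀ b ∈ E, a * b = b * a) (hEs : ∀ a ∈ E, a ^ s = 1) (hE1 : E ≠ ⊥) :
    Bound k r (finrank k V) := by
  have hcen : ∀ g : G, (∃ c : k, ρ g = c • 1) → g ∈ Subgroup.center G := by
    rintro g ⟨c, hc⟩
    refine Subgroup.mem_center_iff.2 fun x => hρ ?_
    rw [map_mul, map_mul, hc, smul_mul_assoc, one_mul, mul_smul_comm, mul_one]
  have hsc : ∀ z ∈ Subgroup.center G, ∃ c : k, ρ z = c • 1 :=
    hab _ inferInstance fun a ha b _ => ((Subgroup.mem_center_iff.1 ha) b).symm
  have hunit : ∀ g : G, ρ g⁻¹ * ρ g = 1 := fun g => by rw [← map_mul, inv_mul_cancel, map_one]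
  let q : G →* G ⧸ Subgroup.center G := QuotientGroup.mk' _
  let L : Subgroup G := E.comap q
  have hL : L.Normal := inferInstanceAs (E.comap q).Normal
  let cz : L → L → G := fun x y => (x : G) * y * (x : G)⁻¹ * (y : G)⁻¹
  have hcz : ∀ x y : L, cz x y ∈ Subgroup.center G := fun x y => by
    rw [← QuotientGroup.eq_one_iff]
    show q ((x : G) * y * (x : G)⁻¹ * (y : G)⁻¹) = 1
    rw [map_mul, map_mul, map_mul, map_inv, map_inv, hEc _ x.2 _ y.2, mul_inv_cancel_right,
      mul_inv_cancel]
  choose c hc using fun x y => hsc _ (hcz x y)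
  have hrad : ∀ y ∈ L, (∀ x ∈ L, x * y = y * x) → q y = 1 := by
    intro y hy hcomm
    let C : Subgroup G := L ⊓ Subgroup.centralizer (L : Set G)
    have hC : C.Normal := inferInstance
    have := hab C hC (fun a ha b hb => ((Subgroup.mem_centralizer_iff.1 ha.2) b hb.1).symm) y
      ⟨hy, Subgroup.mem_centralizer_iff.2 hcomm⟩
    exact (QuotientGroup.eq_one_iff y).2 (hcen y this)
  have hrep : ∀ e : E, ∃ y : L, q y = e := fun e => by
    obtain ⟨y, hy⟩ := QuotientGroup.mk'_surjective _ (e : G ⧸ Subgroup.center G)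
    exact ⟨⟨y, show q y ∈ E by rw [show q y = e from hy]; exact e.2⟩, hy⟩
  choose rep hrep using hrep
  have hli : LinearIndependent k (fun e : E => ρ (rep e : G)) := by
    refine li_of_char _ (fun x : L =>
      (LinearMap.mulLeft k (ρ (x : G))).comp (LinearMap.mulRight k (ρ (x : G)⁻¹)))
      (fun e x => c x (rep e)) ?_ ?_ ?_
    · intro e h0
      have := hunit (rep e : G)
      rw [h0, mul_zero] at this
      have h01 : (0 : Module.End k V) = 1 := this
      have hone : ρ (1 : G) = 0 := by rw [map_one, h01]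
      obtain ⟨x, y, hxy⟩ := ne_comm_of_surj (by omega) hπ
      exact hxy (hρ (eq_of_zero_eq_one h01 _ _))
    · intro e x
      show ρ (x : G) * (ρ (rep e : G) * ρ (x : G)⁻¹) = c x (rep e) • ρ (rep e : G)
      rw [← map_mul, ← map_mul, ← one_mul (ρ (rep e : G)), ← smul_mul_assoc, ← hc x (rep e),
        ← map_mul]
      simp [cz, mul_assoc]
    · intro e e' he
      have hz : ∀ x : L, cz x (rep e) = cz x (rep e') := fun x =>
        hρ (by rw [hc, hc]; exact congr_arg (· • (1 : Module.End k V)) (congr_fun he x))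
      have hy : q ((rep e : G)⁻¹ * rep e') = 1 := by
        refine hrad _ (mul_mem (inv_mem (rep e).2) (rep e').2) fun x hx => ?_
        have h1 := hz ⟨x, hx⟩
        have hzc := Subgroup.mem_center_iff.1 (hcz ⟨x, hx⟩ (rep e))
        simp only [cz] at h1 hzc
        have e1 : x * (rep e : G) * x⁻¹ = x * (rep e : G) * x⁻¹ * (rep e : G)⁻¹ * (rep e : G) := by
          group
        have e2 : x * (rep e' : G) * x⁻¹ = x * (rep e : G) * x⁻¹ * (rep e : G)⁻¹ * (rep e' : G) := by
          rw [h1]; group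
        have e3 : x * ((rep e : G)⁻¹ * rep e') * x⁻¹ = (rep e : G)⁻¹ * rep e' := by
          rw [show x * ((rep e : G)⁻¹ * rep e') * x⁻¹
              = (x * (rep e : G) * x⁻¹)⁻¹ * (x * (rep e' : G) * x⁻¹) by group, e1, e2]
          group
        exact mul_inv_eq_iff_eq_mul.1 e3
      rw [map_mul, map_inv, inv_mul_eq_one, hrep, hrep] at hy
      exact Subtype.ext hy
  haveI := Fintype.ofFinite E
  have hcard : Nat.card E ≤ finrank k V ^ 2 := by
    have := hli.fintype_card_le_finrank
    rw [Module.finrank_linearMap] at this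
    rwa [Nat.card_eq_fintype_card, sq]
  letI : CommGroup E :=
    { (inferInstance : Group E) with mul_comm := fun a b => Subtype.ext (hEc _ a.2 _ b.2) }
  letI : Module (ZMod s) (Additive E) :=
    AddCommGroup.zmodModule (n := s) fun x => Subtype.ext (hEs _ (Additive.toMul x).2)
  haveI : Finite (Additive E) := inferInstanceAs (Finite E)
  haveI : Module.Finite (ZMod s) (Additive E) := Module.Finite.of_finite
  let b : Basis (Fin (finrank (ZMod s) (Additive E))) (ZMod s) (Additive E) :=
    Module.finBasis (ZMod s) (Additive E)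
  set d := finrank (ZMod s) (Additive E) with hd
  have hEd : Nat.card E = s ^ d := by
    have := Module.card_eq_pow_finrank (K := ZMod s) (V := Additive E)
    rw [ZMod.card] at this
    rw [hd, ← this, ← Nat.card_eq_fintype_card]
    exact Nat.card_congr Additive.ofMul
  let act : G →* MulAut E := MulAut.conjNormal.comp q
  let lin : MulAut E →* Module.End (ZMod s) (Additive E) :=
    { toFun := fun σ => (MulEquiv.toAdditive σ).toAddMonoidHom.toZModLinearMap s
      map_one' := LinearMap.ext fun x => rfl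
      map_mul' := fun σ τ => LinearMap.ext fun x => rfl }
  let k1 := AlgebraicClosure (ZMod s)
  let M : G →* Matrix (Fin d) (Fin d) (ZMod s) :=
    (LinearMap.toMatrixAlgEquiv b).toMonoidHom.comp (lin.comp act)
  let φ : G →* Module.End k1 (Fin d → k1) :=
    (Matrix.toLinAlgEquiv' (R := k1)).toMonoidHom.comp
      ((algebraMap (ZMod s) k1).mapMatrix.toMonoidHom.comp M)
  have hφM : ∀ g, φ g = 1 → M g = 1 := by
    intro g hg
    have h1 : (algebraMap (ZMod s) k1).mapMatrix (M g) = 1 := by
      apply (Matrix.toLinAlgEquiv' (R := k1)).injective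
      rw [map_one]; exact hg
    refine Matrix.map_injective (algebraMap (ZMod s) k1).injective ?_
    exact h1.trans (map_one ((algebraMap (ZMod s) k1).mapMatrix)).symm
  have hMact : ∀ g, M g = 1 → ∀ e ∈ E, q g * e * (q g)⁻¹ = e := by
    intro g hg e he
    have h1 : lin (act g) = 1 := (LinearMap.toMatrixAlgEquiv b).injective (hg.trans (map_one _).symm)
    have h2 := congr_arg (fun f : Module.End (ZMod s) (Additive E) =>
      ((Additive.toMul (f (Additive.ofMul ⟨e, he⟩)) : E) : G ⧸ Subgroup.center G)) h1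
    exact h2
  have hφk : φ.ker ≠ ⊤ := by
    intro htop
    apply hE1
    rw [Subgroup.eq_bot_iff_forall]
    intro e he
    obtain ⟨y, rfl⟩ := QuotientGroup.mk'_surjective _ e
    have hz : ∀ g, g * y * g⁻¹ * y⁻¹ ∈ Subgroup.center G := fun g => by
      have := hMact g (hφM g (by rw [← MonoidHom.mem_ker, htop]; trivial)) (q y) he
      rw [← QuotientGroup.eq_one_iff]
      show q (g * y * g⁻¹ * y⁻¹) = 1
      rw [map_mul, map_mul, map_mul, map_inv, map_inv, this, mul_inv_cancel]
    have hlam : ∀ g h, g * h * y * (g * h)⁻¹ * y⁻¹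
        = g * y * g⁻¹ * y⁻¹ * (h * y * h⁻¹ * y⁻¹) := by
      intro g h
      have hcz' := Subgroup.mem_center_iff.1 (hz h)
      calc g * h * y * (g * h)⁻¹ * y⁻¹
          = g * (h * y * h⁻¹ * y⁻¹) * (y * g⁻¹ * y⁻¹) := by group
        _ = h * y * h⁻¹ * y⁻¹ * (g * (y * g⁻¹ * y⁻¹)) := by rw [hcz' g]; group
        _ = h * y * h⁻¹ * y⁻¹ * (g * y * g⁻¹ * y⁻¹) := by group
        _ = g * y * g⁻¹ * y⁻¹ * (h * y * h⁻¹ * y⁻¹) := (hcz' _).symm
    letI : CommGroup (Subgroup.center G) :=
      { (inferInstance : Group (Subgroup.center G)) with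
        mul_comm := fun a b => Subtype.ext ((Subgroup.mem_center_iff.1 b.2) a) }
    let lam : G →* Subgroup.center G :=
      MonoidHom.mk' (fun g => ⟨_, hz g⟩) fun g h => Subtype.ext (hlam g h)
    have hker := Abelianization.commutator_subset_ker lam
    rw [perfect_of_minimal (by omega) hπ hmin] at hker
    apply (QuotientGroup.eq_one_iff y).2
    refine Subgroup.mem_center_iff.2 fun g => ?_
    have h1 : g * y * g⁻¹ * y⁻¹ = 1 := congr_arg Subtype.val (hker (Subgroup.mem_top g))
    rw [mul_inv_eq_one, mul_inv_eq_iff_eq_mul] at h1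
    exact h1
  have hle := le_ker_of_normal (by omega) hπ hmin φ.ker hφk
  have hs2 : 2 ≤ s := (Fact.out : s.Prime).two_le
  by_cases hdn : d < finrank k V
  · have hb := bound_quot (IH d hdn) φ (by simp) π hπ hle
    have h2 : r ≤ d + 2 := by rcases hb with h | ⟨-, h⟩ <;> omega
    left
    by_contra hlt
    have h3 : 2 ^ (r - 2) ≤ finrank k V ^ 2 :=
      le_trans (Nat.pow_le_pow_left hs2 _ |>.trans (Nat.pow_le_pow_right (by omega) (by omega)))
        (hEd ▸ hcard)
    have h4 := two_pow_gt_sq (r - 2) (by omega)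
    have h5 := Nat.pow_le_pow_left (show finrank k V ≤ r - 2 by omega) 2
    omega
  · exfalso
    have hsd : s ^ d ≤ finrank k V ^ 2 := hEd ▸ hcard
    have hn4 : finrank k V ≤ 4 := by
      by_contra hlt
      have h1 := two_pow_gt_sq (finrank k V) (by omega)
      have h2 := (Nat.pow_le_pow_right (show 0 < 2 by omega) (show finrank k V ≤ d by omega)).trans
        (Nat.pow_le_pow_left hs2 d)
      omega
    have h16 : s ^ d ≤ 16 := hsd.trans (le_trans (Nat.pow_le_pow_left hn4 2) (by norm_num))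
    have hd4 : d ≤ 4 := by
      by_contra hlt
      have h2 := (Nat.pow_le_pow_right (show 0 < 2 by omega) (show 5 ≤ d by omega)).trans
        (Nat.pow_le_pow_left hs2 d)
      omega
    have hker : M.ker ≤ π.ker := fun g hg => hle (by
      rw [MonoidHom.mem_ker] at hg ⊢
      show Matrix.toLinAlgEquiv' ((algebraMap (ZMod s) k1).mapMatrix (M g)) = 1
      rw [hg, map_one, map_one])
    have h1 : Nat.card ↥(alternatingGroup (Fin r)) ≤ Nat.card (G ⧸ M.ker) :=
      Nat.card_le_card_of_surjective (QuotientGroup.lift M.ker π hker) fun x => by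
        obtain ⟨g, rfl⟩ := hπ x
        exact ⟨(g : G ⧸ M.ker), rfl⟩
    have h2 : Nat.card (G ⧸ M.ker) ≤ Nat.card (Matrix (Fin d) (Fin d) (ZMod s)) :=
      Nat.card_le_card_of_injective _ (inj_lift M)
    have h3 : Nat.card (Matrix (Fin d) (Fin d) (ZMod s)) = (s ^ d) ^ d := by
      rw [Matrix, Nat.card_fun, Nat.card_fun, Nat.card_zmod, Nat.card_fin]
    have h4 : (s ^ d) ^ d ≤ 16 ^ 4 :=
      (Nat.pow_le_pow_left h16 d).trans (Nat.pow_le_pow_right (by norm_num) hd4)
    haveI : Nontrivial (Fin r) := Fin.nontrivial_iff_two_le.2 (by omega)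
    have h5 := two_mul_nat_card_alternatingGroup (α := Fin r)
    rw [Nat.card_perm, Nat.card_fin] at h5
    have h6 : 362880 ≤ r.factorial := le_trans (by norm_num [Nat.factorial]) (Nat.factorial_le hr)
    norm_num at h4
    omega

theorem bound_minimal [IsAlgClosed k] [FiniteDimensional k V] [Finite G]
    {π : G →* ↥(alternatingGroup (Fin r))} (ρ : G →* Module.End k V) (hρ : Function.Injective ρ)
    (hr : 9 ≤ r) (hπ : Function.Surjective π) (hmin : ∀ H : Subgroup G, H ≠ ⊤ → H.map π ≠ ⊤)
    (IH : ∀ m < finrank k V, Claim r m) : Bound k r (finrank k V) := by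
  classical
  by_contra hB
  obtain ⟨x0, y0, hxy⟩ := ne_comm_of_surj (by omega) hπ
  haveI : Nontrivial V := by
    by_contra h
    rw [not_nontrivial_iff_subsingleton] at h
    exact hxy (hρ (LinearMap.ext fun v => Subsingleton.elim _ _))
  have hirr : ∀ W : Submodule k V, (∀ g, ∀ w ∈ W, ρ g w ∈ W) → W = ⊥ ∨ W = ⊤ := by
    intro W hW
    by_contra! h
    exact hB (irreducible_or_bound ρ hρ (by omega) hπ hmin IH W hW h.1 h.2)
  have hab : ∀ A : Subgroup G, A.Normal → (∀ a ∈ A, ∀ b ∈ A, a * b = b * a) →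
      ∀ a ∈ A, ∃ c : k, ρ a = c • 1 := by
    intro A hA hA'
    rcases scalar_or_large ρ (by omega) hπ hmin hirr A hA' with h | h
    · exact h
    · exact absurd (Or.inl (by omega)) hB
  have hsc : ∀ z ∈ Subgroup.center G, ∃ c : k, ρ z = c • 1 :=
    hab _ inferInstance fun a ha b _ => ((Subgroup.mem_center_iff.1 ha) b).symm
  by_cases hK : π.ker ≤ Subgroup.center G
  · refine hB (bound_of_scalar_kernel (π := (alternatingGroup (Fin r)).subtype.comp π) (ρ := ρ)
      ?_ ?_ hr (fun g => (π g).2) ?_)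
    · intro g hg
      exact hsc g (hK (MonoidHom.mem_ker.2 (Subtype.ext hg)))
    · intro σ hσ
      obtain ⟨g, hg⟩ := hπ ⟨σ, hσ⟩
      exact ⟨g, congr_arg Subtype.val hg⟩
    · by_contra! hns
      obtain ⟨c, hc⟩ := hns x0
      apply hxy
      apply hρ
      rw [map_mul, map_mul, hc, smul_mul_assoc, one_mul, mul_smul_comm, mul_one]
  obtain ⟨n, hn⟩ := (Subgroup.isNilpotent_iff_lowerCentralSeries (frattini G)).1 frattini_nilpotent
  have hbot : π.ker.lowerCentralSeries n = ⊥ :=
    le_bot_iff.1 (hn ▸ Subgroup.lowerCentralSeries_mono n (ker_le_frattini hπ hmin))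
  have hex : ∃ j, π.ker.lowerCentralSeries j ≤ Subgroup.center G := ⟨n, by rw [hbot]; exact bot_le⟩
  obtain ⟨i, hi⟩ : ∃ i, Nat.find hex = i + 1 :=
    ⟨Nat.find hex - 1, by
      have : Nat.find hex ≠ 0 := fun e => hK (by
        have := Nat.find_spec hex; rw [e] at this; simpa using this)
      omega⟩
  have hnext := Nat.find_spec hex
  rw [hi, Subgroup.lowerCentralSeries_succ] at hnext
  obtain ⟨a, ha, haZ⟩ := SetLike.not_le_iff_exists.1 (Nat.find_min hex (show i < Nat.find hex by omega))
  let q : G →* G ⧸ Subgroup.center G := QuotientGroup.mk' _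
  let Q0 : Subgroup (G ⧸ Subgroup.center G) := π.ker.map q
  haveI hQ0 : Q0.Normal := Subgroup.Normal.map inferInstance q (QuotientGroup.mk'_surjective _)
  let C : Subgroup (G ⧸ Subgroup.center G) := Q0 ⊓ Subgroup.centralizer (Q0 : Set _)
  haveI hC : C.Normal := inferInstanceAs (Q0 ⊓ Subgroup.centralizer (Q0 : Set _)).Normal
  have hCc : ∀ a ∈ C, ∀ b ∈ C, a * b = b * a := fun a ha b hb =>
    ((Subgroup.mem_centralizer_iff.1 ha.2) b hb.1).symm
  have hqa : q a ∈ C := by
    refine ⟨Subgroup.mem_map_of_mem q (Subgroup.lowerCentralSeries_antitone _ (Nat.zero_le i) ha),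
      Subgroup.mem_centralizer_iff.2 ?_⟩
    rintro _ ⟨x, hx, rfl⟩
    rw [eq_comm, ← commutatorElement_eq_one_iff_mul_comm, ← map_commutatorElement]
    exact (QuotientGroup.eq_one_iff _).2 (hnext (Subgroup.commutator_mem_commutator ha hx))
  have hqa1 : q a ≠ 1 := fun e => haZ ((QuotientGroup.eq_one_iff a).1 e)
  obtain ⟨s, hs, hsd⟩ := Nat.exists_prime_and_dvd (orderOf_eq_one_iff.not.2 hqa1)
  haveI := Fact.mk hs
  let E : Subgroup (G ⧸ Subgroup.center G) :=
    { carrier := {e | e ∈ C ∧ e ^ s = 1}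
      one_mem' := ⟨one_mem _, one_pow _⟩
      mul_mem' := fun {x y} hx hy => ⟨mul_mem hx.1 hy.1, by
        rw [Commute.mul_pow (hCc x hx.1 y hy.1), hx.2, hy.2, one_mul]⟩
      inv_mem' := fun {x} hx => ⟨inv_mem hx.1, by rw [inv_pow, hx.2, inv_one]⟩ }
  haveI : E.Normal := ⟨fun e he g => ⟨hC.conj_mem e he.1 g, by rw [conj_pow, he.2]; group⟩⟩
  refine hB (bound_of_small_radical ρ hρ hr hπ hmin IH hab s E
    (fun a ha b hb => hCc a ha.1 b hb.1) (fun a ha => ha.2) ?_)
  intro hE
  obtain ⟨t, ht⟩ := hsd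
  have hmem : q a ^ t ∈ E := ⟨pow_mem hqa _, by rw [← pow_mul, mul_comm, ← ht, pow_orderOf_eq_one]⟩
  rw [hE, Subgroup.mem_bot, ← orderOf_dvd_iff_pow_eq_one, ht] at hmem
  have ht0 : 0 < t := Nat.pos_of_ne_zero fun e => by
    rw [e, mul_zero] at ht
    exact (orderOf_pos (q a)).ne' ht
  have := Nat.le_of_dvd ht0 hmem
  have := hs.two_le
  nlinarith

theorem claim_all (hr : 9 ≤ r) : ∀ n, Claim r n := by
  intro n
  induction n using Nat.strong_induction_on with | _ n IH => ?_
  intro k _ _ V _ _ _ G _ _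
  induction hG : Nat.card G using Nat.strong_induction_on generalizing G with | _ N IHG => ?_
  intro ρ π hρ hπ hn
  by_cases hmin : ∀ H : Subgroup G, H ≠ ⊤ → H.map π ≠ ⊤
  · subst hn
    exact bound_minimal ρ hρ hr hπ hmin IH
  · push Not at hmin
    obtain ⟨H, hH, hHπ⟩ := hmin
    have hlt : Nat.card H < N :=
      hG ▸ lt_of_le_of_ne H.card_le_card_group fun e => hH (H.eq_top_of_card_eq e)
    refine IHG _ hlt H rfl (ρ.comp H.subtype) (π.comp H.subtype)
      (hρ.comp H.subtype_injective) ?_ hn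
    intro x
    obtain ⟨g, hg, rfl⟩ := (show x ∈ H.map π by rw [hHπ]; trivial)
    exact ⟨⟨g, hg⟩, rfl⟩

end Cfsg.Agent.AltSection
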