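import Cfsg.Agent.Lib.AltSection.Perms
import Mathlib.Algebra.Algebra.Basic
import Mathlib.Algebra.Module.LinearMap.End
import Mathlib.LinearAlgebra.FiniteDimensional.Lemmas
import Mathlib.LinearAlgebra.Quotient.Basic

/-!
Systems of operators attached to the three-cycles of an alternating group, behaving like the
canonical lifts of the three-cycles in a projective representation.
-/

set_option autoImplicit false

namespace Cfsg.Agent.AltSection

open Equiv

/-- The conjugation-equivariant family of operators of order three. -/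
structure TriSys (k : Type*) [Field k] (V : Type*) [AddCommGroup V] [Module k V] (r : ℕ) where
  L : Fin r → Fin r → Fin r → Module.End k V
  rot : ∀ a b c, D3 a b c → L a b c = L b c a
  cube : ∀ a b c, D3 a b c → L a b c * L a b c * L a b c = 1
  mul_inv : ∀ a b c, D3 a b c → L a b c * L a c b = 1
  conj : ∀ a b c d e f, D3 a b c → D3 d e f →
    L a b c * L d e f = L (cyc a b c d) (cyc a b c e) (cyc a b c f) * L a b c
  rel : ∀ a b c d, [a, b, c, d].Nodup →
    ∃ κ : k, (L a b c * L b c d) * (L a b c * L b c d) = κ • 1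
  quint : ∀ a b c d e, [a, b, c, d, e].Nodup →
    ∃ ε η : k, (L a b c * L c d e) ^ 5 = ε • 1 ∧
      L a c e * L e b d = η • ((L a b c * L c d e) * (L a b c * L c d e))

namespace TriSys

variable {k : Type*} [Field k] {V : Type*} [AddCommGroup V] [Module k V] {r : ℕ}
  (S : TriSys k V r)

theorem rot' {a b c : Fin r} (h : D3 a b c) : S.L a b c = S.L c a b := by
  rw [S.rot a b c h, S.rot b c a h.rot]

theorem inv_mul {a b c : Fin r} (h : D3 a b c) : S.L a c b * S.L a b c = 1 :=
  S.mul_inv a c b h.swap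

/-- The operator of a three-cycle as a unit. -/
def unit {a b c : Fin r} (h : D3 a b c) : (Module.End k V)ˣ :=
  ⟨S.L a b c, S.L a c b, S.mul_inv a b c h, S.inv_mul h⟩

@[simp] theorem coe_unit {a b c : Fin r} (h : D3 a b c) : (S.unit h : Module.End k V) = S.L a b c :=
  rfl

theorem swap_eq_sq {a b c : Fin r} (h : D3 a b c) : S.L a c b = S.L a b c * S.L a b c := by
  calc S.L a c b = S.L a c b * (S.L a b c * S.L a b c * S.L a b c) := by
        rw [S.cube a b c h, mul_one]
    _ = (S.L a c b * S.L a b c) * (S.L a b c * S.L a b c) := by simp only [mul_assoc]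
    _ = S.L a b c * S.L a b c := by rw [S.inv_mul h, one_mul]

/-- `σ` is realised by `T`. -/
def Moves (σ : Perm (Fin r)) (T : (Module.End k V)ˣ) : Prop :=
  ∀ a b c, D3 a b c → (T : Module.End k V) * S.L a b c = S.L (σ a) (σ b) (σ c) * T

theorem moves_one : S.Moves 1 1 := fun a b c _ => by simp

theorem Moves.mul {σ τ : Perm (Fin r)} {T U : (Module.End k V)ˣ} (hσ : S.Moves σ T)
    (hτ : S.Moves τ U) : S.Moves (σ * τ) (T * U) := by
  intro a b c h
  rw [Units.val_mul, mul_assoc, hτ a b c h, ← mul_assoc, hσ _ _ _ (h.map τ.injective), mul_assoc]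
  rfl

theorem Moves.inv {σ : Perm (Fin r)} {T : (Module.End k V)ˣ} (hσ : S.Moves σ T) :
    S.Moves σ⁻¹ T⁻¹ := by
  intro a b c h
  have e := hσ _ _ _ (h.map (σ⁻¹).injective)
  simp only [Perm.inv_def, Equiv.apply_symm_apply] at e ⊢
  rw [Units.inv_mul_eq_iff_eq_mul, ← mul_assoc, e, mul_assoc, Units.mul_inv, mul_one]

theorem moves_cyc {a b c : Fin r} (h : D3 a b c) : S.Moves (cyc a b c) (S.unit h) :=
  fun d e f h' => S.conj a b c d e f h h'

theorem exists_moves {σ : Perm (Fin r)} (hσ : σ ∈ alternatingGroup (Fin r)) :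
    ∃ T, S.Moves σ T := by
  rw [← Perm.closure_three_cycles_eq_alternating] at hσ
  induction hσ using Subgroup.closure_induction with
  | mem x hx =>
    obtain ⟨a, b, c, h, rfl⟩ := exists_eq_cyc hx
    exact ⟨_, S.moves_cyc h⟩
  | one => exact ⟨1, S.moves_one⟩
  | mul x y _ _ hx hy =>
    obtain ⟨T, hT⟩ := hx; obtain ⟨U, hU⟩ := hy
    exact ⟨T * U, Moves.mul S hT hU⟩
  | inv x _ hx =>
    obtain ⟨T, hT⟩ := hx
    exact ⟨T⁻¹, Moves.inv S hT⟩

/-- Even permutations with prescribed values are realised. -/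
theorem exists_move (s t : List (Fin r)) (hs : s.Nodup) (ht : t.Nodup)
    (hl : s.length = t.length) (hr : s.length + 2 ≤ r) :
    ∃ (σ : Perm (Fin r)) (T : (Module.End k V)ˣ), s.map σ = t ∧ S.Moves σ T := by
  obtain ⟨σ, hσ, he⟩ := exists_even (fun i : Fin s.length => s.get i)
    (fun i : Fin s.length => t.get (Fin.cast hl i)) (List.nodup_iff_injective_get.1 hs)
    ((List.nodup_iff_injective_get.1 ht).comp (Fin.cast_injective hl)) hr
  obtain ⟨T, hT⟩ := S.exists_moves hσ
  refine ⟨σ, T, List.ext_get (by simpa using hl) fun i h1 h2 => ?_, hT⟩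
  have := he ⟨i, by simpa using h1⟩
  simpa using this

/-- All the operators are trivial. -/
def Triv : Prop := ∀ a b c, D3 a b c → S.L a b c = 1

theorem eq_one_of_eq_one (hr : 5 ≤ r) {a b c : Fin r} (h : D3 a b c) (h1 : S.L a b c = 1) :
    S.Triv := by
  intro d e f h'
  obtain ⟨σ, T, hσ, hT⟩ := S.exists_move [a, b, c] [d, e, f]
    (by simp [h.1, h.2.1, h.2.2.symm]) (by simp [h'.1, h'.2.1, h'.2.2.symm]) rfl (by simpa using hr)
  simp only [List.map_cons, List.map_nil, List.cons.injEq, and_true] at hσ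
  have e' := hT a b c h
  rw [h1, mul_one, hσ.1, hσ.2.1, hσ.2.2] at e'
  exact T.mul_left_inj.1 (e'.symm.trans (one_mul _).symm)

theorem eq_one_of_scalar (hr : 5 ≤ r) {a b c : Fin r} (h : D3 a b c) {μ : k}
    (hμ : S.L a b c = μ • 1) : S.L a b c = 1 := by
  obtain ⟨σ, T, hσ, hT⟩ := S.exists_move [a, b, c] [a, c, b]
    (by simp [h.1, h.2.1, h.2.2.symm]) (by simp [h.1, h.2.1.symm, h.2.2.symm]) rfl
    (by simpa using hr)
  simp only [List.map_cons, List.map_nil, List.cons.injEq, and_true] at hσ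
  have e' := hT a b c h
  rw [hσ.1, hσ.2.1, hσ.2.2, hμ, mul_smul_comm, mul_one] at e'
  have e2 : S.L a c b = μ • 1 := by
    have := congr($e' * ((T⁻¹ : (Module.End k V)ˣ) : Module.End k V))
    rw [mul_assoc, Units.mul_inv, mul_one, smul_mul_assoc, Units.mul_inv] at this
    exact this.symm
  have e3 := S.cube a b c h
  have e4 := S.mul_inv a b c h
  rw [e2] at e4
  rw [hμ] at e3 e4 ⊢
  simp only [smul_mul_assoc, mul_smul_comm, smul_smul, mul_one] at e3 e4
  calc μ • (1 : Module.End k V) = μ • ((μ * μ) • 1) := by rw [e4]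
    _ = 1 := by rw [smul_smul]; exact e3

/-- If the operator only depends on two of the three points it is trivial. -/
theorem triv_of_eq (hr : 5 ≤ r)
    (h : ∀ b c d e, [b, c, d, e].Nodup → S.L b c d = S.L b c e) : S.Triv := by
  obtain ⟨f, hf, -⟩ := exists_fresh (r := r) (m := 4) [] (by simp; omega)
  set b := f 0; set c := f 1; set d := f 2; set e := f 3
  have hne : ∀ i j : Fin 4, i ≠ j → f i ≠ f j := fun i j hij => hf.ne hij
  have hbc : b ≠ c := hne _ _ (by decide)
  have hbd : b ≠ d := hne _ _ (by decide)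
  have hbe : b ≠ e := hne _ _ (by decide)
  have hcd : c ≠ d := hne _ _ (by decide)
  have hce : c ≠ e := hne _ _ (by decide)
  have hde : d ≠ e := hne _ _ (by decide)
  have e1 : S.L b c d = S.L b c e := h b c d e (by simp [*])
  have e2 : S.L c d b = S.L c d e := h c d b e (by simp [*, Ne.symm hbc, Ne.symm hbd])
  have e3 : S.L d e c = S.L d e b := h d e c b
    (by simp [*, Ne.symm hbc, Ne.symm hbd, Ne.symm hbe, Ne.symm hcd, Ne.symm hce])
  have hx : D3 b c d := ⟨hbc, hcd, hbd.symm⟩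
  have k1 : S.L d e b = S.L b c d := by
    rw [← e3, S.rot' (a := d) (b := e) (c := c) ⟨hde, hce.symm, hcd⟩, ← e2, ← S.rot b c d hx]
  have hcj := S.conj b c d d e b hx ⟨hde, hbe.symm, hbd⟩
  rw [cyc_apply_thd hx, cyc_apply_of_ne hbe.symm hce.symm hde.symm, cyc_apply_fst hx, k1] at hcj
  have k2 : S.L b e c = S.L b c d := ((S.unit hx).mul_left_inj.1 hcj).symm
  have k3 := S.mul_inv b c e ⟨hbc, hce, hbe.symm⟩
  rw [k2, ← e1] at k3
  have k4 := S.cube b c d hx
  rw [k3, one_mul] at k4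
  exact S.eq_one_of_eq_one hr hx k4

/-- The lift of a double transposition. -/
def Tq (a b c d : Fin r) : Module.End k V := S.L a b c * S.L b c d

theorem exists_kappa (hr : 6 ≤ r) :
    ∃ κ : k, κ * κ = 1 ∧ ∀ a b c d, [a, b, c, d].Nodup →
      S.Tq a b c d * S.Tq a b c d = κ • 1 := by
  rcases subsingleton_or_nontrivial V with hV | hV
  · exact ⟨1, one_mul 1, fun _ _ _ _ _ => Subsingleton.elim _ _⟩
  obtain ⟨f, hf, -⟩ := exists_fresh (r := r) (m := 4) [] (by simp; omega)
  have hnd : [f 0, f 1, f 2, f 3].Nodup := by simp [hf.eq_iff]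
  obtain ⟨κ, hκ⟩ := S.rel _ _ _ _ hnd
  have key : ∀ a b c d, [a, b, c, d].Nodup → S.Tq a b c d * S.Tq a b c d = κ • 1 := by
    intro a b c d h
    obtain ⟨σ, T, hσ, hT⟩ := S.exists_move _ [a, b, c, d] hnd h rfl (by simp; omega)
    simp only [List.map_cons, List.map_nil, List.cons.injEq, and_true] at hσ
    have h1 : D3 (f 0) (f 1) (f 2) := ⟨hf.ne (by decide), hf.ne (by decide), hf.ne (by decide)⟩
    have h2 : D3 (f 1) (f 2) (f 3) := ⟨hf.ne (by decide), hf.ne (by decide), hf.ne (by decide)⟩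
    have m : (T : Module.End k V) * S.Tq (f 0) (f 1) (f 2) (f 3) = S.Tq a b c d * T := by
      rw [Tq, Tq, ← mul_assoc, hT _ _ _ h1, mul_assoc, hT _ _ _ h2, ← mul_assoc,
        hσ.1, hσ.2.1, hσ.2.2.1, hσ.2.2.2]
    have m2 : (T : Module.End k V) * (S.Tq (f 0) (f 1) (f 2) (f 3) * S.Tq (f 0) (f 1) (f 2) (f 3))
        = S.Tq a b c d * S.Tq a b c d * T := by
      rw [← mul_assoc, m, mul_assoc, m, mul_assoc]
    rw [Tq, hκ, mul_smul_comm, mul_one] at m2
    apply T.mul_left_inj.1
    rw [smul_mul_assoc, one_mul, m2]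
  refine ⟨κ, ?_, key⟩
  set a := f 0; set b := f 1; set c := f 2; set d := f 3
  have hne : a ≠ b ∧ a ≠ c ∧ a ≠ d ∧ b ≠ c ∧ b ≠ d ∧ c ≠ d := by
    simpa [List.nodup_cons, and_assoc] using hnd
  obtain ⟨hab, hac, had, hbc, hbd, hcd⟩ := hne
  have h1 : D3 a b c := ⟨hab, hbc, hac.symm⟩
  have h2 : D3 b c d := ⟨hbc, hcd, hbd.symm⟩
  have h3 : [d, c, b, a].Nodup := by
    simp [hab.symm, hac.symm, had.symm, hbc.symm, hbd.symm, hcd.symm]
  have i1 : S.Tq d c b a * S.Tq a b c d = 1 := by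
    rw [Tq, Tq, S.rot' (a := c) (b := b) (c := a) ⟨hbc.symm, hab.symm, hac⟩,
      mul_assoc, ← mul_assoc (S.L a c b), S.inv_mul h1, one_mul,
      S.rot' (a := d) (b := c) (c := b) ⟨hcd.symm, hbc.symm, hbd⟩, S.inv_mul h2]
  have i2 : S.Tq d c b a * S.Tq d c b a * (S.Tq a b c d * S.Tq a b c d) = 1 := by
    rw [mul_assoc, ← mul_assoc (S.Tq d c b a) (S.Tq a b c d), i1, one_mul, i1]
  rw [key _ _ _ _ h3, key _ _ _ _ hnd, smul_mul_assoc, one_mul, smul_smul] at i2
  obtain ⟨v, hv⟩ := exists_ne (0 : V)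
  have := LinearMap.congr_fun i2 v
  simp only [LinearMap.smul_apply, Module.End.one_apply] at this
  exact (smul_left_injective k hv) (this.trans (one_smul k v).symm)

theorem commute_of_disjoint {a b c d e f : Fin r} (h : [a, b, c, d, e, f].Nodup) :
    Commute (S.L a b c) (S.L d e f) := by
  simp only [List.nodup_cons, List.mem_cons, List.not_mem_nil, or_false, not_or] at h
  obtain ⟨⟨hab, hac, had, hae, haf⟩, ⟨hbc, hbd, hbe, hbf⟩, ⟨hcd, hce, hcf⟩, ⟨hde, hdf⟩, hef, -⟩ := h
  have e := S.conj a b c d e f ⟨hab, hbc, Ne.symm hac⟩ ⟨hde, hef, Ne.symm hdf⟩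
  rwa [cyc_apply_of_ne (Ne.symm had) (Ne.symm hbd) (Ne.symm hcd),
    cyc_apply_of_ne (Ne.symm hae) (Ne.symm hbe) (Ne.symm hce),
    cyc_apply_of_ne (Ne.symm haf) (Ne.symm hbf) (Ne.symm hcf)] at e

/-- Restriction to fewer points. -/
def comap {m : ℕ} (f : Fin m → Fin r) (hf : Function.Injective f) : TriSys k V m where
  L a b c := S.L (f a) (f b) (f c)
  rot a b c h := S.rot _ _ _ (h.map hf)
  cube a b c h := S.cube _ _ _ (h.map hf)
  mul_inv a b c h := S.mul_inv _ _ _ (h.map hf)
  rel a b c d h := S.rel (f a) (f b) (f c) (f d) (by simpa using h.map hf)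
  quint a b c d e h := S.quint (f a) (f b) (f c) (f d) (f e) (by simpa using h.map hf)
  conj a b c d e g h h' := by
    have h3 := h.map hf
    have key : ∀ x, cyc (f a) (f b) (f c) (f x) = f (cyc a b c x) := fun x => by
      by_cases h1 : x = a
      · rw [h1, cyc_apply_fst h, cyc_apply_fst h3]
      by_cases h2 : x = b
      · rw [h2, cyc_apply_snd h, cyc_apply_snd h3]
      by_cases h4 : x = c
      · rw [h4, cyc_apply_thd h, cyc_apply_thd h3]
      rw [cyc_apply_of_ne h1 h2 h4, cyc_apply_of_ne (hf.ne h1) (hf.ne h2) (hf.ne h4)]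
    have := S.conj (f a) (f b) (f c) (f d) (f e) (f g) h3 (h'.map hf)
    rwa [key, key, key] at this

@[simp] theorem comap_L {m : ℕ} (f : Fin m → Fin r) (hf : Function.Injective f) (a b c : Fin m) :
    (S.comap f hf).L a b c = S.L (f a) (f b) (f c) := rfl

theorem triv_of_comap {m : ℕ} (hr : 5 ≤ r) (hm : 3 ≤ m) (f : Fin m → Fin r)
    (hf : Function.Injective f) (h : (S.comap f hf).Triv) : S.Triv := by
  have h3 : D3 (⟨0, by omega⟩ : Fin m) ⟨1, by omega⟩ ⟨2, by omega⟩ := by
    simp [D3, Fin.ext_iff]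
  exact S.eq_one_of_eq_one hr (h3.map hf) (h _ _ _ h3)

/-- Invariance of a subspace. -/
def Inv (U : Submodule k V) : Prop := ∀ a b c, D3 a b c → ∀ v ∈ U, S.L a b c v ∈ U

/-- The system on an invariant subspace. -/
noncomputable def sub (U : Submodule k V) (hU : S.Inv U) : TriSys k U r where
  L a b c := open Classical in if h : D3 a b c then (S.L a b c).restrict (hU a b c h) else 1
  rot a b c h := by
    ext v; rw [dif_pos h, dif_pos h.rot]; simp [S.rot a b c h]
  cube a b c h := by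
    ext v; rw [dif_pos h]
    simpa using LinearMap.congr_fun (S.cube a b c h) (v : V)
  mul_inv a b c h := by
    ext v; rw [dif_pos h, dif_pos h.swap]
    simpa using LinearMap.congr_fun (S.mul_inv a b c h) (v : V)
  conj a b c d e f h h' := by
    ext v; rw [dif_pos h, dif_pos h', dif_pos (h'.map (Equiv.injective _))]
    simpa using LinearMap.congr_fun (S.conj a b c d e f h h') (v : V)
  rel a b c d h := by
    obtain ⟨κ, hκ⟩ := S.rel a b c d h
    refine ⟨κ, ?_⟩
    simp only [List.nodup_cons, List.mem_cons, List.not_mem_nil, or_false, not_or] at h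
    obtain ⟨⟨hab, hac, had⟩, ⟨hbc, hbd⟩, hcd, -⟩ := h
    ext v; rw [dif_pos ⟨hab, hbc, Ne.symm hac⟩, dif_pos ⟨hbc, hcd, Ne.symm hbd⟩]
    simpa using LinearMap.congr_fun hκ (v : V)
  quint a b c d e h := by
    obtain ⟨ε, η, hε, hη⟩ := S.quint a b c d e h
    refine ⟨ε, η, ?_⟩
    simp only [List.nodup_cons, List.mem_cons, List.not_mem_nil, or_false, not_or] at h
    obtain ⟨⟨hab, hac, had, hae⟩, ⟨hbc, hbd, hbe⟩, ⟨hcd, hce⟩, hde, -⟩ := h
    rw [dif_pos ⟨hab, hbc, Ne.symm hac⟩, dif_pos ⟨hcd, hde, Ne.symm hce⟩,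
      dif_pos ⟨hac, hce, Ne.symm hae⟩, dif_pos ⟨Ne.symm hbe, hbd, hde⟩]
    constructor
    · ext v
      simpa [pow_succ] using LinearMap.congr_fun hε (v : V)
    · ext v
      simpa using LinearMap.congr_fun hη (v : V)

theorem sub_apply (U : Submodule k V) (hU : S.Inv U) {a b c : Fin r} (h : D3 a b c) (v : U) :
    ((S.sub U hU).L a b c v : V) = S.L a b c v := by
  simp [sub, h]

/-- The system on the quotient by an invariant subspace. -/
noncomputable def quot (U : Submodule k V) (hU : S.Inv U) : TriSys k (V ⧸ U) r where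
  L a b c := open Classical in if h : D3 a b c then U.mapQ U (S.L a b c) (hU a b c h) else 1
  rot a b c h := by
    ext v; rw [dif_pos h, dif_pos h.rot]; simp [S.rot a b c h]
  cube a b c h := by
    ext v; rw [dif_pos h]
    simpa using congr(U.mkQ $(LinearMap.congr_fun (S.cube a b c h) v))
  mul_inv a b c h := by
    ext v; rw [dif_pos h, dif_pos h.swap]
    simpa using congr(U.mkQ $(LinearMap.congr_fun (S.mul_inv a b c h) v))
  conj a b c d e f h h' := by
    ext v; rw [dif_pos h, dif_pos h', dif_pos (h'.map (Equiv.injective _))]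
    simpa using congr(U.mkQ $(LinearMap.congr_fun (S.conj a b c d e f h h') v))
  rel a b c d h := by
    obtain ⟨κ, hκ⟩ := S.rel a b c d h
    refine ⟨κ, ?_⟩
    simp only [List.nodup_cons, List.mem_cons, List.not_mem_nil, or_false, not_or] at h
    obtain ⟨⟨hab, hac, had⟩, ⟨hbc, hbd⟩, hcd, -⟩ := h
    ext v; rw [dif_pos ⟨hab, hbc, Ne.symm hac⟩, dif_pos ⟨hbc, hcd, Ne.symm hbd⟩]
    simpa using congr(U.mkQ $(LinearMap.congr_fun hκ v))
  quint a b c d e h := by
    obtain ⟨ε, η, hε, hη⟩ := S.quint a b c d e h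
    refine ⟨ε, η, ?_⟩
    simp only [List.nodup_cons, List.mem_cons, List.not_mem_nil, or_false, not_or] at h
    obtain ⟨⟨hab, hac, had, hae⟩, ⟨hbc, hbd, hbe⟩, ⟨hcd, hce⟩, hde, -⟩ := h
    rw [dif_pos ⟨hab, hbc, Ne.symm hac⟩, dif_pos ⟨hcd, hde, Ne.symm hce⟩,
      dif_pos ⟨hac, hce, Ne.symm hae⟩, dif_pos ⟨Ne.symm hbe, hbd, hde⟩]
    constructor
    · ext v
      simpa [pow_succ] using congr(U.mkQ $(LinearMap.congr_fun hε v))
    · ext v
      simpa using congr(U.mkQ $(LinearMap.congr_fun hη v))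

theorem quot_apply (U : Submodule k V) (hU : S.Inv U) {a b c : Fin r} (h : D3 a b c) (v : V) :
    (S.quot U hU).L a b c (U.mkQ v) = U.mkQ (S.L a b c v) := by
  simp [quot, h]

theorem map_inv_of_moves {σ : Perm (Fin r)} {T : (Module.End k V)ˣ} (hT : S.Moves σ T)
    {a b c : Fin r} (h : D3 a b c) (v : V) :
    (T : Module.End k V) (S.L a b c v) = S.L (σ a) (σ b) (σ c) ((T : Module.End k V) v) :=
  LinearMap.congr_fun (hT a b c h) v

end TriSys

end Cfsg.Agent.AltSection
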